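import Mathlib.AlgebraicGeometry.Morphisms.Etale
import Mathlib.AlgebraicGeometry.Morphisms.QuasiFinite
import Mathlib.AlgebraicGeometry.Morphisms.FlatMono
import Mathlib.AlgebraicGeometry.Artinian
import Mathlib.RingTheory.Unramified.Field
import Mathlib.RingTheory.Flat.FaithfullyFlat.Basic
import Mathlib.RingTheory.Flat.FaithfullyFlat.Algebra
import Mathlib.RingTheory.Unramified.LocalStructure
import Mathlib.RingTheory.Etale.Field

/-!
Schemes etale over (the spectrum of) a field, flat local maps to fields, monomorphisms to fields.
-/

set_option autoImplicit false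
universe u
open CategoryTheory CategoryTheory.Limits AlgebraicGeometry Topology TopologicalSpace Opposite

namespace K619.EtField

theorem locallyQuasiFinite_of_etale {X Y : Scheme.{u}} (f : X ⟶ Y) [Etale f] :
    LocallyQuasiFinite f where
  quasiFinite_appLE {U} hU {V} hV e := by
    have h := HasRingHomProperty.appLE @AlgebraicGeometry.Etale f ‹_› ⟨U, hU⟩ ⟨V, hV⟩ e
    algebraize [(f.appLE U V e).hom]
    change Algebra.QuasiFinite Γ(Y, U) Γ(X, V)
    infer_instance

/-- A scheme etale over a field is reduced. -/
theorem isReduced_of_etale {K : Type u} [Field K] {W : Scheme.{u}} (f : W ⟶ Spec (CommRingCat.of K))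
    [Etale f] : IsReduced W := by
  refine (IsReduced.iff_of_openCover _ W.affineCover).2 fun i => ?_
  obtain ⟨φ, hφ⟩ := Spec.map_surjective (W.affineCover.f i ≫ f)
  have h1 : Etale (Spec.map φ) := by
    rw [hφ]
    exact (inferInstance : Etale (W.affineCover.f i ≫ f))
  have h2 : φ.hom.Etale := (HasRingHomProperty.Spec_iff (P := @Etale)).1 h1
  letI : Algebra K (W.affineOpenCover.X i) := φ.hom.toAlgebra
  have h3 : Algebra.Etale K (W.affineOpenCover.X i) := h2
  have h4 : _root_.IsReduced (W.affineOpenCover.X i) :=
    Algebra.FormallyUnramified.isReduced_of_field K _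
  exact (inferInstance : IsReduced (Spec (W.affineOpenCover.X i)))

theorem discreteTopology_of_etale {K : Type u} [Field K] {W : Scheme.{u}}
    (f : W ⟶ Spec (CommRingCat.of K)) [Etale f] : DiscreteTopology W := by
  have : LocallyQuasiFinite f := locallyQuasiFinite_of_etale f
  have h := f.isDiscrete_preimage_singleton (default : Spec (CommRingCat.of K))
  have h2 : f ⁻¹' {(default : Spec (CommRingCat.of K))} = Set.univ := by
    ext x
    simp [Subsingleton.elim (f x) default]
  rw [h2] at h
  exact isDiscrete_univ_iff.mp h

/-- the stalks of a discrete reduced scheme are fields -/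
theorem isField_stalk_of_discrete {W : Scheme.{u}} [DiscreteTopology W] [IsReduced W] (w : W) :
    IsField (W.presheaf.stalk w) := by
  refine isField_stalk_of_closure_mem_irreducibleComponents W w ?_
  have hw : closure ({w} : Set W) = {w} := closure_discrete _
  rw [hw]
  refine ⟨isIrreducible_singleton, fun Z hZ hle y hy => ?_⟩
  have hs : Z.Subsingleton := by
    have := hZ.2
    rwa [isPreirreducible_iff_subsingleton] at this
  exact hs hy (hle rfl)

theorem isField_stalk_of_etale {K : Type u} [Field K] {W : Scheme.{u}}
    (f : W ⟶ Spec (CommRingCat.of K)) [Etale f] (w : W) : IsField (W.presheaf.stalk w) := by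
  have := isReduced_of_etale f
  have := discreteTopology_of_etale f
  exact isField_stalk_of_discrete w

/-- A local ring with a flat local homomorphism to a field is a field. -/
theorem isField_of_flat {A B : Type*} [CommRing A] [IsLocalRing A] [CommRing B] (hB : IsField B)
    (φ : A →+* B) [IsLocalHom φ] (hφ : φ.Flat) : IsField A := by
  algebraize [φ]
  let _ := hB.toField
  have : IsLocalHom (algebraMap A B) := ‹IsLocalHom φ›
  have hff : Module.FaithfullyFlat A B := Module.FaithfullyFlat.of_flat_of_isLocalHom
  have hinj : Function.Injective (algebraMap A B) :=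
    FaithfulSMul.algebraMap_injective A B
  rw [IsLocalRing.isField_iff_maximalIdeal_eq, eq_bot_iff]
  intro x hx
  rw [Ideal.mem_bot]
  apply hinj
  rw [map_zero]
  by_contra h
  have : IsUnit (algebraMap A B x) := isUnit_iff_ne_zero.2 h
  exact (IsLocalRing.mem_maximalIdeal _).1 hx (isUnit_of_map_unit (algebraMap A B) x this)

/-- A monomorphism from a nonempty scheme to the spectrum of a field is an isomorphism. -/
theorem isIso_of_mono_field {K : Type u} [Field K] {T : Scheme.{u}}
    (f : T ⟶ Spec (CommRingCat.of K)) [Mono f] [Nonempty T] : IsIso f := by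
  have hs : Subsingleton T := ⟨fun a b => f.injective (Subsingleton.elim _ _)⟩
  have : QuasiCompact f := by
    refine ⟨fun U _ _ => ?_⟩
    exact (Set.toFinite _).isCompact
  have : Surjective f := ⟨fun y => ⟨Classical.arbitrary T, Subsingleton.elim _ _⟩⟩
  have : Flat f := inferInstance
  exact Flat.isIso_of_surjective_of_mono f

end K619.EtField
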