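import Groth.Agent.AlgSp.K619.QCPoint
import Groth.Agent.AlgSp.K622.MonoQuot

/-!
# Finite fibres and quasi-compact mono points (S10360, S10361)
-/

set_option autoImplicit false
universe u
open CategoryTheory CategoryTheory.Limits AlgebraicGeometry Opposite Topology

namespace K619.FinQC

open AlgSp K621.Base K619.FinFib K621.Decent K619.QCPoint

variable {S : Scheme.{u}}

theorem exists_qc_mono {X : Sp S} (hX : IsAlgSpace X) {x : Points X} (h : FinFibres2 X x) :
    ∃ p : FieldPt X, Points.mk p = x ∧ Mono p.toHom ∧ RepWith @QuasiCompact p.toHom := by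
  obtain ⟨q, R, s, t, hq, sq, ht, hs, hc⟩ := exists_fieldPt_finite_etale hX h
  have hsq : QuasiCompact s.left := by
    have : IsAffine q.pt.left := inferInstanceAs (IsAffine (Spec (CommRingCat.of q.K)))
    exact (quasiCompact_iff_compactSpace s.left).2 hc
  obtain ⟨p, hp, hm⟩ := K622.MonoQuot.exists_mono_point (k := q.K) (str := q.str) q.toHom sq hs hsq
  rw [K622.Basic.ofHom_toHom] at hp
  refine ⟨p, hp.trans hq, hm, repWith_quasiCompact_of_mono hX p hm ?_⟩
  rw [hp, hq]
  exact h.finFibres hX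

/-- (1) ⇔ (4) -/
theorem finFibres2_iff {X : Sp S} (hX : IsAlgSpace X) (x : Points X) :
    FinFibres2 X x ↔ ∃ p : FieldPt X, Points.mk p = x ∧ Mono p.toHom ∧ RepWith @QuasiCompact p.toHom := by
  refine ⟨exists_qc_mono hX, ?_⟩
  rintro ⟨p, rfl, -, hq⟩
  exact finFibres2_of_qc p hq

/-- (5) ⇒ (4) -/
theorem exists_qc_mono_of_qc {X : Sp S} (hX : IsAlgSpace X) (q : FieldPt X) (hq : RepWith @QuasiCompact q.toHom) :
    ∃ p : FieldPt X, Points.mk p = Points.mk q ∧ Mono p.toHom ∧ RepWith @QuasiCompact p.toHom :=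
  exists_qc_mono hX (finFibres2_of_qc q hq)

end K619.FinQC
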