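import Groth.Agent.AlgSp.K619.QCPoint
import Groth.Agent.AlgSp.K610.Factor
import Groth.Prelude.Def_AlgSpCov

/-!
# Decency is Zariski local

* `map_injective_of_mono` : a monomorphism of sheaves is injective on points.
* `isDecent_of_isZarCover` (S10364).
-/

set_option autoImplicit false
universe u
open CategoryTheory CategoryTheory.Limits AlgebraicGeometry Opposite Topology

namespace K619.ZarDec

open AlgSp K621.Base K619.FinFib K621.Decent

variable {S : Scheme.{u}}

theorem map_injective_of_mono {F G : Sp S} (f : F ⟶ G) [Mono f] : Function.Injective (Points.map f) := by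
  intro x y h
  induction x using Points.ind with
  | h p =>
  induction y using Points.ind with
  | h q =>
  rw [Points.map_mk, Points.map_mk, K619.Basic.mk_eq_mk_iff'] at h
  rw [K619.Basic.mk_eq_mk_iff']
  obtain ⟨Ω, K, w, a, b, e⟩ := h
  refine ⟨Ω, K, w, a, b, ?_⟩
  rw [FieldPt.toHom_map, FieldPt.toHom_map] at e
  have e' : ((yon S).map (show Over.mk w ⟶ p.pt from a) ≫ p.toHom) ≫ f =
      ((yon S).map (show Over.mk w ⟶ q.pt from b) ≫ q.toHom) ≫ f := by
    rw [Category.assoc, Category.assoc]
    exact e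
  exact (cancel_mono f).1 e'

/-- Finiteness of fibres is Zariski local (only jointly surjective étale monos are used). -/
theorem finFibres_of_cover {X : Sp S} {ι : Type u} (Xi : ι → Sp S) (hXi : ∀ i, IsAlgSpace (Xi i))
    (j : ∀ i, Xi i ⟶ X) (hj : ∀ i, RepWith @Etale (j i)) (hm : ∀ i, Mono (j i))
    (hs : ∀ x : Points X, ∃ i, x ∈ Set.range (Points.map (j i))) (x : Points X)
    (hx : ∀ i x', Points.map (j i) x' = x → FinFibres (Xi i) x') : FinFibres X x := by
  intro V b hV hb
  choose U a ha has using fun i => (hXi i).atlas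
  let I : Type u := Σ i, {W : (U i).left.Opens // IsAffine (openChart (U i) W).left}
  refine finite_fibre_of_family x (ι := I) (fun k => openChart (U k.1) k.2.1)
    (fun k => ((yon S).map (openChartι (U k.1) k.2.1) ≫ a k.1) ≫ j k.1)
    (fun k => repWith_etale_comp (repWith_openChart (ha k.1) k.2.1) (hj k.1)) ?_ ?_ b hb
  · intro y
    obtain ⟨i, y', rfl⟩ := hs y
    obtain ⟨u, rfl⟩ := ofPt_surjective (has i) y'
    obtain ⟨W, huW, -, hW⟩ := exists_affine_openChart u ⊤ trivial
    refine ⟨⟨i, W, hW⟩, (⟨u, huW⟩ : ↥W), ?_⟩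
    change Points.ofPt (((yon S).map (openChartι (U i) W) ≫ a i) ≫ j i) (⟨u, huW⟩ : ↥W) = _
    rw [← Points.map_ofPt]
    exact congrArg _ (ofPt_openChart (a i) W ⟨u, huW⟩)
  · rintro ⟨i, W, hW⟩
    change (Points.ofPt (((yon S).map (openChartι (U i) W) ≫ a i) ≫ j i) ⁻¹' {x}).Finite
    by_cases h : ∃ x', Points.map (j i) x' = x
    · obtain ⟨x', hx'⟩ := h
      have h1 := hx i x' hx' _ _ hW (repWith_openChart (ha i) W)
      refine h1.subset ?_
      intro w hw
      rw [Set.mem_preimage, ← Points.map_ofPt, Set.mem_singleton_iff, ← hx'] at hw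
      have := hm i
      exact map_injective_of_mono (j i) hw
    · have h1 : (Points.ofPt (((yon S).map (openChartι (U i) W) ≫ a i) ≫ j i) ⁻¹' {x}) = ∅ := by
        ext w
        simp only [Set.mem_preimage, Set.mem_singleton_iff, Set.mem_empty_iff_false, iff_false]
        intro hw
        rw [← Points.map_ofPt] at hw
        exact h ⟨_, hw⟩
      rw [h1]
      exact Set.finite_empty

theorem isDecent_of_isZarCover (X : AlgSp.Space S) {ι : Type u} (Xi : ι → AlgSp.Space S)
    (j : ∀ i, Xi i ⟶ X) (hj : AlgSp.IsZarCover (fun i => (Xi i).obj) (fun i => (j i).hom))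
    (hd : ∀ i, AlgSp.IsDecent (Xi i).obj) : AlgSp.IsDecent X.obj := by
  have hm : ∀ i, Mono (j i).hom := fun i => K610.Factor.mono_of_isOpenImmersion (hj.1 i)
  have he : ∀ i, RepWith @Etale (j i).hom := fun i =>
    K609.Points.repWith_mono (fun f (_ : IsOpenImmersion f) => (inferInstance : Etale f)) (hj.1 i)
  intro x
  obtain ⟨i, x', rfl⟩ := hj.2 x
  obtain ⟨p, rfl, hpm, hpq⟩ := hd i x'
  refine ⟨p.map (j i).hom, (Points.map_mk _ _).symm, ?_, ?_⟩
  · rw [FieldPt.toHom_map]
    exact @mono_comp _ _ _ _ _ _ hpm _ (hm i)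
  · refine K619.QCPoint.repWith_quasiCompact_of_mono X.property _ ?_ ?_
    · rw [FieldPt.toHom_map]
      exact @mono_comp _ _ _ _ _ _ hpm _ (hm i)
    · refine finFibres_of_cover (fun i => (Xi i).obj) (fun i => (Xi i).property) (fun i => (j i).hom) he hm hj.2 _ ?_
      intro k x'' _
      exact finFibres_of_isDecent (hd k) x''

end K619.ZarDec
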