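import Groth.Agent.AlgSp.K613.Cover

/-!
Locally surjective maps of fppf sheaves are surjective after one fppf covering of the test scheme.
-/

set_option autoImplicit false
universe u

open CategoryTheory CategoryTheory.Limits AlgebraicGeometry Opposite

namespace K619.LocSurj

open AlgSp K613.Basic K613.Cover

variable {S : Scheme.{u}} {F G H : Sp S}

instance : (@Flat ⊓ @LocallyOfFinitePresentation : MorphismProperty Scheme.{u}).IsMultiplicative where
  id_mem X := ⟨inferInstanceAs (Flat (𝟙 X)), inferInstanceAs (LocallyOfFinitePresentation (𝟙 X))⟩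
  comp_mem f g hf hg := by
    obtain ⟨_, _⟩ := hf
    obtain ⟨_, _⟩ := hg
    exact ⟨inferInstanceAs (Flat (f ≫ g)), inferInstanceAs (LocallyOfFinitePresentation (f ≫ g))⟩

/-- A covering sieve for the fppf topology contains a `u`-small jointly surjective family of flat
locally finitely presented morphisms. -/
theorem exists_family {T : Over S} {R : Sieve T} (hR : R ∈ J S T) :
    ∃ (ι : Type u) (T' : ι → Over S) (c : ∀ i, T' i ⟶ T), (∀ i, R (c i)) ∧ (∀ i, Flat (c i).left) ∧
      (∀ i, LocallyOfFinitePresentation (c i).left) ∧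
      ∀ t : T.left, ∃ (i : ι) (t' : (T' i).left), (c i).left t' = t := by
  rw [AlgSp.J_eq, GrothendieckTopology.mem_over_iff] at hR
  have h1 : (Sieve.overEquiv T) R ∈
      Scheme.grothendieckTopology (@Flat ⊓ @LocallyOfFinitePresentation) T.left := hR
  obtain ⟨𝒰, h𝒰⟩ := Scheme.exists_cover_of_mem_grothendieckTopology h1
  refine ⟨𝒰.I₀, fun i => Over.mk (𝒰.f i ≫ T.hom), fun i => Over.homMk (𝒰.f i), fun i => ?_,
    fun i => (𝒰.map_prop i).1, fun i => (𝒰.map_prop i).2, fun t => ?_⟩
  · have h2 : (Sieve.overEquiv T) R (𝒰.f i) := h𝒰 _ _ (Presieve.ofArrows.mk i)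
    rwa [Sieve.overEquiv_iff] at h2
  · obtain ⟨i, x, hx⟩ := 𝒰.exists_eq t
    exact ⟨i, x, hx⟩

/-- Two maps from an empty scheme are equal. -/
theorem eq_of_isEmpty {R : Over S} [IsEmpty R.left] (x y : (yon S).obj R ⟶ F) : x = y := by
  obtain ⟨z, -, hz⟩ := glueFam (F := F) (T := R) (ι := PEmpty.{u + 1}) (fun i => i.elim)
    (fun i => i.elim) (fun i => i.elim) (fun i => i.elim) (fun t => isEmptyElim t)
    (fun i => i.elim) (fun i => i.elim)
  exact (hz x fun i => i.elim).trans (hz y fun i => i.elim).symm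

/-- A family of maps from schemes glues to the coproduct. -/
theorem exists_sigma {T : Over S} {ι : Type u} (T' : ι → Over S) (c : ∀ i, T' i ⟶ T)
    (x : ∀ i, (yon S).obj (T' i) ⟶ H) :
    ∃ (V : Over S) (d : V ⟶ T) (j : ∀ i, T' i ⟶ V) (y : (yon S).obj V ⟶ H),
      (∀ i, j i ≫ d = c i) ∧ (∀ i, (yon S).map (j i) ≫ y = x i) ∧
      (∀ i, IsOpenImmersion (j i).left) ∧
      (∀ v : V.left, ∃ (i : ι) (t : (T' i).left), (j i).left t = v) ∧
      ∀ (P : MorphismProperty Scheme.{u}) [IsZariskiLocalAtSource P], (∀ i, P (c i).left) →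
        P d.left := by
  let V₀ : Scheme.{u} := ∐ fun i => (T' i).left
  let d₀ : V₀ ⟶ T.left := Sigma.desc fun i => (c i).left
  let V : Over S := Over.mk (d₀ ≫ T.hom)
  let d : V ⟶ T := Over.homMk d₀ rfl
  let j : ∀ i, T' i ⟶ V := fun i => Over.homMk (Sigma.ι (fun i => (T' i).left) i) (by
    change Sigma.ι (fun i => (T' i).left) i ≫ d₀ ≫ T.hom = (T' i).hom
    rw [← Category.assoc, Sigma.ι_desc, Over.w])
  have hjd : ∀ i, j i ≫ d = c i := fun i => by
    ext1
    exact Sigma.ι_desc _ _
  have hj : ∀ i, IsOpenImmersion (j i).left := fun i =>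
    inferInstanceAs (IsOpenImmersion (Sigma.ι (fun i => (T' i).left) i))
  have hs : ∀ v : V.left, ∃ (i : ι) (t : (T' i).left), (j i).left t = v := fun v => by
    obtain ⟨i, t, ht⟩ := (sigmaOpenCover (fun i => (T' i).left)).exists_eq v
    exact ⟨i, t, ht⟩
  obtain ⟨y, hy, -⟩ := glueFam (F := H) T' j (fun i => have := hj i; inferInstance)
    (fun i => have := hj i; inferInstance) hs x (by
      intro i k R a b hab
      by_cases hik : i = k
      · subst hik
        have := hj i
        have h1 : a = b := by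
          ext1
          rw [← cancel_mono (j i).left]
          exact congrArg (fun z => z.left) hab
        rw [h1]
      · have : IsEmpty R.left :=
          isEmpty_of_commSq_sigmaι_of_ne (g := fun i => (T' i).left) (i := i) (j := k)
            (a := a.left) (b := b.left) ⟨congrArg (fun z : R ⟶ V => z.left) hab⟩ hik
        exact eq_of_isEmpty _ _)
  exact ⟨V, d, j, y, hjd, hy, hj, hs, fun P _ hP => IsZariskiLocalAtSource.sigmaDesc hP⟩

/-- Locally surjective maps of sheaves. -/
theorem fSurj_of_isLocallySurjective {b : H ⟶ G} (hb : Sheaf.IsLocallySurjective b) : FSurj b := by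
  intro T g
  have h1 := Presheaf.imageSieve_mem (J S) b.hom ((J S).uliftYonedaEquiv g)
  obtain ⟨ι, T', c, hR, hf, hp, hs⟩ := exists_family h1
  choose s hs' using hR
  obtain ⟨V, d, j, y, hjd, hjy, hj, hjs, hP⟩ := exists_sigma (H := H) T' c
    (fun i => (J S).uliftYonedaEquiv.symm (s i))
  have hV : ∀ i, (yon S).map (j i) ≫ (y ≫ b) = (yon S).map (j i) ≫ (yon S).map d ≫ g := by
    intro i
    rw [← Category.assoc, hjy, ← Category.assoc, ← Functor.map_comp, hjd]
    apply (J S).uliftYonedaEquiv.injective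
    rw [GrothendieckTopology.uliftYonedaEquiv_comp, Equiv.apply_symm_apply,
      ← GrothendieckTopology.uliftYonedaEquiv_naturality]
    exact hs' i
  refine ⟨V, d, y, ⟨hP @Flat hf, hP @LocallyOfFinitePresentation hp, ⟨fun t => ?_⟩⟩, ?_⟩
  · obtain ⟨i, t', ht'⟩ := hs t
    refine ⟨(j i).left t', ?_⟩
    rw [← ht', ← Scheme.Hom.comp_apply, ← Over.comp_left, hjd]
  · obtain ⟨z, -, hz⟩ := glueFam (F := G) T' j (fun i => have := hj i; inferInstance)
      (fun i => have := hj i; inferInstance) hjs (fun i => (yon S).map (j i) ≫ (y ≫ b))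
      (fun i k R a b' hab => by
        simp only [← Category.assoc, ← Functor.map_comp, hab])
    exact (hz _ fun i => rfl).trans (hz _ fun i => (hV i).symm).symm

end K619.LocSurj
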