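import Groth.Agent.AlgSp.K619.EtField

/-!
Monomorphisms into discrete reduced schemes are open immersions.
-/

set_option autoImplicit false
universe u
open CategoryTheory CategoryTheory.Limits AlgebraicGeometry Topology TopologicalSpace Opposite

namespace K619.MonoDisc

open K619.EtField

/-- A monomorphism from a nonempty scheme to a reduced one-point scheme is an isomorphism. -/
theorem isIso_of_mono_point {N P : Scheme.{u}} (f : N ⟶ P) [Mono f] [Nonempty N] [Subsingleton P]
    [IsReduced P] : IsIso f := by
  have hP : Nonempty P := Nonempty.map f inferInstance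
  have : IsIntegral P := (isIntegral_iff_irreducibleSpace_and_isReduced _).mpr
    ⟨⟨inferInstance⟩, inferInstance⟩
  let _ := (isField_of_isIntegral_of_subsingleton P).toField
  have h1 : Mono (f ≫ P.isoSpec.hom) := inferInstance
  have h2 : IsIso (f ≫ P.isoSpec.hom) :=
    isIso_of_mono_field (K := Γ(P, ⊤)) (f ≫ P.isoSpec.hom)
  exact IsIso.of_isIso_comp_right f P.isoSpec.hom

/-- A monomorphism into a discrete reduced scheme is an open immersion. -/
theorem isOpenImmersion_of_mono_of_discrete {N M : Scheme.{u}} (f : N ⟶ M) [Mono f]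
    [DiscreteTopology M] [IsReduced M] : IsOpenImmersion f := by
  let 𝒰 : M.OpenCover := M.openCoverOfIsOpenCover
    (fun x : M ↦ ⟨{x}, isOpen_discrete _⟩) (.mk (by ext; simp))
  refine (IsZariskiLocalAtTarget.iff_of_openCover (P := @IsOpenImmersion) 𝒰).2 fun i => ?_
  have h1 : IsReduced (𝒰.X i) := isReduced_of_isOpenImmersion (𝒰.f i)
  have h2 : Subsingleton (𝒰.X i) := inferInstanceAs (Subsingleton ({i} : Set M))
  have h3 : Mono (𝒰.pullbackHom f i) := inferInstanceAs (Mono (pullback.snd f (𝒰.f i)))
  cases isEmpty_or_nonempty ((𝒰.pullback₁ f).X i : Scheme.{u})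
  · infer_instance
  · have := isIso_of_mono_point (𝒰.pullbackHom f i)
    infer_instance

end K619.MonoDisc
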