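import Groth.Agent.AlgSp.K619.Singleton
import Groth.Agent.AlgSp.K619.MonoDisc
import Groth.Agent.AlgSp.K619.LocSurj
import Groth.Agent.AlgSp.K613.Chart
import Groth.Agent.AlgSp.K609.Points
import Mathlib.AlgebraicGeometry.Morphisms.LocalFlatDescent

/-!
The residual space of a point of an algebraic space: the sheaf image of `Spec κ(u) ⟶ X`.
-/

set_option autoImplicit false
universe u
open CategoryTheory CategoryTheory.Limits AlgebraicGeometry Topology TopologicalSpace Opposite

namespace K619.Residual

open AlgSp K613.Basic K613.Cover K613.Chart K619.Basic K619.LocPComp K619.EtField K619.FieldChart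
  K619.Singleton K619.MonoDisc

variable {S : Scheme.{u}}

/-- Cancelling a monomorphism at the corner of a cartesian square. -/
theorem isPullback_of_comp_mono {C : Type*} [Category C] {P X Y Z W : C} {fst : P ⟶ X} {snd : P ⟶ Y}
    {f : X ⟶ Z} {g : Y ⟶ Z} (i : Z ⟶ W) [Mono i] (h : IsPullback fst snd (f ≫ i) (g ≫ i)) :
    IsPullback fst snd f g := by
  have w : fst ≫ f = snd ≫ g := by
    rw [← cancel_mono i, Category.assoc, Category.assoc]; exact h.w
  refine ⟨⟨w⟩, ⟨PullbackCone.IsLimit.mk _ (fun s => h.lift s.fst s.snd ?_) ?_ ?_ ?_⟩⟩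
  · rw [← Category.assoc, s.condition, Category.assoc]
  · intro s; exact h.lift_fst _ _ _
  · intro s; exact h.lift_snd _ _ _
  · intro s m h1 h2
    apply h.hom_ext
    · rw [h1, h.lift_fst]
    · rw [h2, h.lift_snd]

theorem isPullback_comp_mono {C : Type*} [Category C] {P X Y Z W : C} {fst : P ⟶ X} {snd : P ⟶ Y}
    {f : X ⟶ Z} {g : Y ⟶ Z} (i : Z ⟶ W) [Mono i] (h : IsPullback fst snd f g) :
    IsPullback fst snd (f ≫ i) (g ≫ i) := by
  refine ⟨⟨by rw [← Category.assoc, h.w, Category.assoc]⟩,
    ⟨PullbackCone.IsLimit.mk _ (fun s => h.lift s.fst s.snd ?_) ?_ ?_ ?_⟩⟩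
  · have := s.condition
    rwa [← Category.assoc, ← Category.assoc, cancel_mono] at this
  · intro s; exact h.lift_fst _ _ _
  · intro s; exact h.lift_snd _ _ _
  · intro s m h1 h2
    apply h.hom_ext
    · rw [h1, h.lift_fst]
    · rw [h2, h.lift_snd]

/-- A subsheaf of a sheaf with representable diagonal has representable diagonal. -/
theorem representable_diag_of_mono {Z X : Sp S} (i : Z ⟶ X) [Mono i]
    (hX : Representable (Limits.diag X)) : Representable (Limits.diag Z) := by
  rw [representable_diag_iff] at hX ⊢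
  intro T a b
  obtain ⟨E, e, he⟩ := hX T (a ≫ i) (b ≫ i)
  refine ⟨E, e, ⟨?_, fun R r hr => he.lift R r ?_⟩⟩
  · have := he.w
    rwa [← Category.assoc, ← Category.assoc, cancel_mono] at this
  · rw [← Category.assoc, ← Category.assoc, hr]

/-- A field-valued point `q : T ⟶ U ⟶ X` with `T ⟶ U` a monomorphism from the spectrum of a field
and `U ⟶ X` etale: the two projections of `T ×_X T` are etale. -/
theorem etale_proj {X : Sp S} {k : Type u} [Field k] {str : Spec (CommRingCat.of k) ⟶ S}
    {U : Over S} (q : Over.mk str ⟶ U) [Mono q] {a : (yon S).obj U ⟶ X} (ha : RepWith @Etale a)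
    {R : Over S} {t s : R ⟶ Over.mk str}
    (hR : IsPullback ((yon S).map t) ((yon S).map s) ((yon S).map q ≫ a) ((yon S).map q ≫ a)) :
    Etale s.left := by
  obtain ⟨W, fst, snd, hW⟩ := exists_isPullback_of_rep ha.1 ((yon S).map q ≫ a)
  have h1 : Etale snd.left := prop_snd ha hW
  have e : (yon S).map (t ≫ q) ≫ a = (yon S).map s ≫ (yon S).map q ≫ a := by
    rw [Functor.map_comp, Category.assoc]; exact hR.w
  obtain ⟨l, hl⟩ := (yon S).map_surjective (hW.lift _ _ e)
  have hl1 : l ≫ fst = t ≫ q :=
    (yon S).map_injective (by rw [Functor.map_comp, hl, hW.lift_fst])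
  have hl2 : l ≫ snd = s :=
    (yon S).map_injective (by rw [Functor.map_comp, hl, hW.lift_snd])
  have hm : Mono l := by
    refine ⟨fun {Z'} x y hxy => ?_⟩
    apply (yon S).map_injective
    apply hR.hom_ext
    · rw [← Functor.map_comp, ← Functor.map_comp]
      congr 1
      rw [← cancel_mono q, Category.assoc, Category.assoc, ← hl1, ← Category.assoc, hxy,
        Category.assoc]
    · rw [← Functor.map_comp, ← Functor.map_comp]
      congr 1
      rw [← hl2, ← Category.assoc, hxy, Category.assoc]
  have hml : Mono l.left := inferInstance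
  have hd : DiscreteTopology ↥W.left := discreteTopology_of_etale (K := k) snd.left
  have hr : IsReduced W.left := isReduced_of_etale (K := k) snd.left
  have ho : IsOpenImmersion l.left := isOpenImmersion_of_mono_of_discrete l.left
  have : s.left = l.left ≫ snd.left := by rw [← hl2]; rfl
  rw [this]
  infer_instance

/-- The sheaf image of a representable map `g : h_T ⟶ X` whose projections `T ×_X T ⟶ T` are
etale. -/
theorem exists_image {X : Sp S} (hX : IsAlgSpace X) {T : Over S} (g : (yon S).obj T ⟶ X)
    (h : ∀ (R : Over S) (t s : R ⟶ T), IsPullback ((yon S).map t) ((yon S).map s) g g →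
      Etale s.left) :
    ∃ (Z : Sp S) (i : Z ⟶ X) (e : (yon S).obj T ⟶ Z), IsAlgSpace Z ∧ Mono i ∧ e ≫ i = g ∧
      RepWith @Etale e ∧ RepWith @Surjective e := by
  let Z : Sp S := Sheaf.image g
  let i : Z ⟶ X := Sheaf.imageι g
  let e : (yon S).obj T ⟶ Z := Sheaf.toImage g
  have hei : e ≫ i = g := Sheaf.toImage_ι g
  have hm : Mono i := inferInstanceAs (Mono (Sheaf.imageι g))
  have hdiag : Representable (Limits.diag Z) := representable_diag_of_mono i hX.diag
  have hrep : Representable e := Functor.relativelyRepresentable.of_diag hdiag e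
  have hes : FSurj e := K619.LocSurj.fSurj_of_isLocallySurjective
    (inferInstanceAs (Sheaf.IsLocallySurjective (Sheaf.toImage g)))
  obtain ⟨R, t, s, hR⟩ := exists_isPullback_of_rep hrep e
  have hR' : IsPullback ((yon S).map t) ((yon S).map s) g g := by
    have := isPullback_comp_mono i hR
    rwa [hei] at this
  have h1 : Etale s.left := h R t s hR'
  have he : RepWith @Etale e := hes.repWith hR hrep ((repWith_yon_map_iff _ _).2 h1)
  have hs : RepWith @Surjective e := by
    refine ⟨hrep, fun T' V z fst snd sq => ⟨fun t' => ?_⟩⟩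
    obtain ⟨T'', c, w, hc, hw⟩ := hes T' z
    obtain ⟨t'', ht''⟩ := hc.surj.surj t'
    obtain ⟨r, hr⟩ := (yon S).map_surjective (sq.lift w ((yon S).map c) hw)
    have hr2 : r ≫ snd = c := (yon S).map_injective (by rw [Functor.map_comp, hr, sq.lift_snd])
    refine ⟨r.left t'', ?_⟩
    rw [← ht'']
    exact congrArg (fun z : T'' ⟶ T' => z.left t'') hr2
  exact ⟨Z, i, e, ⟨hdiag, T, e, he, hs⟩, hm, hei, he, hs⟩

/-- Existence of the residual space. -/
theorem exists_residualSpace (X : Space S) (x : Points X.obj) :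
    ∃ (Z : Space S) (i : Z ⟶ X), Mono i.hom ∧ Set.range (Points.map i.hom) = {x} ∧
      ∃ (k : Type u) (_ : Field k) (str : Spec (CommRingCat.of k) ⟶ S)
        (p : (yon S).obj (Over.mk str) ⟶ Z.obj), RepWith @Etale p ∧ RepWith @Surjective p := by
  obtain ⟨U, a, ha, has⟩ := X.property.atlas
  obtain ⟨u, rfl⟩ := ofPt_surjective has x
  let q : Over.mk (U.left.fromSpecResidueField u ≫ U.hom) ⟶ U := ptHom u
  have hq : Mono q := by
    have : Mono q.left := inferInstanceAs (Mono (U.left.fromSpecResidueField u))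
    exact Over.mono_of_mono_left q
  obtain ⟨Z, i, e, hZ, hm, hei, he, hs⟩ := exists_image X.property ((yon S).map q ≫ a)
    (fun R t s hR => etale_proj (k := U.left.residueField u) q ha hR)
  refine ⟨⟨Z, hZ⟩, ObjectProperty.homMk i, hm, ?_, U.left.residueField u, inferInstance,
    U.left.fromSpecResidueField u ≫ U.hom, e, he, hs⟩
  have key : ∀ t, Points.ofPt ((yon S).map q ≫ a) t = Points.ofPt a u := fun t => by
    rw [ofPt_map_comp]
    congr 1
    exact Scheme.fromSpecResidueField_apply _ _
  have h1 : ∀ z : Points Z, Points.map i z = Points.ofPt a u := fun z => by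
    obtain ⟨t, rfl⟩ := ofPt_surjective hs z
    rw [Points.map_ofPt, hei, key]
  ext y
  constructor
  · rintro ⟨z, rfl⟩
    exact h1 z
  · rintro rfl
    exact ⟨Points.ofPt e (IsLocalRing.closedPoint (U.left.residueField u)), h1 _⟩

end K619.Residual
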