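import Groth.Agent.AlgSp.K619.NagBlow2

/-!
# Extending sections after an admissible blow-up

`T3 S` is the geometric input (flattening by blowing up): a separated morphism of finite type which is an isomorphism
over an open subspace `U` becomes, after a blow-up away from `U`, an open immersion on a closed subspace containing
`U`.  From it we deduce the same for sections (`exists_section`) and for morphisms to spaces over a base
(`exists_graph`).
-/

set_option autoImplicit false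
universe u
open CategoryTheory CategoryTheory.Limits AlgebraicGeometry Opposite TopologicalSpace

namespace K619.NagT3

open AlgSp K598.RepKit K598.ClFam K598.Charts K598.SchImg K647.FamOps
open K619.NagKit K619.NagDom K619.NagBlow

variable {S : Scheme.{u}} {X Y Z U V W B P X' C X₁ O : Sp S}

/-- `C` is a closed subspace of `X₁ ×_X Y`. -/
structure CG (b : X₁ ⟶ X) (f : Y ⟶ X) (v : C ⟶ X₁) (c : C ⟶ Y) : Prop where
  w : v ≫ b = c ≫ f
  closed : RepWith @IsClosedImmersion (pullback.lift v c w)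

theorem cg_iff {b : X₁ ⟶ X} {f : Y ⟶ X} {p₁ : P ⟶ X₁} {p₂ : P ⟶ Y} (sq : IsPullback p₁ p₂ b f) (l : C ⟶ P) :
    CG b f (l ≫ p₁) (l ≫ p₂) ↔ RepWith @IsClosedImmersion l := by
  have w : (l ≫ p₁) ≫ b = (l ≫ p₂) ≫ f := by rw [Category.assoc, sq.w, Category.assoc]
  have h1 : pullback.lift (l ≫ p₁) (l ≫ p₂) w = l ≫ sq.isoPullback.hom := by
    apply pullback.hom_ext
    · rw [pullback.lift_fst, Category.assoc, IsPullback.isoPullback_hom_fst]
    · rw [pullback.lift_snd, Category.assoc, IsPullback.isoPullback_hom_snd]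
  constructor
  · intro h
    have h2 := h.closed
    rw [h1] at h2
    exact rep_of_comp_mono h2
  · intro h
    refine ⟨w, ?_⟩
    rw [h1]
    exact closed_comp h (repWith_of_isIso _)

theorem CG.of_isPullback {b : X₁ ⟶ X} {f : Y ⟶ X} {p₁ : P ⟶ X₁} {p₂ : P ⟶ Y} (sq : IsPullback p₁ p₂ b f)
    {l : C ⟶ P} (hl : RepWith @IsClosedImmersion l) {v : C ⟶ X₁} {c : C ⟶ Y} (hv : l ≫ p₁ = v) (hc : l ≫ p₂ = c) :
    CG b f v c := by
  subst hv hc
  exact (cg_iff sq l).2 hl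

theorem CG.exists_closed {b : X₁ ⟶ X} {f : Y ⟶ X} {v : C ⟶ X₁} {c : C ⟶ Y} (h : CG b f v c) {p₁ : P ⟶ X₁}
    {p₂ : P ⟶ Y} (sq : IsPullback p₁ p₂ b f) :
    ∃ l : C ⟶ P, l ≫ p₁ = v ∧ l ≫ p₂ = c ∧ RepWith @IsClosedImmersion l := by
  refine ⟨sq.lift v c h.w, sq.lift_fst _ _ _, sq.lift_snd _ _ _, ?_⟩
  rw [← cg_iff sq, sq.lift_fst, sq.lift_snd]
  exact h

/-- Change of the second factor by a closed immersion and of the first by an isomorphism. -/
theorem CG.comp {b' : X' ⟶ X} {b : X₁ ⟶ X} (e : X' ≅ X₁) (he : e.hom ≫ b = b') {i : Z ⟶ Y}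
    (hi : RepWith @IsClosedImmersion i) {f : Y ⟶ X} {v : C ⟶ X'} {c : C ⟶ Z} (h : CG b' (i ≫ f) v c) :
    CG b f (v ≫ e.hom) (c ≫ i) := by
  have sq := IsPullback.of_hasPullback b f
  have sq' := IsPullback.of_hasPullback b' (i ≫ f)
  have sq2 : IsPullback (pullback.fst b' (i ≫ f) ≫ e.hom) (pullback.snd b' (i ≫ f)) b (i ≫ f) :=
    IsPullback.of_iso sq' (Iso.refl _) e (Iso.refl _) (Iso.refl _) (by simp) (by simp) (by simp [he]) (by simp)
  have w1 : (pullback.fst b' (i ≫ f) ≫ e.hom) ≫ b = (pullback.snd b' (i ≫ f) ≫ i) ≫ f := by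
    rw [sq2.w, Category.assoc]
  let m : pullback b' (i ≫ f) ⟶ pullback b f := pullback.lift _ _ w1
  have hm1 : m ≫ pullback.fst b f = pullback.fst b' (i ≫ f) ≫ e.hom := pullback.lift_fst _ _ _
  have hm2 : m ≫ pullback.snd b f = pullback.snd b' (i ≫ f) ≫ i := pullback.lift_snd _ _ _
  have sq3 : IsPullback m (pullback.snd b' (i ≫ f)) (pullback.snd b f) i :=
    IsPullback.of_right (by rw [hm1]; exact sq2) hm2 sq
  have hm : RepWith @IsClosedImmersion m := repWith_of_isPullback sq3.flip hi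
  obtain ⟨l, hl1, hl2, hl3⟩ := h.exists_closed sq'
  refine CG.of_isPullback sq (closed_comp hl3 hm) ?_ ?_
  · rw [Category.assoc, hm1, ← Category.assoc, hl1]
  · rw [Category.assoc, hm2, ← Category.assoc, hl2]

theorem CG.flip {b : X₁ ⟶ X} {f : Y ⟶ X} {v : C ⟶ X₁} {c : C ⟶ Y} (h : CG b f v c) : CG f b c v := by
  obtain ⟨l, hl1, hl2, hl3⟩ := h.exists_closed (IsPullback.of_hasPullback b f)
  exact CG.of_isPullback (IsPullback.of_hasPullback b f).flip hl3 hl2 hl1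

theorem CG.alg {b : X₁ ⟶ X} {f : Y ⟶ X} {v : C ⟶ X₁} {c : C ⟶ Y} (h : CG b f v c) (hX : IsAlgSpace X)
    (hX₁ : IsAlgSpace X₁) (hY : IsAlgSpace Y) : IsAlgSpace C :=
  alg_of_closed h.closed (K613.Chart.isAlgSpace_pullback hX₁ hY hX b f)

theorem CG.proper_right {b : X₁ ⟶ X} {f : Y ⟶ X} {v : C ⟶ X₁} {c : C ⟶ Y} (h : CG b f v c) (hX : IsAlgSpace X)
    (hX₁ : IsAlgSpace X₁) (hY : IsAlgSpace Y) (hb : IsProperMor b) : IsProperMor c := by
  have sq := IsPullback.of_hasPullback b f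
  have hP := K613.Chart.isAlgSpace_pullback hX₁ hY hX b f
  obtain ⟨l, hl1, hl2, hl3⟩ := h.exists_closed sq
  rw [← hl2]
  exact K597.ProperSub.isProperMor_comp (h.alg hX hX₁ hY) hP hY (K597.ProperSub.isProperMor_of_closed hP hl3)
    (K597.Proper.isProperMor_of_isPullback hX₁ hX hY sq hb)

theorem CG.sft_right {b : X₁ ⟶ X} {f : Y ⟶ X} {v : C ⟶ X₁} {c : C ⟶ Y} (h : CG b f v c) (hX : IsAlgSpace X)
    (hX₁ : IsAlgSpace X₁) (hY : IsAlgSpace Y) (hb : SFT b) : SFT c := by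
  have sq := IsPullback.of_hasPullback b f
  have hP := K613.Chart.isAlgSpace_pullback hX₁ hY hX b f
  obtain ⟨l, hl1, hl2, hl3⟩ := h.exists_closed sq
  rw [← hl2]
  exact SFT.comp (h.alg hX hX₁ hY) hP hY (sft_of_closed hl3 hP) (SFT.bc hX₁ hX hY sq hb)

/-- The geometric input: a separated morphism of finite type `f : Y ⟶ X` which is an isomorphism over a scheme
theoretically dense open subspace `j : U ⟶ X` becomes, after a blow-up away from `U`, an open immersion on a closed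
subspace of `Y ×_X X₁` containing `U`. -/
def T3 (S : Scheme.{u}) : Prop :=
  ∀ ⦃X U Y : Sp S⦄ (j : U ⟶ X) (f : Y ⟶ X) (s : U ⟶ Y), Noe X → IsAlgSpace Y → RepWith @IsOpenImmersion j →
    SDom j → SFT f → IsPullback s (𝟙 U) f j →
    ∃ (J : Fam X) (X₁ : Sp S) (b : X₁ ⟶ X) (C : Sp S) (v : C ⟶ X₁) (c : C ⟶ Y) (k : U ⟶ C),
      Away J j ∧ Bl J b ∧ CG b f v c ∧ RepWith @IsOpenImmersion v ∧ k ≫ c = s

/-- Existence of blow-ups. -/
def BlEx (S : Scheme.{u}) : Prop := ∀ ⦃X : Sp S⦄ (A : Fam X), Noe X → ∃ (X₁ : Sp S) (b : X₁ ⟶ X), Bl A b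

theorem Bl.exists_iso {A : Fam X} {b : X₁ ⟶ X} {b' : X' ⟶ X} (h : Bl A b) (h' : Bl A b') :
    ∃ e : X' ≅ X₁, e.hom ≫ b = b' := by
  obtain ⟨k, hk⟩ := h.lift h'.alg h'.cart
  obtain ⟨l, hl⟩ := h'.lift h.alg h.cart
  refine ⟨⟨k, l, ?_, ?_⟩, hk⟩
  · refine h'.uniq h'.alg ?_ ?_
    · rw [Category.assoc, hl, hk]
      exact h'.cart
    · rw [Category.assoc, hl, hk, Category.id_comp]
  · refine h.uniq h.alg ?_ ?_
    · rw [Category.assoc, hk, hl]
      exact h.cart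
    · rw [Category.assoc, hk, hl, Category.id_comp]

variable [QuasiSeparatedSpace ↥S]

/-- Sections over a dense open subspace extend to closed subspaces which are open in the base, after a blow-up. -/
theorem exists_section (H : T3 S) (hX : Noe X) (hY : IsAlgSpace Y) {j : U ⟶ X} {f : Y ⟶ X} {s : U ⟶ Y}
    (hj : RepWith @IsOpenImmersion j) (hd : SDom j) (hf : SFT f) (hs : s ≫ f = j) :
    ∃ J : Fam X, Away J j ∧ ∀ {X₁ : Sp S} (b : X₁ ⟶ X), Bl J b →
      ∃ (C : Sp S) (v : C ⟶ X₁) (c : C ⟶ Y) (k : U ⟶ C),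
        CG b f v c ∧ RepWith @IsOpenImmersion v ∧ k ≫ c = s := by
  have hYn : Noe Y := Noe.of_sft hY hX hf
  have hU : Noe U := noe_of_open hj hX
  obtain ⟨A, h1, h2, -⟩ := exists_image hY (qcMor_of_noe hU hY s hYn.qs)
  have him : IsSchImage s A.ι := (isSchImage_iff hY _ _).2 ⟨A.repWith_ι, by rwa [ofClosed_ι], by rwa [ofClosed_ι]⟩
  obtain ⟨s', hs'⟩ := him.2.1
  have hd' : SDom s' := sdom_image hY him hs'
  have hA := A.isAlgSpace_sheaf hY
  have hf' : SFT (A.ι ≫ f) := SFT.comp hA hY hX.alg (sft_of_closed A.repWith_ι hY) hf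
  have hs'f : s' ≫ A.ι ≫ f = j := by rw [← Category.assoc, hs', hs]
  have sq : IsPullback s' (𝟙 U) (A.ι ≫ f) j :=
    isPullback_of_sdom hA hf'.sep hj hs'f (qcMor_of_noe hU hA s' (noe_of_closed A.repWith_ι hYn).qs) hd'
  obtain ⟨J, X', b', C, v, c, k, k1, k2, k3, k4, k5⟩ := H j (A.ι ≫ f) s' hX hA hj hd hf' sq
  refine ⟨J, k1, fun {X₁} b hb => ?_⟩
  obtain ⟨e, he⟩ := Bl.exists_iso hb k2
  refine ⟨C, v ≫ e.hom, c ≫ A.ι, k, k3.comp e he A.repWith_ι, open_comp k4 (repWith_of_isIso _), ?_⟩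
  rw [← Category.assoc, k5, hs']

/-- Morphisms over `B` from a dense open subspace of `X` to `O` extend over an open subspace with closed graph, after a
blow-up. -/
theorem exists_graph (H : T3 S) (hB : IsAlgSpace B) (hX : Noe X) (hO : IsAlgSpace O) {j : U ⟶ X} {q : X ⟶ B}
    {o : O ⟶ B} {h : U ⟶ O} (hj : RepWith @IsOpenImmersion j) (hd : SDom j) (ho : SFT o) (w : h ≫ o = j ≫ q) :
    ∃ J : Fam X, Away J j ∧ ∀ {X₁ : Sp S} (b : X₁ ⟶ X), Bl J b →
      ∃ (C : Sp S) (v : C ⟶ X₁) (c : C ⟶ O) (k : U ⟶ C),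
        CG (b ≫ q) o v c ∧ RepWith @IsOpenImmersion v ∧ k ≫ v ≫ b = j ∧ k ≫ c = h := by
  have sq := IsPullback.of_hasPullback o q
  have hP : IsAlgSpace (pullback o q) := K613.Chart.isAlgSpace_pullback hO hX.alg hB o q
  have hsnd : SFT (pullback.snd o q) := SFT.bc hO hB hX.alg sq ho
  let s : U ⟶ pullback o q := pullback.lift h j w
  have hs1 : s ≫ pullback.fst o q = h := pullback.lift_fst _ _ _
  have hs2 : s ≫ pullback.snd o q = j := pullback.lift_snd _ _ _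
  obtain ⟨J, k1, k2⟩ := exists_section H hX hP hj hd hsnd hs2
  refine ⟨J, k1, fun {X₁} b hb => ?_⟩
  obtain ⟨C, v, c, k, k3, k4, k5⟩ := k2 b hb
  have sq' := IsPullback.of_hasPullback b (pullback.snd o q)
  obtain ⟨l, hl1, hl2, hl3⟩ := k3.exists_closed sq'
  have sq2 := (sq'.flip.paste_horiz sq).flip
  refine ⟨C, v, c ≫ pullback.fst o q, k, CG.of_isPullback sq2 hl3 hl1 (by rw [← Category.assoc, hl2]), k4, ?_, ?_⟩
  · rw [k3.w, ← Category.assoc, k5, hs2]
  · rw [← Category.assoc, k5, hs1]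

end K619.NagT3
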