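import Groth.Agent.AlgSp.K619.NagMain
import Groth.Agent.S10768

/-!
# Compactifications over a Noetherian base: induction over elementary distinguished squares
-/

set_option autoImplicit false
universe u
open CategoryTheory CategoryTheory.Limits AlgebraicGeometry Opposite TopologicalSpace

namespace K619.NagMain

open AlgSp K598.RepKit K598.ClFam K598.Charts K598.SchImg K647.FamOps
open K619.NagKit K619.NagDom K619.NagBlow K619.NagT3 K619.NagGlue

variable {S : Scheme.{u}} {X Y Z U V W B P : Sp S}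

/-- A morphism from an algebraic space without points is a closed immersion. -/
theorem closed_of_isEmpty (hX : IsAlgSpace X) (hY : IsAlgSpace Y) (f : X ⟶ Y) (h : IsEmpty (Points X)) :
    RepWith @IsClosedImmersion f := by
  refine ⟨fun T g => ?_, fun T T' g a b sq => ?_⟩
  · have sq := IsPullback.of_hasPullback f g
    have hP : IsAlgSpace (pullback f g) := K613.Chart.isAlgSpace_pullback hX (IsAlgSpace.yon_obj T) hY f g
    have hE : IsEmpty (Points (pullback f g)) := ⟨fun t => h.false (Points.map (pullback.fst f g) t)⟩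
    obtain ⟨T', -, ⟨e⟩⟩ := K598.OpenInd.exists_iso_of_isEmpty hP hE
    refine ⟨T', (yon S).preimage (e.hom ≫ pullback.snd f g), e.hom ≫ pullback.fst f g, ?_⟩
    rw [(yon S).map_preimage]
    exact IsPullback.of_iso sq e.symm (Iso.refl _) (Iso.refl _) (Iso.refl _) (by simp) (by simp) (by simp) (by simp)
  · have hE : IsEmpty T'.left := ⟨fun t => h.false (Points.ofPt a t)⟩
    change IsClosedImmersion b.left
    infer_instance

/-- The input (I): an elementary distinguished square with an affine corner can be enlarged so that the closed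
complement of `U` becomes proper. -/
def Partial (B : Sp S) : Prop :=
  ∀ ⦃X U V : Sp S⦄ (j : U ⟶ X) (φ : V ⟶ X) (f : X ⟶ B), IsAlgSpace X → SFT f →
    (∃ T : Over S, IsAffine T.left ∧ Nonempty ((yon S).obj T ≅ V)) → IsElemDistSq j φ →
    ∃ (Y Z : Sp S) (g : Y ⟶ B) (x : X ⟶ Y) (z : Z ⟶ Y), IsAlgSpace Y ∧ SFT g ∧ RepWith @IsOpenImmersion x ∧
      RepWith @IsClosedImmersion z ∧ IsProperMor (z ≫ g) ∧ x ≫ g = f ∧
      Set.range (Points.map j) = Points.map x ⁻¹' (Set.range (Points.map z))ᶜ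

/-- **Nagata compactification over a Noetherian algebraic space.** -/
theorem nagata_noe [QuasiSeparatedSpace ↥S] (H : T3 S) (HB : BlEx S) (HP : Partial B) (hB : Noe B)
    (hX : IsAlgSpace X) {f : X ⟶ B} (hf : SFT f) : Comp f := by
  have hXn : Noe X := Noe.of_sft hX hB hf
  have hw := K610.Sub.repWith_openPred (X := X) (W := ∅) isOpen_empty
  have hwr := K610.Sub.range_openPred (X := X) ∅
  set w := (K610.Sub.openPred (X := X) ∅).ι with hwdef
  have hWa : IsAlgSpace (K610.Sub.openPred (X := X) ∅).sub := alg_of_open hw hX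
  have hWe : IsEmpty (Points (K610.Sub.openPred (X := X) ∅).sub) := ⟨fun t => by
    have h1 : Points.map w t ∈ (∅ : Set (Points X)) := hwr.subset ⟨t, rfl⟩
    exact h1⟩
  have key := Groth.Agent.S10768.result (S := S) ⟨X, hX⟩ hXn.qc hXn.qs (fun U jU => Comp (jU.hom ≫ f))
    ⟨_, hWa⟩ (ObjectProperty.homMk w) hw (noe_of_open hw hXn).qc ?_ ?_
  · have h1 : (𝟙 (⟨X, hX⟩ : Space S) : _ ⟶ _).hom ≫ f = f := Category.id_comp f
    rwa [h1] at key
  · refine ⟨_, 𝟙 _, w ≫ f, hWa, repWith_of_isIso _, ?_, Category.id_comp _⟩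
    exact K597.ProperSub.isProperMor_of_closed hB.alg (closed_of_isEmpty hWa hB.alg _ hWe)
  · intro W₁ W₂ V j₁ j₂ k m φ hj₁ hj₂ hk hm hq₁ hq₂ hV hed hc
    have hW₂ : Noe W₂.obj := noe_of_open hj₂ hXn
    have hf₂ : SFT (j₂.hom ≫ f) := SFT.comp W₂.property hX hB.alg (sft_of_open hj₂ hXn) hf
    obtain ⟨Y, Z, g, x, z, h1, h2, h3, h4, h5, h6, h7⟩ := HP k.hom φ.hom (j₂.hom ≫ f) W₂.property hf₂ hV hed
    have h8 : k.hom ≫ x ≫ g = j₁.hom ≫ f := by
      rw [h6, ← hk, ObjectProperty.FullSubcategory.comp_hom, Category.assoc]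
    have h9 := comp_of_glue H HB hB h1 h2 h3 h4 h5 hed.1 h7 (by rw [h8]; exact hc)
    rwa [h6] at h9

end K619.NagMain
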