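import Groth.Agent.AlgSp.K619.FieldChart
import Mathlib.AlgebraicGeometry.Noetherian
import Mathlib.RingTheory.RegularLocalRing.Defs

/-!
Algebraic spaces with one point: flat / locally of finite type / locally of finite presentation
surjective field points.
-/

set_option autoImplicit false
universe u
open CategoryTheory CategoryTheory.Limits AlgebraicGeometry Topology TopologicalSpace Opposite

namespace K619.Singleton

open K619.Basic K619.LocPComp K619.EtField K619.FieldChart

variable {S : Scheme.{u}}

/-- A nonempty scheme has an affine open with a point closed in it. -/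
theorem exists_affine_closedPoint (U : Scheme.{u}) [Nonempty U] :
    ∃ (V : U.Opens) (v : ↥V), IsAffineOpen V ∧ IsClosed ({v} : Set ↥V) := by
  obtain ⟨V, hV, hxV, -⟩ :=
    exists_isAffineOpen_mem_and_subset (X := U) (x := Classical.arbitrary U) (U := ⊤) trivial
  have : Nonempty ↥V := ⟨⟨_, hxV⟩⟩
  have : CompactSpace ↥V := isCompact_iff_compactSpace.1 hV.isCompact
  have : T0Space ↥V := inferInstance
  obtain ⟨v, -, hv⟩ := IsClosed.exists_closed_singleton (X := ↥V) isClosed_univ
    Set.univ_nonempty
  exact ⟨V, v, hV, hv⟩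

/-- A reduced nonempty scheme has a point whose local ring is a field. -/
theorem exists_isField_stalk (U : Scheme.{u}) [Nonempty U] [IsReduced U] :
    ∃ u : U, IsField (U.presheaf.stalk u) := by
  let x : U := Classical.arbitrary U
  have hI : IsIrreducible (irreducibleComponent x) := isIrreducible_irreducibleComponent
  refine ⟨hI.genericPoint, isField_stalk_of_closure_mem_irreducibleComponents U _ ?_⟩
  have h : closure ({hI.genericPoint} : Set U) = irreducibleComponent x :=
    hI.genericPoint_closure_eq.trans isClosed_irreducibleComponent.closure_eq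
  rw [h]
  exact irreducibleComponent_mem_irreducibleComponents x

theorem flat_fromSpecResidueField (U : Scheme.{u}) (u : U) (h : IsField (U.presheaf.stalk u)) :
    Flat (U.fromSpecResidueField u) := by
  rw [Flat.iff_flat_stalkMap]
  intro t
  have e : U.fromSpecResidueField u t = u := Scheme.fromSpecResidueField_apply _ _
  have h' : IsField (U.presheaf.stalk (U.fromSpecResidueField u t)) := by rw [e]; exact h
  let _ := h'.toField
  algebraize [((U.fromSpecResidueField u).stalkMap t).hom]
  exact (inferInstance : Module.Flat (U.presheaf.stalk (U.fromSpecResidueField u t))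
    ((Spec (U.residueField u)).presheaf.stalk t))

/-- The field-valued point of `X` given by a point of a chart. -/
noncomputable abbrev ptHom {U : Over S} (u : ↥U.left) :
    Over.mk (U.left.fromSpecResidueField u ≫ U.hom) ⟶ U :=
  Over.homMk (U.left.fromSpecResidueField u) rfl

theorem reduced_singleton_imp {X : AlgSp.Sp S} (hr : AlgSp.EtaleLocally (fun U => IsReduced U) X)
    (hn : Nonempty (AlgSp.Points X)) (hs : Subsingleton (AlgSp.Points X)) :
    ∃ (k : Type u) (_ : Field k) (str : Spec (CommRingCat.of k) ⟶ S)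
      (p : (AlgSp.yon S).obj (Over.mk str) ⟶ X), AlgSp.LocP @Flat p ∧ AlgSp.IsSurjectiveMor p := by
  obtain ⟨U, a, ha, has, hU⟩ := hr
  obtain ⟨u₀, -⟩ := ofPt_surjective has (Classical.choice hn)
  have : Nonempty ↥U.left := ⟨u₀⟩
  have : IsReduced U.left := hU
  obtain ⟨u, hu⟩ := exists_isField_stalk U.left
  refine ⟨U.left.residueField u, inferInstance, U.left.fromSpecResidueField u ≫ U.hom,
    (AlgSp.yon S).map (ptHom u) ≫ a, ?_, ?_⟩
  · exact locP_flat_comp_chart _ (flat_fromSpecResidueField _ _ hu) ha
  · exact isSurjectiveMor_of_subsingleton _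

theorem reduced_of_flat {X : AlgSp.Sp S} (hX : AlgSp.IsAlgSpace X) {k : Type u} [Field k]
    {str : Spec (CommRingCat.of k) ⟶ S} {p : (AlgSp.yon S).obj (Over.mk str) ⟶ X}
    (hpf : AlgSp.LocP @Flat p) (hps : AlgSp.IsSurjectiveMor p) :
    AlgSp.EtaleLocally (fun U => IsReduced U) X := by
  obtain ⟨U, a, ha, has⟩ := hX.atlas
  refine ⟨U, a, ha, has, ?_⟩
  have : ∀ u : ↥U.left, _root_.IsReduced (U.left.presheaf.stalk u) := fun u => by
    let _ := (isField_stalk_chart hpf hps ha u).toField
    infer_instance
  exact isReduced_of_isReduced_stalk U.left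

/-- The closed point of an affine open of a chart. -/
theorem exists_closedPoint_chart (U : Over S) [Nonempty ↥U.left] :
    ∃ (k : Type u) (_ : Field k) (str : Spec (CommRingCat.of k) ⟶ S) (q : Over.mk str ⟶ U),
      LocallyOfFiniteType q.left := by
  obtain ⟨V, v, hV, hv⟩ := exists_affine_closedPoint U.left
  have hcl : IsClosedImmersion ((V : Scheme.{u}).fromSpecResidueField v) := by
    refine IsClosedImmersion.of_isPreimmersion _ ?_
    rw [Scheme.range_fromSpecResidueField]
    exact hv
  refine ⟨(V : Scheme.{u}).residueField v, inferInstance,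
    ((V : Scheme.{u}).fromSpecResidueField v ≫ V.ι) ≫ U.hom,
    Over.homMk ((V : Scheme.{u}).fromSpecResidueField v ≫ V.ι) rfl, ?_⟩
  change LocallyOfFiniteType ((V : Scheme.{u}).fromSpecResidueField v ≫ V.ι)
  infer_instance

theorem exists_lft {X : AlgSp.Sp S} (hX : AlgSp.IsAlgSpace X) {k : Type u} [Field k]
    {str : Spec (CommRingCat.of k) ⟶ S} {p : (AlgSp.yon S).obj (Over.mk str) ⟶ X}
    (hpf : AlgSp.LocP @Flat p) (hps : AlgSp.IsSurjectiveMor p) :
    ∃ (k' : Type u) (_ : Field k') (str' : Spec (CommRingCat.of k') ⟶ S)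
      (q : (AlgSp.yon S).obj (Over.mk str') ⟶ X),
      AlgSp.LocP @LocallyOfFiniteType q ∧ AlgSp.LocP @Flat q ∧ AlgSp.IsSurjectiveMor q := by
  obtain ⟨U, a, ha, has⟩ := hX.atlas
  obtain ⟨u₀, -⟩ := ofPt_surjective has (AlgSp.Points.ofPt p (IsLocalRing.closedPoint k))
  have : Nonempty ↥U.left := ⟨u₀⟩
  obtain ⟨k', _, str', q, hq⟩ := exists_closedPoint_chart U
  have := subsingleton_points hps
  exact ⟨k', inferInstance, str', (AlgSp.yon S).map q ≫ a, locP_lft_comp_chart _ hq ha,
    locP_flat hpf hps _, isSurjectiveMor_of_subsingleton _⟩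

theorem exists_lfp {X : AlgSp.Sp S} (hN : AlgSp.IsLocNoethSp X) {k : Type u} [Field k]
    {str : Spec (CommRingCat.of k) ⟶ S} {p : (AlgSp.yon S).obj (Over.mk str) ⟶ X}
    (hpf : AlgSp.LocP @Flat p) (hps : AlgSp.IsSurjectiveMor p) :
    ∃ (k' : Type u) (_ : Field k') (str' : Spec (CommRingCat.of k') ⟶ S)
      (q : (AlgSp.yon S).obj (Over.mk str') ⟶ X),
      AlgSp.LocP @LocallyOfFinitePresentation q ∧ AlgSp.LocP @Flat q ∧
        AlgSp.IsSurjectiveMor q := by
  obtain ⟨U, a, ha, has, hU⟩ := hN
  obtain ⟨u₀, -⟩ := ofPt_surjective has (AlgSp.Points.ofPt p (IsLocalRing.closedPoint k))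
  have : Nonempty ↥U.left := ⟨u₀⟩
  have : IsLocallyNoetherian U.left := hU
  obtain ⟨k', _, str', q, hq⟩ := exists_closedPoint_chart U
  have := subsingleton_points hps
  exact ⟨k', inferInstance, str', (AlgSp.yon S).map q ≫ a,
    locP_lfp_comp_chart _ (LocallyOfFinitePresentation.iff_locallyOfFiniteType.2 hq) ha,
    locP_flat hpf hps _, isSurjectiveMor_of_subsingleton _⟩

/-- If the surjective flat field point is moreover locally of finite presentation, then all etale
charts are discrete. -/
theorem discreteTopology_chart {X : AlgSp.Sp S} {k : Type u} [Field k]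
    {str : Spec (CommRingCat.of k) ⟶ S} {p : (AlgSp.yon S).obj (Over.mk str) ⟶ X}
    (hpp : AlgSp.LocP @LocallyOfFinitePresentation p)
    (hpf : AlgSp.LocP @Flat p) (hps : AlgSp.IsSurjectiveMor p) {U : Over S}
    {a : (AlgSp.yon S).obj U ⟶ X} (ha : AlgSp.RepWith @Etale a) : DiscreteTopology ↥U.left := by
  obtain ⟨W, fst, snd, h⟩ := exists_isPullback_of_rep ha.1 p
  have h1 : Etale snd.left := prop_snd ha h
  have h2 : Flat fst.left :=
    hpf _ _ fst ((AlgSp.repWith_yon_map_iff _ _).2 h1) ha h.w.symm
  have h3 : LocallyOfFinitePresentation fst.left :=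
    hpp _ _ fst ((AlgSp.repWith_yon_map_iff _ _).2 h1) ha h.w.symm
  have hd : DiscreteTopology ↥W.left := discreteTopology_of_etale (K := k) snd.left
  refine discreteTopology_iff_isOpen_singleton.2 fun u => ?_
  obtain ⟨t, ht⟩ := exists_ofPt_eq hps (AlgSp.Points.ofPt a u)
  obtain ⟨w, rfl, rfl⟩ := (ofPt_eq_iff h u t).1 ht.symm
  have := fst.left.isOpenMap {w} (isOpen_discrete _)
  rwa [Set.image_singleton] at this

theorem isLocallyNoetherian_chart {X : AlgSp.Sp S} {k : Type u} [Field k]
    {str : Spec (CommRingCat.of k) ⟶ S} {p : (AlgSp.yon S).obj (Over.mk str) ⟶ X}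
    (hpp : AlgSp.LocP @LocallyOfFinitePresentation p)
    (hpf : AlgSp.LocP @Flat p) (hps : AlgSp.IsSurjectiveMor p) {U : Over S}
    {a : (AlgSp.yon S).obj U ⟶ X} (ha : AlgSp.RepWith @Etale a) :
    IsLocallyNoetherian U.left := by
  have := discreteTopology_chart hpp hpf hps ha
  have : ∀ u : ↥U.left, _root_.IsReduced (U.left.presheaf.stalk u) := fun u => by
    let _ := (isField_stalk_chart hpf hps ha u).toField
    infer_instance
  have := isReduced_of_isReduced_stalk U.left
  have : IsLocallyArtinian U.left := inferInstance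
  infer_instance

theorem isRegularLocalRing_of_isField {A : Type u} [CommRing A] (h : IsField A) :
    IsRegularLocalRing A := by
  let _ := h.toField
  exact (inferInstance : IsRegularLocalRing A)

end K619.Singleton
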