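import Groth.Prelude.Def_AlgSpDec
import Groth.Prelude.Def_AlgSp4

/-!
Small private kit: fibre products of schemes over an algebraic space, points.
-/

set_option autoImplicit false
universe u
open CategoryTheory CategoryTheory.Limits AlgebraicGeometry Topology TopologicalSpace Opposite

namespace K619.Basic

variable {S : Scheme.{u}}

/-- Fibre products of schemes over a sheaf along a representable map. -/
theorem exists_isPullback_of_rep {X : AlgSp.Sp S} {U V : Over S}
    {a : (AlgSp.yon S).obj U ⟶ X} (ha : AlgSp.Representable a) (b : (AlgSp.yon S).obj V ⟶ X) :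
    ∃ (W : Over S) (fst : W ⟶ U) (snd : W ⟶ V),
      IsPullback ((AlgSp.yon S).map fst) ((AlgSp.yon S).map snd) a b := by
  obtain ⟨W, snd, fst, h⟩ := ha b
  obtain ⟨fst, rfl⟩ := (AlgSp.yon S).map_surjective fst
  exact ⟨W, fst, snd, h⟩

/-- Fibre products of schemes over an algebraic space. -/
theorem exists_isPullback {X : AlgSp.Sp S} (hX : AlgSp.IsAlgSpace X) {U V : Over S}
    (a : (AlgSp.yon S).obj U ⟶ X) (b : (AlgSp.yon S).obj V ⟶ X) :
    ∃ (W : Over S) (fst : W ⟶ U) (snd : W ⟶ V),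
      IsPullback ((AlgSp.yon S).map fst) ((AlgSp.yon S).map snd) a b :=
  exists_isPullback_of_rep (hX.representable_from_yon a) b

theorem prop_snd {P : MorphismProperty Scheme.{u}} {X : AlgSp.Sp S} {U V W : Over S}
    {a : (AlgSp.yon S).obj U ⟶ X} {b : (AlgSp.yon S).obj V ⟶ X} {fst : W ⟶ U} {snd : W ⟶ V}
    (ha : AlgSp.RepWith P a)
    (h : IsPullback ((AlgSp.yon S).map fst) ((AlgSp.yon S).map snd) a b) : P snd.left :=
  ha.2 _ _ _ h

theorem prop_fst {P : MorphismProperty Scheme.{u}} {X : AlgSp.Sp S} {U V W : Over S}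
    {a : (AlgSp.yon S).obj U ⟶ X} {b : (AlgSp.yon S).obj V ⟶ X} {fst : W ⟶ U} {snd : W ⟶ V}
    (hb : AlgSp.RepWith P b)
    (h : IsPullback ((AlgSp.yon S).map fst) ((AlgSp.yon S).map snd) a b) : P fst.left :=
  hb.2 _ _ _ h.flip

/-- A cartesian square of representable sheaves is a cartesian square of schemes over `S`. -/
theorem isPullback_of_map {U V W T : Over S} {fst : W ⟶ U} {snd : W ⟶ V} {f : U ⟶ T} {g : V ⟶ T}
    (h : IsPullback ((AlgSp.yon S).map fst) ((AlgSp.yon S).map snd) ((AlgSp.yon S).map f)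
      ((AlgSp.yon S).map g)) : IsPullback fst snd f g :=
  IsPullback.of_map (AlgSp.yon S) ((AlgSp.yon S).map_injective (by simpa using h.w)) h

theorem isPullback_left {U V W T : Over S} {fst : W ⟶ U} {snd : W ⟶ V} {f : U ⟶ T} {g : V ⟶ T}
    (h : IsPullback fst snd f g) : IsPullback fst.left snd.left f.left g.left :=
  h.map (Over.forget S)

/-- the equivalence of field-valued points in terms of morphisms -/
theorem mk_eq_mk_iff' {F : AlgSp.Sp S} {p q : AlgSp.FieldPt F} :
    AlgSp.Points.mk p = AlgSp.Points.mk q ↔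
      ∃ (Ω : Type u) (_ : Field Ω) (w : Spec (CommRingCat.of Ω) ⟶ S) (a : Over.mk w ⟶ p.pt)
        (b : Over.mk w ⟶ q.pt),
        (AlgSp.yon S).map a ≫ p.toHom = (AlgSp.yon S).map b ≫ q.toHom := by
  rw [AlgSp.Points.mk_eq_mk_iff]
  constructor
  · rintro ⟨Ω, _, w, a, b, h⟩
    refine ⟨Ω, inferInstance, w, a, b, ?_⟩
    apply (AlgSp.J S).uliftYonedaEquiv.injective
    rw [← GrothendieckTopology.uliftYonedaEquiv_naturality,
      ← GrothendieckTopology.uliftYonedaEquiv_naturality, AlgSp.FieldPt.uliftYonedaEquiv_toHom,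
      AlgSp.FieldPt.uliftYonedaEquiv_toHom, h]
  · rintro ⟨Ω, _, w, a, b, h⟩
    refine ⟨Ω, inferInstance, w, a, b, ?_⟩
    have := congrArg (AlgSp.J S).uliftYonedaEquiv h
    rwa [← GrothendieckTopology.uliftYonedaEquiv_naturality,
      ← GrothendieckTopology.uliftYonedaEquiv_naturality, AlgSp.FieldPt.uliftYonedaEquiv_toHom,
      AlgSp.FieldPt.uliftYonedaEquiv_toHom] at this

/-- Points through a morphism of schemes. -/
theorem ofPt_map_comp {F : AlgSp.Sp S} {T T' : Over S} (f : T ⟶ T')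
    (a : (AlgSp.yon S).obj T' ⟶ F) (t : ↥T.left) :
    AlgSp.Points.ofPt ((AlgSp.yon S).map f ≫ a) t = AlgSp.Points.ofPt a (f.left t) := by
  rw [← AlgSp.Points.map_ofPt, AlgSp.Points.ofPt_eq_map_ofScheme a]
  congr 1
  rw [← AlgSp.Points.toScheme_ofPt f t, AlgSp.Points.ofScheme_toScheme]

/-- Every point of `F` is the point defined by a morphism from the spectrum of a field. -/
theorem exists_rep {F : AlgSp.Sp S} (x : AlgSp.Points F) :
    ∃ (K : Type u) (_ : Field K) (str : Spec (CommRingCat.of K) ⟶ S)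
      (g : (AlgSp.yon S).obj (Over.mk str) ⟶ F), ∀ s, AlgSp.Points.ofPt g s = x := by
  induction x using AlgSp.Points.ind with
  | h p => exact ⟨p.K, inferInstance, p.str, p.toHom, fun s => AlgSp.Points.ofPt_toHom p s⟩

/-- Two points of schemes over `F` have the same image in `F` iff they come from the fibre product. -/
theorem ofPt_eq_iff {F : AlgSp.Sp S} {U V W : Over S} {a : (AlgSp.yon S).obj U ⟶ F}
    {b : (AlgSp.yon S).obj V ⟶ F} {fst : W ⟶ U} {snd : W ⟶ V}
    (h : IsPullback ((AlgSp.yon S).map fst) ((AlgSp.yon S).map snd) a b) (u : ↥U.left)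
    (v : ↥V.left) :
    AlgSp.Points.ofPt a u = AlgSp.Points.ofPt b v ↔ ∃ w : ↥W.left, fst.left w = u ∧ snd.left w = v := by
  constructor
  · intro e
    obtain ⟨Ω, _, w, α, β, e⟩ := mk_eq_mk_iff'.1 e
    rw [AlgSp.FieldPt.toHom_ofPt, AlgSp.FieldPt.toHom_ofPt, ← Category.assoc, ← Category.assoc,
      ← Functor.map_comp, ← Functor.map_comp] at e
    obtain ⟨γ, hγ⟩ := (AlgSp.yon S).map_surjective (h.lift _ _ e)
    have h1 : γ ≫ fst = α ≫ Over.homMk (U.left.fromSpecResidueField u) rfl :=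
      (AlgSp.yon S).map_injective (by rw [Functor.map_comp, hγ, h.lift_fst])
    have h2 : γ ≫ snd = β ≫ Over.homMk (V.left.fromSpecResidueField v) rfl :=
      (AlgSp.yon S).map_injective (by rw [Functor.map_comp, hγ, h.lift_snd])
    refine ⟨γ.left (IsLocalRing.closedPoint Ω), ?_, ?_⟩
    · have e1 : fst.left (γ.left (IsLocalRing.closedPoint Ω)) =
          U.left.fromSpecResidueField u (α.left (IsLocalRing.closedPoint Ω)) :=
        congrArg (fun z : Over.mk w ⟶ U => z.left (IsLocalRing.closedPoint Ω)) h1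
      rw [e1]
      exact Scheme.fromSpecResidueField_apply _ _
    · have e1 : snd.left (γ.left (IsLocalRing.closedPoint Ω)) =
          V.left.fromSpecResidueField v (β.left (IsLocalRing.closedPoint Ω)) :=
        congrArg (fun z : Over.mk w ⟶ V => z.left (IsLocalRing.closedPoint Ω)) h2
      rw [e1]
      exact Scheme.fromSpecResidueField_apply _ _
  · rintro ⟨w, rfl, rfl⟩
    rw [← ofPt_map_comp, ← ofPt_map_comp, h.w]

/-- Morphisms from `Spec K` are determined by points: `Points.ofPt` is constant -/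
theorem ofPt_spec {F : AlgSp.Sp S} {K : Type u} [Field K] {str : Spec (CommRingCat.of K) ⟶ S}
    (g : (AlgSp.yon S).obj (Over.mk str) ⟶ F) (s t : ↥(Over.mk str).left) :
    AlgSp.Points.ofPt g s = AlgSp.Points.ofPt g t := by
  have : Subsingleton ↥(Over.mk str).left := by dsimp; infer_instance
  rw [Subsingleton.elim s t]

/-- A representable surjective map is surjective on points. -/
theorem ofPt_surjective {F : AlgSp.Sp S} {U : Over S} {a : (AlgSp.yon S).obj U ⟶ F}
    (ha : AlgSp.RepWith @Surjective a) : Function.Surjective (AlgSp.Points.ofPt a) := by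
  intro x
  obtain ⟨K, _, str, g, hg⟩ := exists_rep x
  obtain ⟨W, fst, snd, h⟩ := exists_isPullback_of_rep ha.1 g
  have : Surjective snd.left := prop_snd ha h
  obtain ⟨w, hw⟩ := snd.left.surjective (IsLocalRing.closedPoint K)
  refine ⟨fst.left w, ?_⟩
  rw [(ofPt_eq_iff h _ (IsLocalRing.closedPoint K)).2 ⟨w, rfl, hw⟩]
  exact hg _

/-- A representable map which is surjective on points is representable surjective. -/
theorem repWith_surjective {F : AlgSp.Sp S} {U : Over S} {a : (AlgSp.yon S).obj U ⟶ F}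
    (ha : AlgSp.Representable a) (hs : Function.Surjective (AlgSp.Points.ofPt a)) :
    AlgSp.RepWith @Surjective a := by
  refine ⟨ha, fun V W g fst snd h => ⟨fun v => ?_⟩⟩
  obtain ⟨fst, rfl⟩ := (AlgSp.yon S).map_surjective fst
  obtain ⟨u, hu⟩ := hs (AlgSp.Points.ofPt g v)
  obtain ⟨w, hw⟩ := (ofPt_eq_iff h u v).1 hu
  exact ⟨w, hw.2⟩

/-- Etale (or universally open) charts are open. -/
theorem isOpenMap_ofPt {F : AlgSp.Sp S} {U : Over S} {a : (AlgSp.yon S).obj U ⟶ F}
    (ha : AlgSp.RepWith @Etale a) : IsOpenMap (AlgSp.Points.ofPt a) := by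
  intro O hO
  rw [AlgSp.Points.isOpen_iff]
  intro T g
  obtain ⟨W, fst, snd, h⟩ := exists_isPullback_of_rep ha.1 g
  have he : Etale snd.left := prop_snd ha h
  have : AlgSp.Points.ofPt g ⁻¹' (AlgSp.Points.ofPt a '' O) = snd.left '' (fst.left ⁻¹' O) := by
    ext t
    constructor
    · rintro ⟨u, hu, e⟩
      obtain ⟨w, rfl, rfl⟩ := (ofPt_eq_iff h u t).1 e
      exact ⟨w, hu, rfl⟩
    · rintro ⟨w, hw, rfl⟩
      exact ⟨fst.left w, hw, (ofPt_eq_iff h _ _).2 ⟨w, rfl, rfl⟩⟩
  rw [this]
  exact snd.left.isOpenMap _ (hO.preimage fst.left.continuous)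

end K619.Basic
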