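import Groth.Agent.AlgSp.K619.QCPoint

/-!
# Closed points of decent spaces

* `isClosedImmersion_of_mono_of_discrete` : a mono `E ⟶ V` from a finite scheme étale over a field, with closed points as
  images, is a closed immersion.
* `repWith_isClosedImmersion` : a mono field point with finite fibres over a closed point is a closed immersion.
-/

set_option autoImplicit false
universe u
open CategoryTheory CategoryTheory.Limits AlgebraicGeometry Opposite Topology

namespace K619.Closed

open AlgSp K621.Base K619.FinFib K621.Decent K609.Sep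

variable {S : Scheme.{u}}

theorem surjective_of_mono_field {R L : CommRingCat.{u}} [IsLocalRing R] (hL : IsField L) (φ : R ⟶ L)
    [IsLocalHom φ.hom] [Mono (Spec.map φ)] : Function.Surjective φ.hom := by
  let _ := hL.toField
  let r : R ⟶ CommRingCat.of (IsLocalRing.ResidueField R) := CommRingCat.ofHom (IsLocalRing.residue R)
  let ψ : CommRingCat.of (IsLocalRing.ResidueField R) ⟶ L :=
    CommRingCat.ofHom (IsLocalRing.ResidueField.lift φ.hom)
  have h1 : r ≫ ψ = φ := by
    ext x
    exact IsLocalRing.ResidueField.lift_residue_apply φ.hom x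
  have h2 : Spec.map ψ ≫ Spec.map r = Spec.map φ := by rw [← Spec.map_comp, h1]
  have h3 : Mono (Spec.map ψ ≫ Spec.map r) := by rw [h2]; infer_instance
  have h4 : Mono (Spec.map ψ) := mono_of_mono _ (Spec.map r)
  have h5 : Nonempty ↥(Spec L) := inferInstanceAs (Nonempty (PrimeSpectrum L))
  have h6 : IsIso (Spec.map ψ) := K619.EtField.isIso_of_mono_field (K := IsLocalRing.ResidueField R) (Spec.map ψ)
  have h7 : IsIso ψ := by
    have h8 : IsIso (Scheme.Spec.map ψ.op) := h6
    have := isIso_of_reflects_iso ψ.op Scheme.Spec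
    exact (isIso_op_iff ψ).1 this
  have h9 : Function.Surjective ψ.hom := (ConcreteCategory.bijective_of_isIso ψ).2
  rw [← h1]
  exact h9.comp Ideal.Quotient.mk_surjective

theorem surjectiveOnStalks_of_mono {E V : Scheme.{u}} (f : E ⟶ V) [Mono f]
    (hE : ∀ e : E, IsField (E.presheaf.stalk e)) : SurjectiveOnStalks f := by
  refine ⟨fun e => ?_⟩
  have h1 : Spec.map (f.stalkMap e) ≫ V.fromSpecStalk (f e) = E.fromSpecStalk e ≫ f :=
    Scheme.SpecMap_stalkMap_fromSpecStalk f
  have h2 : Mono (Spec.map (f.stalkMap e) ≫ V.fromSpecStalk (f e)) := by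
    rw [h1]; infer_instance
  have h3 : Mono (Spec.map (f.stalkMap e)) := mono_of_mono _ (V.fromSpecStalk (f e))
  exact surjective_of_mono_field (hE e) (f.stalkMap e)

theorem isClosedImmersion_of_mono {E V : Scheme.{u}} (f : E ⟶ V) [Mono f] [Finite ↥E]
    (hE : ∀ e : E, IsField (E.presheaf.stalk e)) (hc : ∀ e : E, IsClosed ({f e} : Set ↥V)) :
    IsClosedImmersion f := by
  have h1 := surjectiveOnStalks_of_mono f hE
  refine (isClosedImmersion_iff f).2 ⟨h1, ?_⟩
  refine Topology.IsClosedEmbedding.of_continuous_injective_isClosedMap f.continuous f.injective ?_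
  intro Z _
  have h2 : (f '' Z) = ⋃ z ∈ Z, {f z} := by
    ext v
    simp [eq_comm]
  rw [h2]
  exact (Set.toFinite Z).isClosed_biUnion fun z _ => hc z

/-- A mono field point over a closed point with finite fibres is a closed immersion. -/
theorem repWith_isClosedImmersion {X : Sp S} (hX : IsAlgSpace X) (p : FieldPt X) (hm : Mono p.toHom)
    (hfin : FinFibres X (Points.mk p)) (hx : IsClosed ({Points.mk p} : Set (Points X))) :
    RepWith @IsClosedImmersion p.toHom := by
  have := Groth.Agent.Desc.MorDescent.descendsAlong_isClosedImmersion.{u}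
  have hd : MorphismProperty.DescendsAlong (@IsClosedImmersion : MorphismProperty Scheme.{u}) Fppf := inferInstance
  refine K619.QCPoint.repWith_of_affine_charts @IsClosedImmersion hX (hX.representable_from_yon p.toHom) ?_
  intro V E a fst snd hV ha sq
  obtain ⟨e, rfl⟩ := (yon S).map_surjective fst
  have h1 : (Points.ofPt a ⁻¹' {Points.mk p}).Finite := hfin V a hV ha
  have h2 : Mono snd.left := K618.FieldFib.mono_left_of_isPullback sq
  have h4 : ∀ z : ↥E.left, Points.ofPt a (snd.left z) = Points.mk p := by
    intro z
    have h5 : Points.ofPt a (snd.left z) = Points.ofPt p.toHom (e.left z) :=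
      (ofPt_eq_of_isPullback sq.toCommSq z).symm
    rw [h5]
    exact Points.ofPt_toHom p _
  have h3 : Finite ↥E.left := by
    have := h1.to_subtype
    exact Finite.of_injective (fun z => (⟨snd.left z, h4 z⟩ : Points.ofPt a ⁻¹' {Points.mk p}))
      (fun z w hzw => snd.left.injective (congrArg Subtype.val hzw))
  have he : Etale e.left := ha.2 _ _ _ sq.flip
  let e' : E.left ⟶ Spec (CommRingCat.of p.K) := e.left
  have he' : Etale e' := he
  refine isClosedImmersion_of_mono snd.left (fun z => K619.EtField.isField_stalk_of_etale e' z) ?_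
  intro z
  have h6 : IsClosed (Points.ofPt a ⁻¹' {Points.mk p}) := hx.preimage (Points.continuous_ofPt a)
  refine isClosed_of_closure_subset ?_
  intro v hv
  have h7 : snd.left z ⤳ v := specializes_iff_mem_closure.2 hv
  have h8 : v ∈ Points.ofPt a ⁻¹' {Points.mk p} := h7.mem_closed h6 (h4 z)
  have h9 : Points.ofPt a (snd.left z) = Points.ofPt a v := (h4 z).trans h8.symm
  have h10 := eq_of_specializes hX ha h7 h9 (by rw [← h9, h4 z]; exact hfin)
  exact h10.symm

end K619.Closed
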