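import Groth.Agent.AlgSp.K598.Red
import Groth.Agent.AlgSp.K610.SchLocus

/-!
# Closed subsets contained in an open subscheme
-/

set_option autoImplicit false
universe u
open CategoryTheory CategoryTheory.Limits AlgebraicGeometry Opposite AlgSp

namespace K619.ClosedIn

variable {S : Scheme.{u}}

/-- A closed subset of an algebraic space contained in an open subscheme is the image of a closed subspace which
is a scheme. -/
theorem exists_scheme {Y : Sp S} (hY : IsAlgSpace Y) {U : Over S} {j : (yon S).obj U ⟶ Y}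
    (hj : RepWith @IsOpenImmersion j) (C : Set (Points Y)) (hC : IsClosed C)
    (hCU : C ⊆ Set.range (Points.ofPt j)) :
    ∃ (T : Over S) (c : T ⟶ U), RepWith @IsClosedImmersion ((yon S).map c ≫ j) ∧
      Set.range (Points.ofPt ((yon S).map c ≫ j)) = C := by
  obtain ⟨Z, i, -, hi⟩ := K598.Red.exists_isRedInduced hY C hC
  obtain ⟨g, hg⟩ := (K610.Factor.factors_open_iff hj i).2 (by
    rw [hi.2.1, ← K610.SchLocus.range_ofPt]
    exact hCU)
  have hm : Mono j := K610.Factor.mono_of_isOpenImmersion hj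
  have hgc : RepWith @IsClosedImmersion g := K610.OpenImm.repWith_of_comp_mono (j := j) (by rw [hg]; exact hi.1)
  have sq := hgc.rep.isPullback (𝟙 ((yon S).obj U))
  have h1 : IsIso (hgc.rep.fst (𝟙 ((yon S).obj U))) := sq.isIso_fst_of_isIso
  have h2 : (yon S).map (hgc.rep.snd (𝟙 ((yon S).obj U))) = hgc.rep.fst (𝟙 ((yon S).obj U)) ≫ g := by
    rw [sq.w, Category.comp_id]
  refine ⟨_, hgc.rep.snd (𝟙 ((yon S).obj U)), ?_, ?_⟩
  · rw [h2, Category.assoc, hg]
    exact MorphismProperty.comp_mem _ _ _ (MorphismProperty.of_isIso (P := RepWith @IsClosedImmersion) _) hi.1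
  · rw [h2, Category.assoc, hg, ← hi.2.1, K610.SchLocus.range_ofPt]
    ext y
    constructor
    · rintro ⟨x, rfl⟩
      exact ⟨Points.map (hgc.rep.fst (𝟙 ((yon S).obj U))) x, (Points.map_comp _ _ _).symm⟩
    · rintro ⟨x, rfl⟩
      refine ⟨Points.map (inv (hgc.rep.fst (𝟙 ((yon S).obj U)))) x, ?_⟩
      rw [← Points.map_comp, IsIso.inv_hom_id_assoc]

end K619.ClosedIn
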