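import Groth.Agent.AlgSp.K621.Base
import Groth.Agent.Sga1.QuotBasic

/-!
# Free invariant affine neighbourhoods

* `exists_free_open` : `G` finite acting on a separated scheme `W`, `t : Spec L ⟶ W` with fixed image and `t g ≠ t` for
  `g ≠ 1`: the image of `t` has arbitrarily small invariant affine open neighbourhoods on which `G` acts freely.
* `exists_restrict` : restriction of an action to an invariant open.
-/

set_option autoImplicit false
universe u
open CategoryTheory CategoryTheory.Limits AlgebraicGeometry Opposite Topology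

namespace K619.FreeOpen

open AlgSp K621.Base

theorem exists_lift_of_mem_range {Z W T : Scheme.{u}} (i : Z ⟶ W) [IsClosedImmersion i] (t : T ⟶ W) [IsReduced T]
    (h : ∀ x : T, t x ∈ Set.range i) : ∃ l : T ⟶ Z, l ≫ i = t := by
  have h1 : Surjective (pullback.snd i t) := by
    refine ⟨fun x => ?_⟩
    obtain ⟨z, hz⟩ := h x
    obtain ⟨w, -, hw⟩ := Scheme.Pullback.exists_preimage_pullback (f := i) (g := t) z x hz
    exact ⟨w, hw⟩
  have h2 : IsIso (pullback.snd i t) := isIso_of_isClosedImmersion_of_surjective _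
  refine ⟨inv (pullback.snd i t) ≫ pullback.fst i t, ?_⟩
  rw [Category.assoc, pullback.condition, IsIso.inv_hom_id_assoc]

theorem exists_free_open {W : Scheme.{u}} [W.IsSeparated] {G : Type u} [Group G] [Finite G] (ρ : G →* Aut W)
    {L : Type u} [Field L] (t : Spec (CommRingCat.of L) ⟶ W)
    (hfix : ∀ g, (ρ g).hom (t (IsLocalRing.closedPoint L)) = t (IsLocalRing.closedPoint L))
    (hfree : ∀ g, g ≠ 1 → t ≫ (ρ g).hom ≠ t) (O : W.Opens) (hO : t (IsLocalRing.closedPoint L) ∈ O) :
    ∃ A : W.Opens, IsAffineOpen A ∧ t (IsLocalRing.closedPoint L) ∈ A ∧ A ≤ O ∧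
      (∀ g, A ≤ (ρ g).hom ⁻¹ᵁ A) ∧
      ∀ (K : Type u) [Field K] (ξ : Spec (CommRingCat.of K) ⟶ W) (g : G),
        ξ (IsLocalRing.closedPoint K) ∈ A → ξ ≫ (ρ g).hom = ξ → g = 1 := by
  let F : G → Set ↥W := fun g => Set.range (equalizer.ι (ρ g).hom (𝟙 W))
  have hFc : ∀ g, IsClosed (F g) := fun g => (equalizer.ι (ρ g).hom (𝟙 W)).isClosedEmbedding.isClosed_range
  have hwF : ∀ g, g ≠ 1 → t (IsLocalRing.closedPoint L) ∉ F g := by
    intro g hg hw
    obtain ⟨l, hl⟩ := exists_lift_of_mem_range (equalizer.ι (ρ g).hom (𝟙 W)) t (fun x => by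
      have : x = IsLocalRing.closedPoint L := Subsingleton.elim (α := PrimeSpectrum L) _ _
      rw [this]
      exact hw)
    apply hfree g hg
    rw [← hl, Category.assoc, equalizer.condition, Category.comp_id]
  let O' : W.Opens := O ⊓ ⟨⋂ g ∈ {g : G | g ≠ 1}, (F g)ᶜ,
    (Set.toFinite _).isOpen_biInter fun g _ => (hFc g).isOpen_compl⟩
  have hO' : t (IsLocalRing.closedPoint L) ∈ O' :=
    ⟨hO, Set.mem_iInter₂.2 fun g hg => hwF g hg⟩
  obtain ⟨A0, hA0, hwA0, hA0O⟩ := exists_isAffineOpen_mem_and_subset hO'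
  let A : W.Opens := ⨅ g, (ρ g).hom ⁻¹ᵁ A0
  have hAle : A ≤ A0 := (iInf_le _ (1 : G)).trans (by
    rw [map_one]
    intro x hx
    exact hx)
  have hmem : ∀ x, x ∈ A ↔ ∀ g, (ρ g).hom x ∈ A0 := by
    intro x
    change x ∈ ((⨅ g, (ρ g).hom ⁻¹ᵁ A0 : W.Opens) : Set ↥W) ↔ _
    rw [TopologicalSpace.Opens.coe_iInf]
    simp
  refine ⟨A, ?_, ?_, ?_, ?_, ?_⟩
  · exact IsAffineOpen.iInf fun g => hA0.preimage_of_isIso _
  · rw [hmem]
    intro g
    rw [hfix]
    exact hwA0
  · exact hAle.trans (fun x hx => (hA0O hx).1)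
  · intro g x hx
    rw [hmem] at hx
    change (ρ g).hom x ∈ A
    rw [hmem]
    intro h
    have h1 : (ρ (h * g)).hom = (ρ g).hom ≫ (ρ h).hom := by rw [map_mul]; rfl
    have h2 := hx (h * g)
    rw [h1] at h2
    exact h2
  · intro K _ ξ g hξ he
    by_contra hg
    have h1 := (hA0O (hAle hξ)).2
    have h2 := Set.mem_iInter₂.1 h1 g hg
    apply h2
    refine ⟨equalizer.lift ξ (by rw [he, Category.comp_id]) (IsLocalRing.closedPoint K), ?_⟩
    rw [← Scheme.Hom.comp_apply, equalizer.lift_ι]

variable {S : Scheme.{u}}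

theorem mono_openChartι (W : Over S) (A : W.left.Opens) : Mono (openChartι W A) := by
  have : Mono (openChartι W A).left := inferInstanceAs (Mono A.ι)
  exact Over.mono_of_mono_left _

theorem exists_restrict {W : Over S} {G : Type u} [Group G] (ρ : G →* Aut W) (A : W.left.Opens)
    (hA : ∀ g, A ≤ (ρ g).hom.left ⁻¹ᵁ A) :
    ∃ ρA : G →* Aut (openChart W A), ∀ g, (ρA g).hom ≫ openChartι W A = openChartι W A ≫ (ρ g).hom := by
  have := mono_openChartι W A
  let r : G → (openChart W A ⟶ openChart W A) := fun g => Over.homMk ((ρ g).hom.left.resLE A A (hA g)) (by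
      change (ρ g).hom.left.resLE A A (hA g) ≫ A.ι ≫ W.hom = A.ι ≫ W.hom
      rw [← Category.assoc, Scheme.Hom.resLE_comp_ι, Category.assoc, Over.w (ρ g).hom])
  have hr : ∀ g, r g ≫ openChartι W A = openChartι W A ≫ (ρ g).hom := by
    intro g
    apply Over.OverMorphism.ext
    exact Scheme.Hom.resLE_comp_ι _ _
  have hmul : ∀ g h, r (g * h) = r h ≫ r g := by
    intro g h
    rw [← cancel_mono (openChartι W A), Category.assoc, hr, hr, ← Category.assoc, hr, Category.assoc, map_mul]
    rfl
  have hone : r 1 = 𝟙 _ := by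
    rw [← cancel_mono (openChartι W A), hr, map_one, Category.id_comp]
    exact Category.comp_id _
  refine ⟨{ toFun := fun g =>
              { hom := r g
                inv := r g⁻¹
                hom_inv_id := by rw [← hmul, inv_mul_cancel, hone]
                inv_hom_id := by rw [← hmul, mul_inv_cancel, hone] }
            map_one' := by
              ext1
              exact hone
            map_mul' := fun g h => by
              ext1
              exact hmul g h }, hr⟩

end K619.FreeOpen
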