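import Mathlib.FieldTheory.Galois.Basic
import Mathlib.FieldTheory.SeparableClosure
import Mathlib.FieldTheory.Normal.Closure
import Mathlib.FieldTheory.IsAlgClosed.AlgebraicClosure
import Mathlib.RingTheory.Etale.Field
import Mathlib.RingTheory.Unramified.Finite
import Mathlib.RingTheory.Unramified.Field

/-!
# Galois closures of finite étale field extensions
-/

set_option autoImplicit false
universe u

namespace K619.GalCl

theorem exists_galois_closure (k K : Type u) [Field k] [Field K] [Algebra k K] [Algebra.Etale k K] :
    ∃ (L : Type u) (_ : Field L) (_ : Algebra k L), IsGalois k L ∧ FiniteDimensional k L ∧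
      Nonempty (K →ₐ[k] L) ∧ Finite (K →ₐ[k] L) ∧
      ∀ σ : L ≃ₐ[k] L, (∀ φ : K →ₐ[k] L, (σ : L →ₐ[k] L).comp φ = φ) → σ = 1 := by
  have h0 : Module.Finite k K := Algebra.FormallyUnramified.finite_of_free k K
  have h1 : Algebra.IsSeparable k K := Algebra.FormallyUnramified.isSeparable k K
  let Ω := AlgebraicClosure K
  let L := IntermediateField.normalClosure k K Ω
  have hn : Normal k L := inferInstance
  have hs : Algebra.IsSeparable k L := by
    have h8 : IsNormalClosure k K L := inferInstance
    have h9 := (Algebra.IsAlgebraic.isNormalClosure_iff.1 h8).2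
    rw [normalClosure_def] at h9
    have h10 : (⊤ : IntermediateField k L) ≤ separableClosure k L := by
      rw [← h9]
      refine iSup_le fun φ => ?_
      rintro _ ⟨x, rfl⟩
      rw [mem_separableClosure_iff]
      have h11 := Algebra.IsSeparable.isSeparable k x
      exact IsSeparable.map φ φ.toRingHom.injective h11
    refine ⟨fun x => ?_⟩
    exact mem_separableClosure_iff.1 (h10 (IntermediateField.mem_top (x := x)))
  have h2 : IsGalois k L := {}
  have h3 : FiniteDimensional k L := inferInstance
  have h4 : Nonempty (K →ₐ[k] L) := ⟨IsScalarTower.toAlgHom k K L⟩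
  refine ⟨L, inferInstance, inferInstance, h2, h3, h4, inferInstance, ?_⟩
  intro σ hσ
  have h5 : IsNormalClosure k K L := inferInstance
  have h6 := (Algebra.IsAlgebraic.isNormalClosure_iff.1 h5).2
  rw [normalClosure_def] at h6
  have h7 : (⊤ : IntermediateField k L) ≤ IntermediateField.fixedField (Subgroup.zpowers σ) := by
    rw [← h6]
    refine iSup_le fun φ => ?_
    rintro _ ⟨x, rfl⟩
    rintro ⟨τ, hτ⟩
    have hfix : σ ∈ MulAction.stabilizer (L ≃ₐ[k] L) (φ x) := by
      rw [MulAction.mem_stabilizer_iff]
      exact congrArg (fun f : K →ₐ[k] L => f x) (hσ φ)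
    have := (Subgroup.zpowers_le.2 hfix) hτ
    exact this
  apply AlgEquiv.ext
  intro z
  exact h7 (IntermediateField.mem_top (x := z)) ⟨σ, Subgroup.mem_zpowers σ⟩

end K619.GalCl
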