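import Groth.Agent.AlgSp.K619.QCPoint
import Groth.Agent.AlgSp.K638.RedEt
import Groth.Agent.AlgSp.K613.Cover
import Groth.Agent.AlgSp.K610.Factor
import Groth.Agent.AlgSp.K622.Basic
import Groth.Agent.AlgSp.K594.Cover

/-!
# Factoring through a quasi-compact mono field point

* `factor_of_affine` : a map from an affine reduced scheme through an affine chart, with image a single point.
* `factor_of_fam` : factorisation through a mono is local for fppf families.
* `factor_of_reduced` (S10373).
-/

set_option autoImplicit false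
universe u
open CategoryTheory CategoryTheory.Limits AlgebraicGeometry Opposite Topology

namespace K619.FactorPt

open AlgSp K621.Base K619.FinFib K621.Decent K609.Sep

variable {S : Scheme.{u}}

theorem exists_residueField_lift {R B : Type u} [CommRing R] [CommRing B] [_root_.IsReduced B] (φ : R →+* B)
    (P : Ideal R) [P.IsPrime] (h : ∀ q : PrimeSpectrum B, q.asIdeal.comap φ = P) :
    ∃ ψ : P.ResidueField →+* B, ψ.comp (algebraMap R P.ResidueField) = φ := by
  have h1 : P ≤ RingHom.ker φ := by
    intro a ha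
    have h1 : φ a ∈ nilradical B := by
      rw [nilradical_eq_sInf, Submodule.mem_sInf]
      intro J hJ
      have := h ⟨J, hJ⟩
      rw [← this] at ha
      exact ha
    rw [nilradical_eq_zero B] at h1
    exact h1
  have h2 : P.primeCompl ≤ (IsUnit.submonoid B).comap φ := by
    intro a ha
    rw [Submonoid.mem_comap, IsUnit.mem_submonoid_iff]
    by_contra hu
    obtain ⟨m, hm, hma⟩ := exists_max_ideal_of_mem_nonunits hu
    have := h ⟨m, hm.isPrime⟩
    exact ha (by rw [← this]; exact hma)
  refine ⟨Ideal.ResidueField.lift P φ h1 h2, ?_⟩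
  ext a
  exact Ideal.ResidueField.lift_algebraMap P φ h1 h2 a

/-- A morphism from an affine reduced scheme to an affine scheme whose image is one point, followed by an étale chart,
factors through any representable mono field point in the class of this point. -/
theorem factor_of_affine {X : Sp S} {T U : Over S} [IsAffine T.left] [IsReduced T.left] [IsAffine U.left]
    (h : T ⟶ U) (a : (yon S).obj U ⟶ X) (u : ↥U.left) (hu : ∀ t : ↥T.left, h.left t = u)
    (p : FieldPt X) (hm : Mono p.toHom) (hr : Representable p.toHom) (hp : Points.ofPt a u = Points.mk p) :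
    ∃ g : T ⟶ p.pt, (yon S).map g ≫ p.toHom = (yon S).map h ≫ a := by
  let P : Ideal Γ(U.left, ⊤) := (U.left.isoSpec.hom u).asIdeal
  have hP : P.IsPrime := (U.left.isoSpec.hom u).isPrime
  have hred : _root_.IsReduced Γ(T.left, ⊤) := inferInstance
  obtain ⟨ψ, hψ⟩ := exists_residueField_lift h.left.appTop.hom P (by
    intro q
    have h1 : U.left.isoSpec.hom (h.left (T.left.isoSpec.inv q)) = U.left.isoSpec.hom u := by rw [hu]
    have h2 : T.left.isoSpec.inv ≫ h.left ≫ U.left.isoSpec.hom = Spec.map h.left.appTop := by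
      rw [Iso.inv_comp_eq]
      exact (Scheme.isoSpec_hom_naturality h.left).symm
    have h3 : U.left.isoSpec.hom (h.left (T.left.isoSpec.inv q)) = Spec.map h.left.appTop q := by
      rw [← h2]; rfl
    rw [h3] at h1
    exact congrArg PrimeSpectrum.asIdeal h1)
  let K : Type u := P.ResidueField
  let c0 : Spec (CommRingCat.of K) ⟶ U.left :=
    Spec.map (CommRingCat.ofHom (algebraMap Γ(U.left, ⊤) K)) ≫ U.left.isoSpec.inv
  let k : Over S := Over.mk (c0 ≫ U.hom)
  let c : k ⟶ U := Over.homMk c0 rfl
  let d0 : T.left ⟶ Spec (CommRingCat.of K) := T.left.isoSpec.hom ≫ Spec.map (CommRingCat.ofHom ψ)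
  have hd0 : d0 ≫ c0 = h.left := by
    have h4 : CommRingCat.ofHom (algebraMap Γ(U.left, ⊤) K) ≫ CommRingCat.ofHom ψ = h.left.appTop := by
      ext x
      exact congrArg (fun f => f x) hψ
    calc d0 ≫ c0 = T.left.isoSpec.hom ≫ (Spec.map (CommRingCat.ofHom ψ) ≫
          Spec.map (CommRingCat.ofHom (algebraMap Γ(U.left, ⊤) K))) ≫ U.left.isoSpec.inv := by
          simp only [d0, c0, Category.assoc]
      _ = T.left.isoSpec.hom ≫ Spec.map h.left.appTop ≫ U.left.isoSpec.inv := by
          rw [← Spec.map_comp, h4]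
      _ = h.left := by
          rw [← Category.assoc, Scheme.isoSpec_hom_naturality h.left, Category.assoc, Iso.hom_inv_id, Category.comp_id]
  have hw : d0 ≫ (c0 ≫ U.hom) = T.hom := by
    rw [← Category.assoc, hd0]
    exact Over.w h
  let d : T ⟶ k := Over.homMk d0 hw
  have hd : d ≫ c = h := by
    apply Over.OverMorphism.ext
    exact hd0
  let q : FieldPt X := K622.Basic.ofHom (K := K) (str := c0 ≫ U.hom) ((yon S).map c ≫ a)
  have hq : q.toHom = (yon S).map c ≫ a := K622.Basic.toHom_ofHom _
  have hpt : c0 (IsLocalRing.closedPoint K) = u := by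
    have h5 : Spec.map (CommRingCat.ofHom (algebraMap Γ(U.left, ⊤) K)) (IsLocalRing.closedPoint K) =
        U.left.isoSpec.hom u := by
      apply PrimeSpectrum.ext
      change (IsLocalRing.maximalIdeal K).comap (algebraMap Γ(U.left, ⊤) K) = P
      rw [IsLocalRing.maximalIdeal_eq_bot]
      exact Ideal.ker_algebraMap_residueField P
    change U.left.isoSpec.inv (Spec.map (CommRingCat.ofHom (algebraMap Γ(U.left, ⊤) K)) (IsLocalRing.closedPoint K)) = u
    rw [h5]
    have h6 := congrArg (fun f => f u) U.left.isoSpec.hom_inv_id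
    exact h6
  have hmk : Points.mk q = Points.mk p := by
    have h7 := K622.Basic.mk_ofHom_yon a (K := K) (str := c0 ≫ U.hom) c
    rw [← hp, ← hpt]
    exact h7
  obtain ⟨r, hr'⟩ := K618.FieldFib.factors_of_mono p q hm hr hmk
  let r' : k ⟶ p.pt := r
  have hr'' : (yon S).map r' ≫ p.toHom = (yon S).map c ≫ a := hr'.trans hq
  refine ⟨d ≫ r', ?_⟩
  rw [Functor.map_comp, Category.assoc, hr'', ← Category.assoc, ← Functor.map_comp, hd]

/-- Maps from a scheme to a sheaf glue along fppf families. -/
theorem exists_glue {Z : Sp S} {T : Over S} {ι : Type u} {V : ι → Over S}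
    {g : ∀ i, V i ⟶ T} (hg : K594.Cover.Fam g) (c : ∀ i, (yon S).obj (V i) ⟶ Z)
    (hc : ∀ (i j : ι) (W : Over S) (a : W ⟶ V i) (b : W ⟶ V j), a ≫ g i = b ≫ g j →
      (yon S).map a ≫ c i = (yon S).map b ≫ c j) :
    ∃ c' : (yon S).obj T ⟶ Z, ∀ i, (yon S).map (g i) ≫ c' = c i := by
  obtain ⟨t, ht, -⟩ := hg.glue Z (fun i => (J S).uliftYonedaEquiv (c i)) (by
    intro i j W a b hab
    rw [(J S).uliftYonedaEquiv_naturality, (J S).uliftYonedaEquiv_naturality]
    exact congrArg _ (hc i j W a b hab))
  refine ⟨(J S).uliftYonedaEquiv.symm t, fun i => ?_⟩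
  apply (J S).uliftYonedaEquiv.injective
  refine ((J S).uliftYonedaEquiv_naturality _ _).symm.trans ?_
  rw [Equiv.apply_symm_apply]
  exact ht i

theorem hom_ext_fam {Z : Sp S} {T : Over S} {ι : Type u} {V : ι → Over S}
    {g : ∀ i, V i ⟶ T} (hg : K594.Cover.Fam g) {f f' : (yon S).obj T ⟶ Z}
    (h : ∀ i, (yon S).map (g i) ≫ f = (yon S).map (g i) ≫ f') : f = f' := by
  apply (J S).uliftYonedaEquiv.injective
  refine hg.ext Z fun i => ?_
  refine ((J S).uliftYonedaEquiv_naturality _ _).trans (Eq.trans ?_ ((J S).uliftYonedaEquiv_naturality _ _).symm)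
  exact congrArg _ (h i)

/-- Factorisation through a monomorphism is local for fppf families. -/
theorem factor_of_fam {Z X : Sp S} (m : Z ⟶ X) [Mono m] {T : Over S} {ι : Type u} {V : ι → Over S}
    {g : ∀ i, V i ⟶ T} (hg : K594.Cover.Fam g) (f : (yon S).obj T ⟶ X)
    (h : ∀ i, ∃ c : (yon S).obj (V i) ⟶ Z, c ≫ m = (yon S).map (g i) ≫ f) :
    ∃ c' : (yon S).obj T ⟶ Z, c' ≫ m = f := by
  choose c hc using h
  obtain ⟨c', hc'⟩ := exists_glue hg c (by
    intro i j W a b hab
    rw [← cancel_mono m, Category.assoc, Category.assoc, hc, hc, ← Category.assoc, ← Category.assoc,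
      ← Functor.map_comp, ← Functor.map_comp, hab])
  refine ⟨c', hom_ext_fam hg fun i => ?_⟩
  rw [← Category.assoc, hc', hc]

/-- Opens covering a scheme form an fppf family. -/
theorem fam_of_opens {T : Over S} {ι : Type u} (W : ι → T.left.Opens) (hW : ∀ t : ↥T.left, ∃ i, t ∈ W i) :
    K594.Cover.Fam (fun i => openChartι T (W i)) where
  flat i := by
    change Flat (W i).ι
    infer_instance
  lfp i := by
    change LocallyOfFinitePresentation (W i).ι
    infer_instance
  surj t := by
    obtain ⟨i, hi⟩ := hW t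
    exact ⟨i, (⟨t, hi⟩ : ↥(W i)), rfl⟩

/-- A map from a reduced scheme through an étale chart with image in the class of a mono field point with finite
fibres factors through this point. -/
theorem factor_of_reduced_chart {X : Sp S} (hX : IsAlgSpace X) {T U : Over S} [IsReduced T.left]
    (h : T ⟶ U) (a : (yon S).obj U ⟶ X) (ha : RepWith @Etale a)
    (p : FieldPt X) (hm : Mono p.toHom) (hfin : FinFibres X (Points.mk p))
    (hp : ∀ t : ↥T.left, Points.ofPt a (h.left t) = Points.mk p) :
    ∃ g : (yon S).obj T ⟶ (yon S).obj p.pt, g ≫ p.toHom = (yon S).map h ≫ a := by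
  -- every point has a neighbourhood mapping to one point
  have key : ∀ t : ↥T.left, ∃ W : T.left.Opens, t ∈ W ∧
      ∃ g : (yon S).obj (openChart T W) ⟶ (yon S).obj p.pt,
        g ≫ p.toHom = (yon S).map (openChartι T W) ≫ (yon S).map h ≫ a := by
    intro t
    let u := h.left t
    obtain ⟨A, huA, -, hA⟩ := exists_affine_openChart u ⊤ trivial
    -- the finite fibre in `A`
    have hF : (Points.ofPt ((yon S).map (openChartι U A) ≫ a) ⁻¹' {Points.mk p}).Finite :=
      hfin _ _ hA (repWith_openChart ha A)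
    let F : Set ↥U.left := {v | v ∈ A ∧ Points.ofPt a v = Points.mk p}
    have hF' : F.Finite := by
      refine (hF.image (openChartι U A).left).subset ?_
      rintro v ⟨hvA, hv⟩
      refine ⟨(⟨v, hvA⟩ : ↥A), ?_, rfl⟩
      exact (ofPt_openChart a A ⟨v, hvA⟩).trans hv
    let C : Set ↥U.left := closure (F \ {u})
    have hC : u ∉ C := by
      intro hu
      have h1 : C = ⋃ v ∈ F \ {u}, closure {v} := by
        have h2 : F \ {u} = ⋃ v ∈ F \ {u}, {v} := (Set.biUnion_of_singleton _).symm
        change closure (F \ {u}) = _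
        conv_lhs => rw [h2]
        exact (hF'.subset Set.sdiff_subset).closure_biUnion _
      rw [h1, Set.mem_iUnion₂] at hu
      obtain ⟨v, hv, hvu⟩ := hu
      have h3 : v ⤳ u := specializes_iff_mem_closure.2 hvu
      have h4 := eq_of_specializes hX ha h3 (hv.1.2.trans (hp t).symm) (by rw [hp t]; exact hfin)
      exact hv.2 h4
    obtain ⟨B, huB, hBA, hB⟩ := exists_affine_openChart u (A ⊓ ⟨Cᶜ, isClosed_closure.isOpen_compl⟩) ⟨huA, hC⟩
    have hB1 : ∀ v ∈ B, Points.ofPt a v = Points.mk p → v = u := by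
      intro v hv hva
      by_contra hne
      exact (hBA hv).2 (subset_closure ⟨⟨(hBA hv).1, hva⟩, hne⟩)
    obtain ⟨W, htW, hWB, hW⟩ := exists_affine_openChart t (h.left ⁻¹ᵁ B) huB
    refine ⟨W, htW, ?_⟩
    let h' : openChart T W ⟶ openChart U B := Over.homMk (h.left.resLE B W hWB) (by
      change h.left.resLE B W hWB ≫ B.ι ≫ U.hom = W.ι ≫ T.hom
      rw [← Category.assoc, Scheme.Hom.resLE_comp_ι, Category.assoc, Over.w h])
    have hh' : h' ≫ openChartι U B = openChartι T W ≫ h := by
      apply Over.OverMorphism.ext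
      exact Scheme.Hom.resLE_comp_ι _ _
    have hred : IsReduced (openChart T W).left := by
      have : IsReduced (W : Scheme.{u}) := isReduced_of_isOpenImmersion W.ι
      exact this
    have hval : ∀ w : ↥(openChart T W).left, h'.left w = (⟨u, huB⟩ : ↥B) := by
      intro w
      apply Subtype.ext
      refine hB1 _ (h'.left w).2 ?_
      have h5 : (h'.left w).1 = h.left (W.ι w) := congrArg (fun f => f.left w) hh'
      rw [h5]
      exact hp _
    obtain ⟨g, hg⟩ := factor_of_affine h' ((yon S).map (openChartι U B) ≫ a) (⟨u, huB⟩ : ↥B) hval p hm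
      (hX.representable_from_yon p.toHom) ((ofPt_openChart a B ⟨u, huB⟩).trans (hp t))
    refine ⟨(yon S).map g, ?_⟩
    rw [hg, ← Category.assoc, ← Category.assoc, ← Functor.map_comp, ← Functor.map_comp, hh']
  choose W hW g hg using key
  exact factor_of_fam p.toHom (fam_of_opens W fun t => ⟨t, hW t⟩) _ fun t => ⟨g t, hg t⟩

/-- A map from a reduced space with image in the class of a mono field point with finite fibres factors through this
point. -/
theorem factor_of_reduced {Y X : Sp S} (hX : IsAlgSpace X) (f : Y ⟶ X) (p : FieldPt X) (hm : Mono p.toHom)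
    (hfin : FinFibres X (Points.mk p)) (hY : EtaleLocally (fun U => IsReduced U) Y)
    (hf : ∀ y : Points Y, Points.map f y = Points.mk p) :
    ∃ g : Y ⟶ (yon S).obj p.pt, g ≫ p.toHom = f := by
  obtain ⟨V, b, hb, hbs, hV⟩ := hY
  obtain ⟨U, a, u, ha, hu⟩ := exists_chart hX (Points.mk p)
  obtain ⟨R, r, q, sq, hq⟩ := exists_pullback_of_repWith ha (b ≫ f)
  have hq' : Surjective q.left := by
    refine ⟨fun v => ?_⟩
    obtain ⟨z, -, hz⟩ := exists_point_of_isPullback sq u v (by
      rw [hu, ← Points.map_ofPt]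
      exact (hf _).symm)
    exact ⟨z, hz⟩
  have hR : IsReduced R.left := K638.RedEt.isReduced_of_etale q.left
  obtain ⟨g, hg⟩ := factor_of_reduced_chart hX r a ha p hm hfin (by
    intro t
    rw [ofPt_eq_of_isPullback sq.toCommSq, ← Points.map_ofPt]
    exact hf _)
  have h1 : K613.Cover.ESurj ((yon S).map q) := K613.Cover.EtC.eSurj ⟨hq, hq'⟩
  have h2 : K613.Cover.ESurj ((yon S).map q ≫ b) := (K613.Cover.ESurj.of_repWith hb hbs).comp h1
  have h3 := h2.fSurj.epi
  refine K610.Factor.exists_factor_of_epi p.toHom f ((yon S).map q ≫ b) g ?_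
  rw [hg, sq.w, Category.assoc]

end K619.FactorPt
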