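import Groth.Agent.AlgSp.K621.Base
import Groth.Agent.AlgSp.K613.Cover
import Groth.Agent.AlgSp.K619.FactorPt
import Groth.Agent.RedSub.H647.FreeQ
import Groth.Agent.Flat2G.EtaleSource

/-!
# Quotients of étale charts by free actions of finite groups

* `exists_quot_chart` : `b : h_A ⟶ X` étale from an affine scheme, `G` a finite group acting on `A` over `X`, free on
  geometric points. Then `b` factors through an étale chart `c : h_V ⟶ X`, `V` affine, `A ⟶ V` finite étale surjective and
  `G`-invariant.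
-/

set_option autoImplicit false
universe u
open CategoryTheory CategoryTheory.Limits AlgebraicGeometry Opposite Topology

namespace K619.QuotChart

open AlgSp K621.Base Groth.Agent.Sga1 Groth.Agent.Sga3B

variable {S : Scheme.{u}}

/-- Opens of a scheme covering it give a family of maps over `S` that detects equality of maps to a sheaf. -/
theorem hom_ext_opens {Z : Sp S} {T : Over S} {f f' : (yon S).obj T ⟶ Z}
    (h : ∀ t : ↥T.left, ∃ W : T.left.Opens, t ∈ W ∧
      (yon S).map (openChartι T W) ≫ f = (yon S).map (openChartι T W) ≫ f') : f = f' := by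
  choose W hW h using h
  exact K619.FactorPt.hom_ext_fam (K619.FactorPt.fam_of_opens W fun t => ⟨t, hW t⟩) h

/-- Maps which differ locally by an element of the group. -/
def LocRel {A : Over S} {G : Type u} [Group G] (ρ : G →* Aut A) {T : Over S} (x y : T ⟶ A) : Prop :=
  ∀ t : ↥T.left, ∃ W : T.left.Opens, t ∈ W ∧ ∃ g, openChartι T W ≫ y = openChartι T W ≫ x ≫ (ρ g).hom

theorem exists_quot_chart {X : Sp S} (hX : IsAlgSpace X) {A : Over S} [IsAffine A.left]
    (b : (yon S).obj A ⟶ X) (hb : RepWith @Etale b) {G : Type u} [Group G] [Finite G] (ρ : G →* Aut A)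
    (hρ : ∀ g, (yon S).map (ρ g).hom ≫ b = b)
    (hfree : ∀ (K : Type u) [Field K] [IsAlgClosed K] (ξ : Spec (CommRingCat.of K) ⟶ A.left) (g : G),
      ξ ≫ (ρ g).hom.left = ξ → g = 1) :
    ∃ (V : Over S) (q : A ⟶ V) (c : (yon S).obj V ⟶ X), IsAffine V.left ∧ Etale q.left ∧ Surjective q.left ∧
      IsFinite q.left ∧ (∀ g, (ρ g).hom ≫ q = q) ∧ (yon S).map q ≫ c = b ∧ RepWith @Etale c ∧
      (∀ (T : Over S) (x y : T ⟶ A), x ≫ q = y ≫ q → LocRel ρ x y) := by
  let ρ₀ : G →* Aut A.left := ((Over.forget S).mapAut A).comp ρ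
  have hρ₀ : ∀ g, (ρ₀ g).hom = (ρ g).hom.left := fun g => rfl
  have hfree₀ : FreeQuotSch.IsFree ρ₀ := fun K _ _ ξ g h => hfree K ξ g h
  obtain ⟨Y, p, hp⟩ := QuotExists.exists_isQuot ρ₀ fun x => ⟨⊤, isAffineOpen_top _, fun _ => trivial⟩
  have het := FreeQuotSch.etale_of_isFree hp hfree₀
  have hfin := FreeQuotSch.finite_of_isFree hp hfree₀
  have hsurj := FreeQuotSch.surjective_of_isQuot hp
  have haffY : IsAffine Y := by
    have h1 := QuotAffine.isAffineHom_of_isQuot hp (q := terminal.from Y) (f := terminal.from A.left)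
      (by ext)
    exact isAffine_of_isAffineHom (terminal.from Y)
  -- the structure morphism
  obtain ⟨s, hs, -⟩ := AdFppf.glueScheme (X := Y) (Y := S) (I := PUnit.{u+1}) (fun _ => A.left) (fun _ => p)
    (fun _ => inferInstance) (fun _ => inferInstance) (fun y => ⟨⟨⟩, p.surjective y⟩) (fun _ => A.hom) (by
      intro _ _ W a b hab
      choose U hU g hg using fun w : W => Groth.Agent.RedSub.H647.FreeQ.exists_local hp hfree₀ a b hab w
      let 𝒰 : Scheme.OpenCover.{u} W := Scheme.openCoverOfIsOpenCover W U (by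
        rw [TopologicalSpace.IsOpenCover, eq_top_iff]
        intro w _
        exact TopologicalSpace.Opens.mem_iSup.2 ⟨w, hU w⟩)
      refine Scheme.Cover.hom_ext 𝒰 _ _ fun w => ?_
      change (U w).ι ≫ a ≫ A.hom = (U w).ι ≫ b ≫ A.hom
      rw [← Category.assoc _ b, hg w, hρ₀, Category.assoc, Category.assoc, Over.w])
  have hsp : p ≫ s = A.hom := hs ⟨⟩
  let V : Over S := Over.mk s
  let q : A ⟶ V := Over.homMk p hsp
  have hq : q.left = p := rfl
  have hinv : ∀ g, (ρ g).hom ≫ q = q := fun g => by
    apply Over.OverMorphism.ext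
    exact hp.inv g
  have hloc : ∀ (T : Over S) (x y : T ⟶ A), x ≫ q = y ≫ q → LocRel ρ x y := by
    intro T x y hxy t
    obtain ⟨W, hW, g, hg⟩ := Groth.Agent.RedSub.H647.FreeQ.exists_local hp hfree₀ x.left y.left
      (congrArg (fun k => k.left) hxy) t
    refine ⟨W, hW, g, ?_⟩
    apply Over.OverMorphism.ext
    exact hg
  have hqe : Etale q.left := het
  have hqs : Surjective q.left := hsurj
  have hC : K613.Cover.EtC q := ⟨hqe, hqs⟩
  -- the map to `X`
  obtain ⟨c, hc, -⟩ := hC.fpC.glue b (by
    intro T x y hxy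
    apply hom_ext_opens
    intro t
    obtain ⟨W, hW, g, hg⟩ := hloc T x y hxy t
    refine ⟨W, hW, ?_⟩
    obtain ⟨r, hr⟩ : ∃ r : A ⟶ A, (ρ g).hom = r := ⟨_, rfl⟩
    have hr1 : (yon S).map r ≫ b = b := by rw [← hr]; exact hρ g
    rw [hr] at hg
    have h1 : (yon S).map (x ≫ r) ≫ b = (yon S).map x ≫ b := by
      rw [Functor.map_comp, Category.assoc, hr1]
    calc (yon S).map (openChartι T W) ≫ (yon S).map x ≫ b
        = (yon S).map (openChartι T W) ≫ (yon S).map (x ≫ r) ≫ b := by rw [h1]
      _ = (yon S).map (openChartι T W ≫ x ≫ r) ≫ b := by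
          rw [Functor.map_comp (yon S) (openChartι T W), Category.assoc]
      _ = (yon S).map (openChartι T W ≫ y) ≫ b := by rw [hg]
      _ = (yon S).map (openChartι T W) ≫ (yon S).map y ≫ b := by rw [Functor.map_comp, Category.assoc])
  refine ⟨V, q, c, haffY, hqe, hqs, hfin, hinv, hc, ⟨hX.representable_from_yon c, ?_⟩, hloc⟩
  intro T E g fst snd sq
  obtain ⟨fst, rfl⟩ := (yon S).map_surjective fst
  -- `E' = E ×_V A`
  have h1 : IsPullback (pullback.fst fst q) (pullback.snd fst q) fst q := IsPullback.of_hasPullback fst q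
  have h2 : IsPullback ((yon S).map (pullback.snd fst q)) ((yon S).map (pullback.fst fst q ≫ snd)) b g := by
    have := (h1.map (yon S)).flip.paste_vert sq
    rw [hc, ← Functor.map_comp] at this
    exact this
  have h3 : Etale (pullback.fst fst q ≫ snd).left := hb.2 _ _ _ h2
  have h4 : Etale (pullback.fst fst q).left := MorphismProperty.of_isPullback (h1.map (Over.forget S)).flip hqe
  have h5 : Surjective (pullback.fst fst q).left :=
    MorphismProperty.of_isPullback (P := @Surjective) (h1.map (Over.forget S)).flip hqs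
  have h6 : Etale ((pullback.fst fst q).left ≫ snd.left) := h3
  exact Groth.Agent.Flat2G.EtaleSource.etale_of_comp (pullback.fst fst q).left snd.left

end K619.QuotChart
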