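import Groth.Agent.AlgSp.K619.WideProd
import Groth.Agent.AlgSp.K619.QuotChart
import Groth.Agent.AlgSp.K619.FreeOpen
import Groth.Agent.AlgSp.K619.GalCl

/-!
# Elementary étale neighbourhoods (S10374)
-/

set_option autoImplicit false
universe u
open CategoryTheory CategoryTheory.Limits AlgebraicGeometry Opposite Topology

namespace K619.ElemNbhd

open AlgSp K621.Base K621.Decent K619.WideProd

variable {S : Scheme.{u}}

/-- `Spec κ(u)` over `S`. -/
noncomputable abbrev kpt (U : Over S) (u : ↥U.left) : Over S := Over.mk (U.left.fromSpecResidueField u ≫ U.hom)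

/-- `Spec κ(u) ⟶ U` over `S`. -/
noncomputable abbrev kι (U : Over S) (u : ↥U.left) : kpt U u ⟶ U := Over.homMk (U.left.fromSpecResidueField u) rfl

theorem mono_kι_left (U : Over S) (u : ↥U.left) : Mono (kι U u).left :=
  inferInstanceAs (Mono (U.left.fromSpecResidueField u))

theorem mono_kι (U : Over S) (u : ↥U.left) : Mono (kι U u) := by
  have := mono_kι_left U u
  exact Over.mono_of_mono_left _

/-- The residue field of an étale chart is étale over the residue field of the space. -/
theorem etale_residue {X : Sp S} (p : FieldPt X) {U : Over S} {a : (yon S).obj U ⟶ X}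
    (ha : RepWith @Etale a) (u : ↥U.left) (c : kpt U u ⟶ p.pt)
    (hc : (yon S).map c ≫ p.toHom = (yon S).map (kι U u) ≫ a) : Etale c.left := by
  obtain ⟨E, e, i, sq, he, -⟩ := K619.QCPoint.exists_fibre p a ha
  obtain ⟨l, hl⟩ := (yon S).map_surjective (sq.lift ((yon S).map c) ((yon S).map (kι U u)) hc)
  have h1 : l ≫ e = c := (yon S).map_injective (by rw [Functor.map_comp, hl, sq.lift_fst])
  have h2 : l ≫ i = kι U u := (yon S).map_injective (by rw [Functor.map_comp, hl, sq.lift_snd])
  have h3 : Mono (l.left ≫ i.left) := by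
    have h4 : l.left ≫ i.left = (kι U u).left := congrArg (fun f => f.left) h2
    rw [h4]
    exact mono_kι_left U u
  have h5 : Mono l.left := mono_of_mono l.left i.left
  let e' : E.left ⟶ Spec (CommRingCat.of p.K) := e.left
  have he' : Etale e' := he
  have hdisc : DiscreteTopology ↥E.left := K618.Sch.discreteTopology_of_etale_field e'
  have hred : IsReduced E.left := K619.EtField.isReduced_of_etale e'
  have h6 : IsOpenImmersion l.left := K619.MonoDisc.isOpenImmersion_of_mono_of_discrete _
  rw [← h1]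
  exact MorphismProperty.comp_mem @Etale l.left e.left inferInstance he

section gal

/-- `Spec L` over `S`, for an extension `L` of `k` and a point `Spec k ⟶ S`. -/
noncomputable abbrev spL {k : Type u} [Field k] (str : Spec (CommRingCat.of k) ⟶ S) (L : Type u) [Field L] [Algebra k L] :
    Over S := Over.mk (Spec.map (CommRingCat.ofHom (algebraMap k L)) ≫ str)

/-- `Spec L ⟶ Spec k` over `S`. -/
noncomputable abbrev jk {k : Type u} [Field k] (str : Spec (CommRingCat.of k) ⟶ S) (L : Type u) [Field L] [Algebra k L] :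
    spL str L ⟶ Over.mk str := Over.homMk (Spec.map (CommRingCat.ofHom (algebraMap k L))) rfl

/-- The action of the automorphisms of `L` on `Spec L`. -/
noncomputable def jσ {k : Type u} [Field k] (str : Spec (CommRingCat.of k) ⟶ S) {L : Type u} [Field L] [Algebra k L]
    (σ : L ≃ₐ[k] L) : spL str L ⟶ spL str L :=
  Over.homMk (Spec.map (CommRingCat.ofHom (σ : L →+* L))) (by
    change Spec.map (CommRingCat.ofHom (σ : L →+* L)) ≫ Spec.map (CommRingCat.ofHom (algebraMap k L)) ≫ str = _
    rw [← Category.assoc, ← Spec.map_comp, ← CommRingCat.ofHom_comp]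
    have h : (σ : L →+* L).comp (algebraMap k L) = algebraMap k L := by
      ext x
      exact σ.commutes x
    rw [h]
    rfl)

end gal

theorem exists_gal_wp {X : Sp S} (hX : IsAlgSpace X) (p : FieldPt X) (hm : Mono p.toHom) {U : Over S}
    [IsAffine U.left] {a : (yon S).obj U ⟶ X} (ha : RepWith @Etale a) (u : ↥U.left)
    (hu : Points.ofPt a u = Points.mk p) :
    ∃ (L : Type u) (_ : Field L) (_ : Algebra p.K L) (W : Over S) (B : (yon S).obj W ⟶ X)
      (ρ : (L ≃ₐ[p.K] L) →* Aut W) (t : spL p.str L ⟶ W),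
      IsGalois p.K L ∧ FiniteDimensional p.K L ∧ W.left.IsSeparated ∧ RepWith @Etale B ∧
      (∀ g, (yon S).map (ρ g).hom ≫ B = B) ∧ (∀ σ, jσ p.str σ ≫ t = t ≫ (ρ σ⁻¹).hom) ∧
      (∀ σ, jσ p.str σ ≫ t = t → σ = 1) ∧ (yon S).map t ≫ B = (yon S).map (jk p.str L) ≫ p.toHom := by
  -- the map `Spec κ(u) ⟶ Spec k`
  obtain ⟨c, hc⟩ := K618.FieldFib.factors_of_mono p (FieldPt.ofPt a u) hm (hX.representable_from_yon p.toHom) hu
  let c : kpt U u ⟶ p.pt := c
  have hc : (yon S).map c ≫ p.toHom = (yon S).map (kι U u) ≫ a := hc.trans (FieldPt.toHom_ofPt a u)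
  have hce : Etale c.left := etale_residue p ha u c hc
  let k : Type u := p.K
  let K : Type u := ↥(U.left.residueField u)
  obtain ⟨φ0, hφ0⟩ := Spec.map_surjective (show Spec (CommRingCat.of K) ⟶ Spec (CommRingCat.of k) from c.left)
  let _ : Algebra k K := φ0.hom.toAlgebra
  have hK : Algebra.Etale k K := by
    have h1 : Etale (Spec.map φ0) := by rw [hφ0]; exact hce
    exact (HasRingHomProperty.Spec_iff (P := @Etale)).1 h1
  obtain ⟨L, _, _, hgal, hfin, hne, hfinI, hgen⟩ := K619.GalCl.exists_galois_closure k K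
  let I : Type u := K →ₐ[k] L
  let _ : MulAction (L ≃ₐ[k] L) I :=
    { smul := fun σ φ => (σ : L →ₐ[k] L).comp φ
      one_smul := fun φ => by
        apply AlgHom.ext
        intro x
        rfl
      mul_smul := fun σ τ φ => by
        apply AlgHom.ext
        intro x
        rfl }
  obtain ⟨W, π, hW, hπ, hsep⟩ := exists_isWP ha I
  obtain ⟨i0⟩ := hne
  let B : (yon S).obj W ⟶ X := (yon S).map (π i0) ≫ a
  -- the maps `Spec L ⟶ Spec K`
  have hjw : ∀ φ : I, Spec.map (CommRingCat.ofHom (φ : K →+* L)) ≫ c.left =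
      Spec.map (CommRingCat.ofHom (algebraMap k L)) := by
    intro φ
    have h1 : c.left = Spec.map φ0 := hφ0.symm
    rw [h1, ← Spec.map_comp]
    congr 1
    ext x
    exact φ.commutes x
  let j : I → (spL p.str L ⟶ kpt U u) := fun φ => Over.homMk (Spec.map (CommRingCat.ofHom (φ : K →+* L))) (by
    have h2 : (kpt U u).hom = c.left ≫ p.str := (Over.w c).symm
    change _ ≫ (kpt U u).hom = _
    rw [h2, ← Category.assoc]
    exact congrArg (· ≫ p.str) (hjw φ))
  have hj : ∀ φ, j φ ≫ c = jk p.str L := by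
    intro φ
    apply Over.OverMorphism.ext
    exact hjw φ
  have hja : ∀ φ, (yon S).map (j φ ≫ kι U u) ≫ a = (yon S).map (jk p.str L) ≫ p.toHom := by
    intro φ
    rw [Functor.map_comp, Category.assoc, ← hc, ← Category.assoc, ← Functor.map_comp, hj]
  have hjσ : ∀ (σ : L ≃ₐ[k] L) (φ : I), jσ p.str σ ≫ j φ = j (σ • φ) := by
    intro σ φ
    apply Over.OverMorphism.ext
    change Spec.map (CommRingCat.ofHom (σ : L →+* L)) ≫ Spec.map (CommRingCat.ofHom (φ : K →+* L)) = _
    rw [← Spec.map_comp]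
    rfl
  obtain ⟨t, ht⟩ := hW.lift (fun φ => j φ ≫ kι U u) (fun φ ψ => (hja φ).trans (hja ψ).symm)
  refine ⟨L, inferInstance, inferInstance, W, B, hW.act, t, hgal, hfin, hsep, ?_, ?_, ?_, ?_, ?_⟩
  · exact repWith_etale_comp (repWith_etale_map (hπ i0)) ha
  · intro g
    have h1 : (yon S).map ((hW.act g).hom ≫ π i0) ≫ a = (yon S).map (π i0) ≫ a := by
      rw [hW.act_π g i0]
      exact hW.w _ _
    rw [Functor.map_comp, Category.assoc] at h1
    exact h1
  · intro σ
    apply hW.ext
    intro φ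
    have h1 : (t ≫ (hW.act σ⁻¹).hom) ≫ π φ = t ≫ π (σ • φ) := by
      rw [Category.assoc]
      have h2 := hW.act_π σ⁻¹ φ
      rw [inv_inv] at h2
      exact congrArg (fun f => t ≫ f) h2
    rw [h1, Category.assoc, ht, ht, ← Category.assoc, hjσ]
  · intro σ hσ
    apply hgen
    intro φ
    have := mono_kι U u
    have h1 : j (σ • φ) = j φ := by
      rw [← cancel_mono (kι U u), ← ht φ, ← hjσ, Category.assoc, ← ht φ, ← Category.assoc, hσ]
    have h2 : Spec.map (CommRingCat.ofHom ((σ • φ : I) : K →+* L)) = Spec.map (CommRingCat.ofHom (φ : K →+* L)) :=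
      congrArg (fun f => f.left) h1
    have h3 := Spec.map_injective h2
    have h4 := congrArg (fun f => f.hom) h3
    apply AlgHom.ext
    intro x
    exact congrArg (fun f : K →+* L => f x) h4
  · change (yon S).map t ≫ (yon S).map (π i0) ≫ a = _
    rw [← Category.assoc, ← Functor.map_comp, ht, hja]

/-- A neighbourhood of `u` containing no other point of its fibre. -/
theorem exists_nbhd_single {X : Sp S} (hX : IsAlgSpace X) {U : Over S} (a : (yon S).obj U ⟶ X)
    (ha : RepWith @Etale a) (u : ↥U.left) (hfin : FinFibres X (Points.ofPt a u)) :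
    ∃ O : U.left.Opens, u ∈ O ∧ ∀ v ∈ O, Points.ofPt a v = Points.ofPt a u → v = u := by
  obtain ⟨A, huA, -, hA⟩ := exists_affine_openChart u ⊤ trivial
  have hF : (Points.ofPt ((yon S).map (openChartι U A) ≫ a) ⁻¹' {Points.ofPt a u}).Finite :=
    hfin _ _ hA (repWith_openChart ha A)
  let F : Set ↥U.left := {v | v ∈ A ∧ Points.ofPt a v = Points.ofPt a u}
  have hF' : F.Finite := by
    refine (hF.image (openChartι U A).left).subset ?_
    rintro v ⟨hvA, hv⟩
    refine ⟨(⟨v, hvA⟩ : ↥A), ?_, rfl⟩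
    exact (ofPt_openChart a A ⟨v, hvA⟩).trans hv
  let C : Set ↥U.left := closure (F \ {u})
  have hC : u ∉ C := by
    intro hu
    have h1 : C = ⋃ v ∈ F \ {u}, closure {v} := by
      have h2 : F \ {u} = ⋃ v ∈ F \ {u}, {v} := (Set.biUnion_of_singleton _).symm
      change closure (F \ {u}) = _
      conv_lhs => rw [h2]
      exact (hF'.subset Set.sdiff_subset).closure_biUnion _
    rw [h1, Set.mem_iUnion₂] at hu
    obtain ⟨v, hv, hvu⟩ := hu
    have h3 : v ⤳ u := specializes_iff_mem_closure.2 hvu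
    have h4 := eq_of_specializes hX ha h3 hv.1.2 hfin
    exact hv.2 h4
  refine ⟨A ⊓ ⟨Cᶜ, isClosed_closure.isOpen_compl⟩, ⟨huA, hC⟩, ?_⟩
  intro v hv hva
  by_contra hne
  exact hv.2 (subset_closure ⟨⟨hv.1, hva⟩, hne⟩)

theorem exists_descResidue {L : Type u} [Field L] {V : Scheme.{u}} (f : Spec (CommRingCat.of L) ⟶ V) :
    ∃ m : Spec (CommRingCat.of L) ⟶ Spec (V.residueField (f (IsLocalRing.closedPoint L))),
      m ≫ V.fromSpecResidueField _ = f :=
  ⟨_, Scheme.descResidueField_stalkClosedPointTo_fromSpecResidueField L V f⟩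

theorem exists_elem {X : Sp S} (hX : IsAlgSpace X) (p : FieldPt X) (hm : Mono p.toHom)
    (hfin : FinFibres X (Points.mk p)) :
    ∃ (V : Over S) (c : (yon S).obj V ⟶ X) (v : ↥V.left), IsAffine V.left ∧ IsElemEtaleNbhd c v (Points.mk p) ∧
      Points.ofPt c ⁻¹' {Points.mk p} = {v} := by
  obtain ⟨U₀, a₀, u₀, ha₀, hu₀⟩ := exists_chart hX (Points.mk p)
  obtain ⟨D, huD, -, hD⟩ := exists_affine_openChart u₀ ⊤ trivial
  obtain ⟨U, a, u, ha, hu, hUa⟩ : ∃ (U : Over S) (a : (yon S).obj U ⟶ X) (u : ↥U.left), RepWith @Etale a ∧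
      Points.ofPt a u = Points.mk p ∧ IsAffine U.left :=
    ⟨openChart U₀ D, _, (⟨u₀, huD⟩ : ↥D), repWith_openChart ha₀ D, by
      rw [← hu₀]; exact ofPt_openChart a₀ D ⟨u₀, huD⟩, hD⟩
  obtain ⟨L, _, _, W, B, ρ, t, hgal, hfd, hsep, hB, hρB, htρ, hfree, htB⟩ := exists_gal_wp hX p hm ha u hu
  let G : Type u := L ≃ₐ[p.K] L
  let pL : ↥(spL p.str L).left := (IsLocalRing.closedPoint L : ↥(Spec (CommRingCat.of L)))
  have hpL : ∀ x : ↥(spL p.str L).left, x = pL := fun x => Subsingleton.elim (α := PrimeSpectrum L) _ _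
  let w : ↥W.left := t.left pL
  have hw : Points.ofPt B w = Points.mk p := by
    have h1 : Points.ofPt ((yon S).map t ≫ B) pL = Points.ofPt ((yon S).map (jk p.str L) ≫ p.toHom) pL := by
      rw [htB]
    rw [ofPt_comp, ofPt_comp] at h1
    exact h1.trans (Points.ofPt_toHom p _)
  let ρ₀ : G →* Aut W.left := ((Over.forget S).mapAut W).comp ρ
  have hρ₀ : ∀ g, (ρ₀ g).hom = (ρ g).hom.left := fun g => rfl
  have htρ' : ∀ g, jσ p.str g⁻¹ ≫ t = t ≫ (ρ g).hom := by
    intro g
    have := htρ g⁻¹
    rwa [inv_inv] at this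
  have hfix : ∀ g, (ρ₀ g).hom w = w := by
    intro g
    have h1 := congrArg (fun f => f.left pL) (htρ' g)
    have h2 : (jσ p.str g⁻¹).left pL = pL := hpL _
    have h3 : t.left ((jσ p.str g⁻¹).left pL) = (ρ g).hom.left (t.left pL) := h1
    rw [h2] at h3
    exact h3.symm
  have hfree' : ∀ g, g ≠ 1 → t.left ≫ (ρ₀ g).hom ≠ t.left := by
    intro g hg he
    have h1 : t ≫ (ρ g).hom = t := by
      apply Over.OverMorphism.ext
      exact he
    have h2 := hfree g⁻¹ ((htρ' g).trans h1)
    exact hg (inv_eq_one.1 h2)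
  obtain ⟨O, hwO, hO⟩ := exists_nbhd_single hX B hB w (by rw [hw]; exact hfin)
  obtain ⟨A, hA, hwA, hAO, hAst, hAfree⟩ := K619.FreeOpen.exists_free_open (W := W.left) ρ₀ (L := L) t.left hfix hfree'
    O hwO
  obtain ⟨ρA, hρA⟩ := K619.FreeOpen.exists_restrict ρ A hAst
  have hAaff : IsAffine (openChart W A).left := hA
  let b : (yon S).obj (openChart W A) ⟶ X := (yon S).map (openChartι W A) ≫ B
  have hb : RepWith @Etale b := repWith_openChart hB A
  obtain ⟨V, q, c, hVaff, hqe, hqs, hqf, hqinv, hqc, hc, -⟩ :=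
    K619.QuotChart.exists_quot_chart hX b hb ρA (by
      intro g
      have h1 : (yon S).map ((ρA g).hom ≫ openChartι W A) ≫ B =
          (yon S).map (openChartι W A ≫ (ρ g).hom) ≫ B := by rw [hρA]
      rw [Functor.map_comp, Functor.map_comp, Category.assoc, Category.assoc, hρB] at h1
      exact h1) (by
      intro K _ _ ξ g hg
      refine hAfree K (ξ ≫ A.ι) g ?_ ?_
      · rw [Scheme.Hom.comp_apply]
        exact (ξ (IsLocalRing.closedPoint K)).2
      · have h1 : (ρA g).hom.left ≫ A.ι = A.ι ≫ (ρ g).hom.left := congrArg (fun f => f.left) (hρA g)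
        exact (Category.assoc ξ A.ι (ρ g).hom.left).trans ((congrArg (fun f => ξ ≫ f) h1.symm).trans
          ((Category.assoc ξ (ρA g).hom.left A.ι).symm.trans (congrArg (fun f => f ≫ A.ι) hg))))
  -- the lift of `t`
  have htr : Set.range t.left ⊆ Set.range A.ι := by
    rintro _ ⟨x, rfl⟩
    rw [hpL x]
    exact ⟨⟨w, hwA⟩, rfl⟩
  let lt : (spL p.str L).left ⟶ (A : Scheme.{u}) := IsOpenImmersion.lift A.ι t.left htr
  have hlt : lt ≫ A.ι = t.left := IsOpenImmersion.lift_fac _ _ _
  let tA : spL p.str L ⟶ openChart W A := Over.homMk lt (by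
    change lt ≫ A.ι ≫ W.hom = _
    rw [← Category.assoc, hlt]
    exact Over.w t)
  have htA : tA ≫ openChartι W A = t := by
    apply Over.OverMorphism.ext
    exact hlt
  have := K619.FreeOpen.mono_openChartι W A
  have htAσ : ∀ g, jσ p.str g⁻¹ ≫ tA = tA ≫ (ρA g).hom := by
    intro g
    have h1 : (tA ≫ (ρA g).hom) ≫ openChartι W A = t ≫ (ρ g).hom := by
      rw [Category.assoc]
      refine (congrArg (fun f => tA ≫ f) (hρA g)).trans ?_
      rw [← Category.assoc, htA]
    rw [← cancel_mono (openChartι W A), h1, Category.assoc, htA, htρ']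
  let v : ↥V.left := q.left (tA.left pL)
  have hcb : ∀ z : ↥(openChart W A).left, Points.ofPt c (q.left z) = Points.ofPt B ((openChartι W A).left z) := by
    intro z
    rw [← ofPt_comp, hqc, ofPt_comp]
  have hv : Points.ofPt c v = Points.mk p := by
    refine (hcb _).trans ?_
    have h1 : (openChartι W A).left (tA.left pL) = w := congrArg (fun f => f.left pL) htA
    rw [h1, hw]
  refine ⟨V, c, v, hVaff, ⟨hc, hv, ?_⟩, ?_⟩
  · -- the residue field
    obtain ⟨d, hd⟩ := K618.FieldFib.factors_of_mono p (FieldPt.ofPt c v) hm (hX.representable_from_yon p.toHom) hv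
    let d : kpt V v ⟶ p.pt := d
    have hd : (yon S).map d ≫ p.toHom = (yon S).map (kι V v) ≫ c := hd.trans (FieldPt.toHom_ofPt c v)
    obtain ⟨m0, hm0⟩ := exists_descResidue (L := L) (tA ≫ q).left
    have hmw : m0 ≫ (kpt V v).hom = (spL p.str L).hom := by
      change m0 ≫ (V.left.fromSpecResidueField v ≫ V.hom) = _
      rw [← Category.assoc]
      exact (congrArg (fun f => f ≫ V.hom) hm0).trans (Over.w (tA ≫ q))
    let m : spL p.str L ⟶ kpt V v := Over.homMk m0 hmw
    have hmq : m ≫ kι V v = tA ≫ q := by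
      apply Over.OverMorphism.ext
      exact hm0
    have := mono_kι V v
    have hmσ : ∀ g, jσ p.str g ≫ m = m := by
      intro g
      have h1 := htAσ g⁻¹
      rw [inv_inv] at h1
      rw [← cancel_mono (kι V v), Category.assoc, hmq, ← Category.assoc, h1, Category.assoc]
      exact congrArg (fun f => tA ≫ f) (hqinv _)
    have hmd : m ≫ d = jk p.str L := by
      apply (yon S).map_injective
      rw [← cancel_mono p.toHom, Functor.map_comp, Category.assoc, hd, ← Category.assoc, ← Functor.map_comp, hmq,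
        Functor.map_comp, Category.assoc, hqc]
      change (yon S).map tA ≫ (yon S).map (openChartι W A) ≫ B = _
      rw [← Category.assoc, ← Functor.map_comp, htA, htB]
    obtain ⟨δ, hδ⟩ := Spec.map_surjective
      (show Spec (CommRingCat.of ↥(V.left.residueField v)) ⟶ Spec (CommRingCat.of p.K) from d.left)
    obtain ⟨μ, hμ⟩ := Spec.map_surjective
      (show Spec (CommRingCat.of L) ⟶ Spec (CommRingCat.of ↥(V.left.residueField v)) from m0)
    have h1 : δ ≫ μ = CommRingCat.ofHom (algebraMap p.K L) := by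
      apply Spec.map_injective
      rw [Spec.map_comp, hδ, hμ]
      exact congrArg (fun f => f.left) hmd
    have h2 : ∀ g : L ≃ₐ[p.K] L, μ ≫ CommRingCat.ofHom (g : L →+* L) = μ := by
      intro g
      apply Spec.map_injective
      rw [Spec.map_comp, hμ]
      exact congrArg (fun f => f.left) (hmσ g)
    have h3 : Function.Surjective δ.hom := by
      intro y
      have h4 : ∀ g : L ≃ₐ[p.K] L, g (μ.hom y) = μ.hom y := by
        intro g
        exact congrArg (fun f => f.hom y) (h2 g)
      obtain ⟨z, hz⟩ := (IsGalois.mem_range_algebraMap_iff_fixed (μ.hom y)).2 h4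
      refine ⟨z, ?_⟩
      apply μ.hom.injective
      rw [← hz]
      exact congrArg (fun f => f.hom z) h1
    have h5 : IsIso δ := (ConcreteCategory.isIso_iff_bijective δ).2 ⟨δ.hom.injective, h3⟩
    have h6 : IsIso d.left := by
      have h7 : IsIso (Spec.map δ) := inferInstance
      rw [hδ] at h7
      exact h7
    have h8 : IsIso d := K610.Factor.isIso_of_left d h6
    rw [FieldPt.toHom_ofPt]
    have h9 : Mono ((yon S).map (kι V v) ≫ c) := by
      rw [← hd]
      exact mono_comp _ _
    exact h9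
  · ext y
    constructor
    · intro hy
      obtain ⟨z, rfl⟩ := hqs.surj y
      have h1 : Points.ofPt B ((openChartι W A).left z) = Points.mk p := (hcb z).symm.trans hy
      have h2 : (openChartι W A).left z = w := hO _ (hAO z.2) (by rw [h1, hw])
      have h3 : z = tA.left pL := by
        apply Subtype.ext
        have h4 : (openChartι W A).left (tA.left pL) = w := congrArg (fun f => f.left pL) htA
        exact h2.trans h4.symm
      rw [h3]
      rfl
    · rintro rfl
      exact hv

end K619.ElemNbhd
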