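import Groth.Agent.AlgSp.K615.RelNorm
import Groth.Agent.AlgSp.K596.QC
import Groth.Agent.AlgSp.K610.OpenImm
import Groth.Agent.AlgSp.K595.DiagBasic

/-!
# Extending integral morphisms over open subspaces

* `exists_ext` : an integral morphism `Z ⟶ V` to an open subspace `V ⟶ Y` whose inclusion is quasi-compact is the
  restriction of an integral morphism `Z' ⟶ Y`.
-/

set_option autoImplicit false
universe u
open CategoryTheory CategoryTheory.Limits AlgebraicGeometry Opposite AlgSp

namespace K619.ExtInt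

variable {S : Scheme.{u}}

/-- An integral morphism is its own normalization. -/
theorem isRelNormalization_self {Z V : Sp S} {h : Z ⟶ V} (hh : IsIntegralMor h) : IsRelNormalization h h (𝟙 Z) :=
  ⟨Category.id_comp _, hh, fun Z₁ _ π g _ hg => ⟨g, ⟨Category.id_comp _, hg⟩, fun g' hg' => by
    rw [← hg'.1, Category.id_comp]⟩⟩

theorem repWith_of_integral {P : MorphismProperty Scheme.{u}} (hP : @IsIntegralHom ≤ P) {Z V : Sp S} {h : Z ⟶ V}
    (hh : IsIntegralMor h) : RepWith P h :=
  K610.Base.repWith_mono hP (K617.FinLoc.isIntegralMor_iff.1 hh)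

theorem exists_ext {Y V : Sp S} (hY : IsAlgSpace Y) (hV : IsAlgSpace V) {i : V ⟶ Y}
    (hi : RepWith @IsOpenImmersion i) (hiq : IsQuasiCompactMor i) {Z : Sp S} {h : Z ⟶ V} (hh : IsIntegralMor h) :
    ∃ (Z' : Sp S) (ν : Z' ⟶ Y) (k : Z ⟶ Z'), IsAlgSpace Z' ∧ IsIntegralMor ν ∧ IsPullback k h ν i := by
  have hm : Mono i := K610.Factor.mono_of_isOpenImmersion hi
  have hqc : IsQuasiCompactMor (h ≫ i) := K596.QC.isQuasiCompactMor_comp hV hY
    (K596.QC.isQuasiCompactMor_of_repWith (repWith_of_integral (fun _ _ f (_ : IsIntegralHom f) =>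
      (inferInstance : QuasiCompact f)) hh)) hiq
  have hqs : IsQuasiSeparatedMor (h ≫ i) := by
    have h1 : RepWith @QuasiSeparated (h ≫ i) := by
      refine MorphismProperty.comp_mem (RepWith @QuasiSeparated) _ _ (repWith_of_integral
        (fun _ _ f (_ : IsIntegralHom f) => (inferInstance : QuasiSeparated f)) hh) ?_
      exact K610.Base.repWith_mono (fun _ _ f (_ : IsOpenImmersion f) => (inferInstance : QuasiSeparated f)) hi
    exact (K595.DiagBasic.isQuasiSeparatedMor_iff_repWith h1.1).2 h1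
  obtain ⟨Z', ν, k, hZ', hun⟩ := K615.RelNorm.exists_uNorm hY hqc hqs
  have hie : IsEtaleMor i := K615.Desc.isEtaleMor_of_repWith (K610.OpenImm.repWith_etale_of_open hi)
  have sq := IsPullback.of_hasPullback ν i
  have hun' := hun.baseChange hie (K610.OpenImm.isPullback_id_of_mono h i) sq
    (g := sq.lift k h hun.w) (sq.lift_snd _ _ _) (by rw [sq.lift_fst, Category.id_comp])
  have hZ : IsAlgSpace Z := K615.Desc.isAlgSpace_of_integral hh hV
  have hN : IsAlgSpace (pullback ν i) :=
    K615.Desc.isAlgSpace_of_integral (K615.Int.of_isPullback sq hun.integral) hV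
  obtain ⟨e, he1, he2⟩ := K615.UN.exists_iso hZ hN (isRelNormalization_self hh) (hun'.isRel hV)
  refine ⟨Z', ν, k, hZ', hun.integral, ?_⟩
  rw [Category.id_comp] at he1
  refine IsPullback.of_iso sq e.symm (Iso.refl _) (Iso.refl _) (Iso.refl _) ?_ ?_ ?_ ?_
  · rw [Iso.refl_hom, Category.comp_id, Iso.symm_hom, Iso.eq_inv_comp, he1, sq.lift_fst]
  · rw [Iso.refl_hom, Category.comp_id, Iso.symm_hom, Iso.eq_inv_comp, he2]
  · simp
  · simp

end K619.ExtInt
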