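import Groth.Agent.AlgSp.K604.Approx3
import Groth.Agent.AlgSp.K598.Red
import Groth.Agent.AlgSp.K610.Factor

/-!
# Closed subspaces of finite presentation with prescribed quasi-compact complement
-/

set_option autoImplicit false
universe u
open CategoryTheory CategoryTheory.Limits AlgebraicGeometry Opposite AlgSp

namespace K619.FPCompl

variable {S : Scheme.{u}}

/-- A point in the image of all the members of a system of closed subspaces is in the image of the limit. -/
theorem mem_range_of_forall {I : Type u} [SmallCategory I] {D : I ⥤ Sp S} {X : Sp S} (t : D ⟶ (Functor.const I).obj X)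
    (ht : ∀ i, RepWith @IsClosedImmersion (t.app i)) {c : Cone D} (hc : IsLimit c) {f : c.pt ⟶ X}
    (hf : ∀ i, c.π.app i ≫ t.app i = f) {x : Points X} (i₀ : I)
    (hx : ∀ i, x ∈ Set.range (Points.map (t.app i))) : x ∈ Set.range (Points.map f) := by
  induction x using Points.ind with
  | h p =>
    have hred : IsReduced p.pt.left := inferInstanceAs (IsReduced (Spec _))
    have h1 : ∀ i, ∃ ξ : (yon S).obj p.pt ⟶ D.obj i, ξ ≫ t.app i = K610.Base.ofSec p.val := by
      intro i
      refine K610.Factor.exists_lift_closed (ht i) _ ?_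
      rintro _ ⟨s, rfl⟩
      have : s = (IsLocalRing.closedPoint p.K : ↥p.pt.left) := Subsingleton.elim (α := PrimeSpectrum p.K) _ _
      rw [this, ← K610.Base.mk_eq_ofPt]
      exact hx i
    choose ξ hξ using h1
    have hm : ∀ i, Mono (t.app i) := fun i => K610.Factor.mono_of_isClosedImmersion (ht i)
    let s : Cone D :=
      { pt := (yon S).obj p.pt
        π := { app := ξ
               naturality := fun i j φ => by
                have := hm j
                rw [← cancel_mono (t.app j), Category.assoc, Category.assoc, hξ, t.naturality]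
                simp [hξ] } }
    have h2 : hc.lift s ≫ f = K610.Base.ofSec p.val := by
      rw [← hf i₀, ← Category.assoc, hc.fac]
      exact hξ i₀
    refine ⟨Points.ofPt (hc.lift s) (IsLocalRing.closedPoint p.K : ↥p.pt.left), ?_⟩
    rw [← K610.Base.ofPt_comp, h2, ← K610.Base.mk_eq_ofPt]

/-- A quasi-compact open set of points of a qcqs algebraic space is the complement of a closed subspace of finite
presentation. -/
theorem exists_fp_compl (H35 : K604.Approx.ClosedApprox S) (X : Space S) (hqc : IsQuasiCompactSp X.obj)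
    (hqs : IsQuasiSeparatedSp X.obj) (O : Set (Points X.obj)) (hO : IsOpen O) (hOc : IsCompact O) :
    ∃ (Z : Space S) (z : Z ⟶ X), RepWith @IsClosedImmersion z.hom ∧ IsFinitePresentationMor z.hom ∧
      Set.range (Points.map z.hom) = Oᶜ := by
  obtain ⟨C, i, hC, hi⟩ := K598.Red.exists_isRedInduced X.property Oᶜ hO.isClosed_compl
  obtain ⟨I, _, _, _, D, t, c, hc, e, hD, hDc, ht, he⟩ := H35 (X := ⟨C, hC⟩) (Y := X) ⟨i⟩ hi.1 hqc hqs
  have he' : ∀ k, c.π.app k ≫ t.app k = e.hom ≫ i := fun k => by
    have := he k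
    rw [← e.hom_inv_id_assoc (c.π.app k ≫ t.app k)]
    exact congrArg (e.hom ≫ ·) this
  have hw : ∀ ⦃j k : Iᵒᵖ⦄ (φ : j ⟶ k), D.map φ ≫ t.app k = t.app j := fun j k φ => by
    rw [t.naturality]; exact Category.comp_id _
  -- the images contain the complement
  have hsub : ∀ k, Oᶜ ⊆ Set.range (Points.map (t.app k)) := by
    intro k x hx
    rw [← hi.2.1] at hx
    obtain ⟨y, rfl⟩ := hx
    refine ⟨Points.map (e.inv ≫ c.π.app k) y, ?_⟩
    rw [← Points.map_comp, Category.assoc, he', e.inv_hom_id_assoc]
  have hcl : ∀ k, IsClosed (Set.range (Points.map (t.app k))) := fun k => K598.Red.isClosed_range (ht k).1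
  have hcover : O ⊆ ⋃ k : I, (Set.range (Points.map (t.app (op k))))ᶜ := by
    intro x hx
    by_contra hne
    simp only [Set.mem_iUnion, Set.mem_compl_iff, not_exists, not_not] at hne
    have h1 := mem_range_of_forall t (fun k => (ht k).1) hc he' (op (Classical.arbitrary I)) (fun k => hne k.unop)
    obtain ⟨y, hy⟩ := h1
    have h2 : x ∈ Oᶜ := by
      rw [← hi.2.1]
      exact ⟨Points.map e.hom y, by rw [← Points.map_comp, hy]⟩
    exact h2 hx
  have hdir : Directed (· ⊆ ·) (fun k : I => (Set.range (Points.map (t.app (op k))))ᶜ) := by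
    intro j k
    obtain ⟨l, hjl, hkl⟩ := exists_ge_ge j k
    have key : ∀ {a b : I} (_ : a ≤ b), (Set.range (Points.map (t.app (op a))))ᶜ ⊆
        (Set.range (Points.map (t.app (op b))))ᶜ := by
      intro a b hab
      rw [Set.compl_subset_compl]
      rintro _ ⟨y, rfl⟩
      exact ⟨Points.map (D.map (homOfLE hab).op) y, by rw [← Points.map_comp, hw]⟩
    exact ⟨l, key hjl, key hkl⟩
  obtain ⟨k, hk⟩ := hOc.elim_directed_cover _ (fun k => (hcl _).isOpen_compl) hcover hdir
  refine ⟨⟨D.obj (op k), hD _⟩, ⟨t.app (op k)⟩, (ht _).1, (ht _).2, Set.Subset.antisymm ?_ (hsub _)⟩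
  exact Set.subset_compl_comm.1 hk

end K619.FPCompl
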