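import Groth.Agent.AlgSp.K619.LocPComp
import Groth.Agent.AlgSp.K619.EtField

/-!
Etale charts of an algebraic space which has a flat surjective map from the spectrum of a field.
-/

set_option autoImplicit false
universe u
open CategoryTheory CategoryTheory.Limits AlgebraicGeometry Topology TopologicalSpace Opposite

namespace K619.FieldChart

open K619.Basic K619.LocPComp K619.EtField

variable {S : Scheme.{u}}

/-- surjectivity on points, from a scheme -/
theorem exists_ofPt_eq {X : AlgSp.Sp S} {T : Over S} {p : (AlgSp.yon S).obj T ⟶ X}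
    (hps : AlgSp.IsSurjectiveMor p) (x : AlgSp.Points X) : ∃ t : ↥T.left, AlgSp.Points.ofPt p t = x := by
  obtain ⟨y, rfl⟩ := hps x
  obtain ⟨t, rfl⟩ := (AlgSp.Points.schemeEquiv T).surjective y
  exact ⟨t, AlgSp.Points.ofPt_eq_map_ofScheme p t⟩

theorem isSurjectiveMor_of_ofPt {X : AlgSp.Sp S} {T : Over S} {p : (AlgSp.yon S).obj T ⟶ X}
    (h : ∀ x, ∃ t : ↥T.left, AlgSp.Points.ofPt p t = x) : AlgSp.IsSurjectiveMor p := by
  intro x
  obtain ⟨t, rfl⟩ := h x
  exact ⟨AlgSp.Points.ofScheme T t, (AlgSp.Points.ofPt_eq_map_ofScheme p t).symm⟩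

/-- All local rings of all etale charts are fields. -/
theorem isField_stalk_chart {X : AlgSp.Sp S} {k : Type u} [Field k]
    {str : Spec (CommRingCat.of k) ⟶ S} {p : (AlgSp.yon S).obj (Over.mk str) ⟶ X}
    (hpf : AlgSp.LocP @Flat p) (hps : AlgSp.IsSurjectiveMor p) {U : Over S}
    {a : (AlgSp.yon S).obj U ⟶ X} (ha : AlgSp.RepWith @Etale a) (u : ↥U.left) :
    IsField (U.left.presheaf.stalk u) := by
  obtain ⟨W, fst, snd, h⟩ := exists_isPullback_of_rep ha.1 p
  have h1 : Etale snd.left := prop_snd ha h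
  have h2 : Flat fst.left :=
    hpf _ _ fst ((AlgSp.repWith_yon_map_iff _ _).2 h1) ha h.w.symm
  obtain ⟨t, ht⟩ := exists_ofPt_eq hps (AlgSp.Points.ofPt a u)
  obtain ⟨w, rfl, rfl⟩ := (ofPt_eq_iff h u t).1 ht.symm
  have h3 : IsField (W.left.presheaf.stalk w) :=
    isField_stalk_of_etale (K := k) snd.left w
  exact isField_of_flat h3 (fst.left.stalkMap w).hom (Flat.stalkMap fst.left w)

/-- A morphism to a scheme all of whose local rings are fields is flat. -/
theorem flat_of_isField_stalk {T U : Scheme.{u}} (f : T ⟶ U)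
    (h : ∀ u : U, IsField (U.presheaf.stalk u)) : Flat f := by
  rw [Flat.iff_flat_stalkMap]
  intro t
  let _ := (h (f t)).toField
  algebraize [(f.stalkMap t).hom]
  exact (inferInstance : Module.Flat (U.presheaf.stalk (f t)) (T.presheaf.stalk t))

/-- Every morphism to a space with a flat surjective field point is flat. -/
theorem locP_flat {X : AlgSp.Sp S} {k : Type u} [Field k]
    {str : Spec (CommRingCat.of k) ⟶ S} {p : (AlgSp.yon S).obj (Over.mk str) ⟶ X}
    (hpf : AlgSp.LocP @Flat p) (hps : AlgSp.IsSurjectiveMor p) {Y : AlgSp.Sp S} (q : Y ⟶ X) :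
    AlgSp.LocP @Flat q := fun _ _ _ _ h _ hb _ =>
  flat_of_isField_stalk h.left fun v => isField_stalk_chart hpf hps hb v

theorem subsingleton_points {X : AlgSp.Sp S} {k : Type u} [Field k]
    {str : Spec (CommRingCat.of k) ⟶ S} {p : (AlgSp.yon S).obj (Over.mk str) ⟶ X}
    (hps : AlgSp.IsSurjectiveMor p) : Subsingleton (AlgSp.Points X) := by
  refine ⟨fun x y => ?_⟩
  obtain ⟨t, rfl⟩ := exists_ofPt_eq hps x
  obtain ⟨t', rfl⟩ := exists_ofPt_eq hps y
  exact ofPt_spec p t t'

theorem nonempty_points {X : AlgSp.Sp S} {k : Type u} [Field k]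
    {str : Spec (CommRingCat.of k) ⟶ S} (p : (AlgSp.yon S).obj (Over.mk str) ⟶ X) :
    Nonempty (AlgSp.Points X) :=
  ⟨AlgSp.Points.ofPt p (IsLocalRing.closedPoint k)⟩

theorem isSurjectiveMor_of_subsingleton {X : AlgSp.Sp S} [Subsingleton (AlgSp.Points X)]
    {k : Type u} [Field k] {str : Spec (CommRingCat.of k) ⟶ S}
    (p : (AlgSp.yon S).obj (Over.mk str) ⟶ X) : AlgSp.IsSurjectiveMor p :=
  isSurjectiveMor_of_ofPt fun _ => ⟨IsLocalRing.closedPoint k, Subsingleton.elim _ _⟩

end K619.FieldChart
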