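import Groth.Agent.AlgSp.K619.FinCoverStage
import Groth.Prelude.Def_AlgSpInf

/-!
# The filtration of a qcqs algebraic space by closed subspaces with finite covers by schemes
-/

set_option autoImplicit false
universe u
open CategoryTheory CategoryTheory.Limits AlgebraicGeometry Opposite AlgSp

namespace K619.Filtr

open K617.EtFin K617.Strat K619.FinEt

variable {S : Scheme.{u}}

theorem exists_filtration [QuasiSeparatedSpace ↥S] (H33 : K604.Approx.IntApprox S) (H35 : K604.Approx.ClosedApprox S)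
    (X : AlgSp.Space S) (hXqc : AlgSp.IsQuasiCompactSp X.obj) (hXqs : AlgSp.IsQuasiSeparatedSp X.obj) :
    ∃ (t : ℕ) (Z : Fin (t + 1) → AlgSp.Space S) (z : ∀ k, Z k ⟶ X),
      (∀ k, AlgSp.RepWith @IsClosedImmersion (z k).hom ∧ AlgSp.IsFinitePresentationMor (z k).hom) ∧
      (∀ k l : Fin (t + 1), k ≤ l →
        Set.range (AlgSp.Points.map (z l).hom) ⊆ Set.range (AlgSp.Points.map (z k).hom)) ∧
      AlgSp.IsThickMor (z 0).hom ∧ IsEmpty (AlgSp.Points (Z (Fin.last t)).obj) ∧
      ∀ k : Fin t, ∃ (Y : Over S) (g : (AlgSp.yon S).obj Y ⟶ (Z k.castSucc).obj),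
        AlgSp.IsFiniteMor g ∧ AlgSp.IsSurjectiveMor g ∧ AlgSp.IsFinitePresentationMor g ∧
        ∀ (W : AlgSp.Space S) (j : W ⟶ Z k.castSucc), AlgSp.RepWith @IsOpenImmersion j.hom →
          Set.range (AlgSp.Points.map (j ≫ z k.castSucc).hom) =
            Set.range (AlgSp.Points.map (z k.castSucc).hom) \ Set.range (AlgSp.Points.map (z k.succ).hom) →
          ∀ (P : AlgSp.Sp S) (fst : P ⟶ (AlgSp.yon S).obj Y) (snd : P ⟶ W.obj), IsPullback fst snd g j.hom →
            AlgSp.IsFiniteMor snd ∧ AlgSp.IsEtaleMor snd := by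
  obtain ⟨U, a, hU, ha, has⟩ := K609.QC.exists_affine_chart hXqc
  obtain ⟨d, hd⟩ := K619.GEBound.exists_GEX_eq_empty X.property hXqs ha has
  have hd1 : GEX a (d + 1) = ∅ := Set.subset_empty_iff.1 (hd ▸ GEX_antitone a (Nat.le_succ d))
  have hasep : RepWith @IsSeparated a := K609.Sep.repWith_isSeparated ha.1
  have hex : ∀ k : Fin (d + 1), ∃ (Z : Space S) (z : Z ⟶ X), RepWith @IsClosedImmersion z.hom ∧
      IsFinitePresentationMor z.hom ∧ Set.range (Points.map z.hom) = (GEX a (d + 1 - (k : ℕ)))ᶜ := fun k =>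
    K619.FPCompl.exists_fp_compl H35 X hXqc hXqs _ (isOpen_GEX a ha hasep _)
      (K619.GEXCompact.isCompact_GEX X.property hXqs hU ha has _)
  choose Z z hz hzfp hzr using hex
  refine ⟨d, Z, z, fun k => ⟨hz k, hzfp k⟩, fun k l hkl => ?_, ?_, ?_, fun k => ?_⟩
  · rw [hzr, hzr, Set.compl_subset_compl]
    have : (k : ℕ) ≤ l := hkl
    exact GEX_antitone a (by omega)
  · refine ⟨(hz 0).1, fun T V t fst snd sq => ?_⟩
    have h1 : IsClosedImmersion snd.left := (hz 0).2 _ _ _ sq
    have h2 : Surjective snd.left := K610.Factor.surjective_of_range sq (by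
      have := hzr 0
      rw [show d + 1 - ((0 : Fin (d + 1)) : ℕ) = d + 1 from rfl, hd1, Set.compl_empty] at this
      rw [this]
      exact Set.subset_univ _)
    exact ⟨h1, h2⟩
  · refine ⟨fun x => ?_⟩
    have h1 : Points.map (z (Fin.last d)).hom x ∈ Set.range (Points.map (z (Fin.last d)).hom) := ⟨x, rfl⟩
    rw [hzr, Fin.val_last, show d + 1 - d = 1 by omega, GEX_one a ha.1] at h1
    exact h1 (K610.Base.surjective_ofPt has _)
  · have hk : (k : ℕ) < d := k.2
    let zk := z k.castSucc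
    have hzk : RepWith @IsClosedImmersion zk.hom := hz k.castSucc
    have sq := hzk.rep.isPullback a
    have hc : IsClosedImmersion (hzk.rep.snd a).left := hzk.property_snd a
    have hA : IsAffine (hzk.rep.pullback a).left := isAffine_of_isAffineHom (hzk.rep.snd a).left
    have hak : RepWith @Etale (hzk.rep.fst a) := MorphismProperty.of_isPullback (P := RepWith @Etale) sq.flip ha
    have haks : RepWith @Surjective (hzk.rep.fst a) :=
      MorphismProperty.of_isPullback (P := RepWith @Surjective) sq.flip has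
    have hmem : ∀ (n : ℕ) (y : Points (Z k.castSucc).obj), y ∈ GEX (hzk.rep.fst a) n ↔ Points.map zk.hom y ∈ GEX a n :=
      fun n y => mem_GEX_iff_of_isPullback sq.flip hak.1 y
    have hG : GEX (hzk.rep.fst a) (d - (k : ℕ) - 1 + 1 + 1) = ∅ := by
      refine Set.eq_empty_of_forall_notMem fun y hy => ?_
      rw [hmem] at hy
      have h1 : Points.map zk.hom y ∈ Set.range (Points.map zk.hom) := ⟨y, rfl⟩
      rw [hzr, show d + 1 - ((k.castSucc : Fin (d + 1)) : ℕ) = d - (k : ℕ) - 1 + 1 + 1 by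
        rw [Fin.val_castSucc]; omega] at h1
      exact h1 hy
    obtain ⟨Y, g, hg1, hg2, hg3, hF⟩ := K619.FinCoverStage.exists_stage H33 H35 (Z k.castSucc)
      (K636.QcqsOver.isQuasiSeparatedSp_of_mor (hzfp k.castSucc).2.2 hXqs) hA hak haks _ hG
    refine ⟨Y, g, hg1, hg2, hg3, fun W j hj hr P fst snd sqP => ?_⟩
    have hrange : Set.range (Points.map j.hom) ⊆ GEX (hzk.rep.fst a) (d - (k : ℕ) - 1 + 1) := by
      rintro _ ⟨w, rfl⟩
      rw [hmem]
      have h1 : Points.map (j ≫ z k.castSucc).hom w ∈ Set.range (Points.map (j ≫ z k.castSucc).hom) := ⟨w, rfl⟩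
      rw [hr] at h1
      have h2 := h1.2
      rw [hzr, Set.notMem_compl_iff, show d + 1 - ((k.succ : Fin (d + 1)) : ℕ) = d - (k : ℕ) - 1 + 1 by
        rw [Fin.val_succ]; omega] at h2
      have h3 : Points.map (j ≫ z k.castSucc).hom w = Points.map zk.hom (Points.map j.hom w) :=
        Points.map_comp _ _ _
      rwa [h3] at h2
    obtain ⟨h1, h2⟩ := K619.FinCoverStage.repWith_of_fEt (K634.FiniteMor.isFiniteMor_iff.1 hg1).1 hF hrange sqP
    exact ⟨K634.FiniteMor.isFiniteMor_iff.2 h1, K615.Desc.isEtaleMor_of_repWith h2⟩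

end K619.Filtr
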