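import Groth.Agent.AlgSp.K619.GEBound

/-!
# The degree loci of a chart of a quasi-separated space are quasi-compact
-/

set_option autoImplicit false
universe u
open CategoryTheory CategoryTheory.Limits AlgebraicGeometry Opposite AlgSp

namespace K619.GEXCompact

open K617.EtFin K617.Strat

theorem quasiCompact_offSnd {Y T : Scheme.{u}} (f : Y ⟶ T) [Etale f] [IsSeparated f] [QuasiCompact f] :
    QuasiCompact (offSnd f) := by
  have hcl : IsClosed ((offDiag f : (pullback f f).Opens) : Set ↥(pullback f f)) := by
    rw [← isOpen_compl_iff]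
    change IsOpen (Set.range (pullback.diagonal f))ᶜᶜ
    rw [compl_compl]
    exact (pullback.diagonal f).isOpenEmbedding.isOpen_range
  have h1 : IsClosedImmersion (offDiag f).ι := .of_isPreimmersion _ (by rw [Scheme.Opens.range_ι]; exact hcl)
  unfold offSnd
  infer_instance

theorem isCompact_GE (n : ℕ) : ∀ {Y T : Scheme.{u}} (f : Y ⟶ T) [Etale f] [IsSeparated f] [QuasiCompact f]
    [CompactSpace T], IsCompact (GE f n) := by
  induction n with
  | zero => intro Y T f _ _ _ _; rw [GE_zero]; exact isCompact_univ
  | succ n ih =>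
    intro Y T f _ _ _ _
    rw [GE_succ_eq_image]
    have h1 := quasiCompact_offSnd f
    have h2 : CompactSpace Y := QuasiCompact.compactSpace_of_compactSpace f
    exact (ih (offSnd f)).image f.continuous

variable {S : Scheme.{u}}

theorem isCompact_GEX [QuasiSeparatedSpace ↥S] {X : Sp S} (hX : IsAlgSpace X) (hqs : IsQuasiSeparatedSp X)
    {U : Over S} (hU : IsAffine U.left) {a : (yon S).obj U ⟶ X} (ha : RepWith @Etale a)
    (hs : RepWith @Surjective a) (n : ℕ) : IsCompact (GEX a n) := by
  obtain ⟨R, p, q, sq⟩ := K609.Sep.exists_isPullback_yon hX.diag a a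
  have : CompactSpace ↥R.left := K609.Sep.compactSpace_pullback hqs sq
  have h1 : Etale q.left := ha.2 _ _ _ sq
  have h2 : IsSeparated q.left := (K609.Sep.repWith_isSeparated ha.1).2 _ _ _ sq
  have h3 : QuasiCompact q.left := inferInstance
  have h4 := isCompact_GE n q.left
  rw [← preimage_GEX sq n] at h4
  have h5 := h4.image (Points.continuous_ofPt a)
  rwa [Set.image_preimage_eq _ (K610.Base.surjective_ofPt hs)] at h5

end K619.GEXCompact
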