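import Groth.Agent.AlgSp.K619.GEStep
import Groth.Agent.Sga1.EtaleSection
import Groth.Agent.AlgSp.K610.SchLocus
import Groth.Agent.AlgSp.K609.Sep

/-!
# Morphisms which are finite étale over a set of points

* `FEt g O` : the pullback of `g` to every scheme over the target with image in `O` is finite étale.
* `FEt.of_open`, `FEt.comp`, `fEt_of_isOpenImmersion`, `fEt_of_GEX`.
* converse statements for `GEX`.
-/

set_option autoImplicit false
universe u
open CategoryTheory CategoryTheory.Limits AlgebraicGeometry Opposite AlgSp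

namespace K619.FinEt

open K617.EtFin K617.Strat

variable {S : Scheme.{u}} {X Y Z : Sp S}

/-- The pullback of `g` to every scheme mapping into `O` is finite étale. -/
def FEt (g : Y ⟶ X) (O : Set (Points X)) : Prop :=
  ∀ (T P : Over S) (t : (yon S).obj T ⟶ X) (fst : (yon S).obj P ⟶ Y) (snd : P ⟶ T),
    Set.range (Points.ofPt t) ⊆ O → IsPullback fst ((yon S).map snd) g t → IsFinite snd.left ∧ Etale snd.left

theorem FEt.mono {g : Y ⟶ X} {O O' : Set (Points X)} (h : FEt g O) (hO : O' ⊆ O) : FEt g O' :=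
  fun T P t fst snd ht sq => h T P t fst snd (ht.trans hO) sq

theorem left_isIso {A B : Over S} (f : A ⟶ B) [IsIso ((yon S).map f)] : IsIso f.left := by
  have h2 : IsIso f := isIso_of_fully_faithful (yon S) f
  exact inferInstanceAs (IsIso ((Over.forget S).map f))

theorem fEt_of_isIso (g : Y ⟶ X) [IsIso g] (O : Set (Points X)) : FEt g O := by
  intro T P t fst snd _ sq
  have h1 : IsIso ((yon S).map snd) := sq.isIso_snd_of_isIso
  have h3 : IsIso snd.left := left_isIso snd
  exact ⟨inferInstance, inferInstance⟩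

theorem FEt.comp {f : Z ⟶ Y} {g : Y ⟶ X} {A : Set (Points Y)} {B : Set (Points X)} (hg : Representable g)
    (h1 : FEt f A) (h2 : FEt g B) (hAB : Points.map g ⁻¹' B ⊆ A) : FEt (f ≫ g) B := by
  intro T P t fst snd ht sq
  have sq1 := hg.isPullback t
  obtain ⟨h3, h4⟩ := h2 _ _ t (hg.fst t) (hg.snd t) ht sq1
  have hl : (fst ≫ f) ≫ g = (yon S).map snd ≫ t := by rw [Category.assoc, sq.w]
  obtain ⟨k, hk⟩ := (yon S).map_surjective (sq1.lift (fst ≫ f) ((yon S).map snd) hl)
  have hk1 : (yon S).map k ≫ hg.fst t = fst ≫ f := by rw [hk, sq1.lift_fst]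
  have hk2 : k ≫ hg.snd t = snd := (yon S).map_injective (by rw [Functor.map_comp, hk, sq1.lift_snd])
  have sq2 : IsPullback fst ((yon S).map k) f (hg.fst t) := by
    refine IsPullback.of_bot ?_ hk1.symm sq1
    rw [← Functor.map_comp, hk2]
    exact sq
  obtain ⟨h5, h6⟩ := h1 _ _ _ _ _ (by
    rintro _ ⟨x, rfl⟩
    apply hAB
    rw [Set.mem_preimage, Points.map_ofPt, sq1.w, K610.Base.ofPt_map_comp]
    exact ht ⟨_, rfl⟩) sq2
  rw [← hk2, Over.comp_left]
  exact ⟨inferInstance, inferInstance⟩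

/-- The base change of an open immersion containing the image is an isomorphism. -/
theorem isIso_of_range {V : Sp S} {i : V ⟶ X} (hi : RepWith @IsOpenImmersion i) {T P : Over S}
    {t : (yon S).obj T ⟶ X} {fst : (yon S).obj P ⟶ V} {snd : P ⟶ T} (sq : IsPullback fst ((yon S).map snd) i t)
    (ht : Set.range (Points.ofPt t) ⊆ Set.range (Points.map i)) : IsIso snd.left := by
  have h1 : IsOpenImmersion snd.left := hi.2 _ _ _ sq
  have h2 : Surjective snd.left := K610.Factor.surjective_of_range sq ht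
  exact (isIso_iff_isOpenImmersion_and_surjective _).2 ⟨h1, h2⟩

theorem fEt_of_isOpenImmersion {i : Y ⟶ X} (hi : RepWith @IsOpenImmersion i) {O : Set (Points X)}
    (hO : O ⊆ Set.range (Points.map i)) : FEt i O := by
  intro T P t fst snd ht sq
  have := isIso_of_range hi sq (ht.trans hO)
  exact ⟨inferInstance, inferInstance⟩

/-- Removing from the source an open subspace containing everything over `O`. -/
theorem FEt.of_open {k : Z ⟶ Y} {g : Y ⟶ X} {O : Set (Points X)} (hk : RepWith @IsOpenImmersion k)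
    (h : FEt (k ≫ g) O) (hO : Points.map g ⁻¹' O ⊆ Set.range (Points.map k)) : FEt g O := by
  intro T P t fst snd ht sq
  have sq1 := hk.rep.isPullback fst
  have hi : IsIso (hk.rep.snd fst).left := isIso_of_range hk sq1 (by
    rintro _ ⟨x, rfl⟩
    apply hO
    rw [Set.mem_preimage, Points.map_ofPt, sq.w, K610.Base.ofPt_map_comp]
    exact ht ⟨_, rfl⟩)
  have sq2 := sq1.paste_vert sq
  rw [← Functor.map_comp] at sq2
  obtain ⟨h1, h2⟩ := h _ _ _ _ _ ht sq2
  rw [Over.comp_left] at h1 h2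
  exact ⟨(MorphismProperty.cancel_left_of_respectsIso @IsFinite (hk.rep.snd fst).left snd.left).1 h1,
    (MorphismProperty.cancel_left_of_respectsIso @Etale (hk.rep.snd fst).left snd.left).1 h2⟩

/-- Over the locus of the maximal number of geometric points an étale separated chart is finite étale. -/
theorem fEt_of_GEX {U : Over S} {a : (yon S).obj U ⟶ X} (ha : RepWith @Etale a) (hs : RepWith @IsSeparated a)
    {n : ℕ} (hG : GEX a (n + 1) = ∅) : FEt a (GEX a n) := by
  intro T P t fst snd ht sq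
  obtain ⟨fst, rfl⟩ := (yon S).map_surjective fst
  have h1 : Etale snd.left := ha.2 _ _ _ sq
  have h2 : IsSeparated snd.left := hs.2 _ _ _ sq
  have h3 := preimage_GEX sq n
  have h4 := preimage_GEX sq (n + 1)
  rw [hG, Set.preimage_empty] at h4
  refine ⟨isFinite_of_GE n snd.left ?_ h4.symm, h1⟩
  rw [← h3]
  exact Set.eq_univ_of_forall fun x => ht ⟨x, rfl⟩

/-- The points of the pullback of a chart. -/
theorem mem_GEX_iff_of_isPullback {U P : Over S} {a : (yon S).obj U ⟶ X} {ν : Y ⟶ X} {p : P ⟶ U}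
    {q : (yon S).obj P ⟶ Y} (sq : IsPullback ((yon S).map p) q a ν) (hq : Representable q) {n : ℕ} (y : Points Y) :
    y ∈ GEX q n ↔ Points.map ν y ∈ GEX a n := by
  obtain ⟨T, g, t, rfl⟩ := K610.Base.exists_ofPt_eq y
  obtain ⟨V, snd, fst, sqV⟩ := hq g
  obtain ⟨fst, rfl⟩ := (yon S).map_surjective fst
  have sq2 := sqV.paste_horiz sq
  rw [← Functor.map_comp] at sq2
  have h1 : t ∈ Points.ofPt g ⁻¹' GEX q n ↔ t ∈ Points.ofPt (g ≫ ν) ⁻¹' GEX a n := by
    rw [preimage_GEX sqV, preimage_GEX sq2]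
  exact h1

theorem mem_GEX_iff_of_mono {U : Over S} {a : (yon S).obj U ⟶ Y} {i : Y ⟶ X} [Mono i] {n : ℕ} (ha : Representable a)
    (y : Points Y) : y ∈ GEX a n ↔ Points.map i y ∈ GEX (a ≫ i) n := by
  have sq := K610.OpenImm.isPullback_id_of_mono a i
  rw [← (yon S).map_id] at sq
  exact mem_GEX_iff_of_isPullback sq ha y

/-- Among `n + 1` lifts at most one belongs to a section which is a monomorphism. -/
theorem mem_GEX_pred {U P W : Over S} {q : (yon S).obj P ⟶ Y} (γ : U ⟶ P) (w : W ⟶ P)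
    (hw : IsOpenImmersion w.left) (hγ : IsOpenImmersion γ.left) (hcov : ∀ x : P.left, x ∈ Set.range γ.left ∨ x ∈ Set.range w.left)
    (hm : Mono ((yon S).map γ ≫ q)) {n : ℕ} {y : Points Y} (h : y ∈ GEX q (n + 1)) :
    y ∈ GEX ((yon S).map w ≫ q) n := by
  obtain ⟨Ω, _, str, ξ, σ, hξ, hσ, hf⟩ := h
  have hlift : ∀ {A : Over S} (v : A ⟶ P) (_ : IsOpenImmersion v.left) (i : Fin (n + 1)),
      (σ i).left (pt Ω) ∈ Set.range v.left → ∃ s : Over.mk str ⟶ A, s ≫ v = σ i := by
    intro A v hv i hi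
    have hr : Set.range (σ i).left ⊆ Set.range v.left := by
      rintro _ ⟨x, rfl⟩
      have : x = pt Ω := Spec_field_eq x _
      rw [this]
      exact hi
    refine ⟨Over.homMk (IsOpenImmersion.lift v.left (σ i).left hr) ?_, Over.OverMorphism.ext (IsOpenImmersion.lift_fac _ _ _)⟩
    rw [← Over.w v, ← Category.assoc, IsOpenImmersion.lift_fac, Over.w]
  obtain ⟨i₀, hi₀⟩ : ∃ i₀, ∀ i, i ≠ i₀ → (σ i).left (pt Ω) ∈ Set.range w.left := by
    by_cases hc : ∃ i₀, (σ i₀).left (pt Ω) ∈ Set.range γ.left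
    · obtain ⟨i₀, hi₀⟩ := hc
      refine ⟨i₀, fun i hi => (hcov _).resolve_left fun h1 => hi ?_⟩
      obtain ⟨s, hs⟩ := hlift γ hγ i h1
      obtain ⟨s₀, hs₀⟩ := hlift γ hγ i₀ hi₀
      have h2 : (yon S).map s ≫ (yon S).map γ ≫ q = (yon S).map s₀ ≫ (yon S).map γ ≫ q := by
        rw [← Category.assoc, ← Functor.map_comp, hs, ← Category.assoc, ← Functor.map_comp, hs₀, hf, hf]
      have h3 := (yon S).map_injective ((cancel_mono _).1 h2)
      apply hσ
      rw [← hs, ← hs₀, h3]
    · exact ⟨0, fun i _ => (hcov _).resolve_left fun h1 => hc ⟨i, h1⟩⟩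
  choose s hs using fun i : Fin n => hlift w hw (i₀.succAbove i) (hi₀ _ (Fin.succAbove_ne _ _))
  refine ⟨Ω, inferInstance, str, ξ, s, hξ, fun i j hij => ?_, fun i => ?_⟩
  · have h1 : σ (i₀.succAbove i) = σ (i₀.succAbove j) := by rw [← hs, ← hs, hij]
    exact Fin.succAbove_right_injective (hσ h1)
  · rw [← Category.assoc, ← Functor.map_comp, hs, hf]

end K619.FinEt
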