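import Groth.Agent.AlgSp.K617.EtFin

/-!
# Dense étale open subschemes over the locus of maximal degree
-/

set_option autoImplicit false
universe u
open CategoryTheory CategoryTheory.Limits AlgebraicGeometry Opposite

namespace K619.FinLocus

open K617.EtFin

/-- `R ⟶ P` a dense open immersion over `U`, with `P ⟶ U` separated and `R ⟶ U` étale of degree at most `m`:
over the points of degree `m` the open `R` is all of `P`. -/
theorem preimage_subset_range {R P U : Scheme.{u}} (j : R ⟶ P) (p : P ⟶ U) [IsOpenImmersion j] [IsSeparated p]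
    [Etale (j ≫ p)] (hd : closure (Set.range j) = Set.univ) {m : ℕ} (hG : GE (j ≫ p) (m + 1) = ∅) :
    p ⁻¹' GE (j ≫ p) m ⊆ Set.range j := by
  have hs : IsSeparated (j ≫ p) := inferInstance
  let A : U.Opens := ⟨GE (j ≫ p) m, isOpen_GE m (j ≫ p)⟩
  have sq := (isPullback_morphismRestrict (j ≫ p) A).flip
  have hfin : IsFinite ((j ≫ p) ∣_ A) := by
    refine isFinite_of_GE m _ (Set.eq_univ_of_forall fun t => ?_) (Set.eq_empty_of_forall_notMem fun t ht => ?_)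
    · exact (mem_GE_of_isPullback sq m t).2 t.2
    · have := (mem_GE_of_isPullback sq (m + 1) t).1 ht
      rw [hG] at this
      exact this
  have hfin' : IsFinite (j ∣_ (p ⁻¹ᵁ A) ≫ p ∣_ A) := by
    rw [← morphismRestrict_comp]
    exact hfin
  have hc : IsFinite (j ∣_ (p ⁻¹ᵁ A)) := IsFinite.of_comp _ (p ∣_ A)
  intro z hz
  by_contra hne
  let z' : ↥(p ⁻¹ᵁ A) := ⟨z, hz⟩
  have hcl : IsClosed (Set.range (j ∣_ (p ⁻¹ᵁ A))) := (j ∣_ (p ⁻¹ᵁ A)).isClosedMap.isClosed_range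
  have hz' : z' ∉ Set.range (j ∣_ (p ⁻¹ᵁ A)) := by
    rintro ⟨x, hx⟩
    apply hne
    refine ⟨(j ⁻¹ᵁ (p ⁻¹ᵁ A)).ι x, ?_⟩
    rw [← Scheme.Hom.comp_apply, ← morphismRestrict_ι, Scheme.Hom.comp_apply, hx]
    rfl
  have ho : IsOpen ((p ⁻¹ᵁ A).ι '' (Set.range (j ∣_ (p ⁻¹ᵁ A)))ᶜ) :=
    (p ⁻¹ᵁ A).ι.isOpenEmbedding.isOpenMap _ hcl.isOpen_compl
  have hzc : z ∈ closure (Set.range j) := by rw [hd]; trivial
  obtain ⟨w, ⟨w', hw', rfl⟩, x, hx⟩ := mem_closure_iff.1 hzc _ ho ⟨z', hz', rfl⟩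
  apply hw'
  have hxm : x ∈ j ⁻¹ᵁ (p ⁻¹ᵁ A) := by
    change j x ∈ p ⁻¹ᵁ A
    rw [hx]
    exact w'.2
  refine ⟨⟨x, hxm⟩, (p ⁻¹ᵁ A).ι.isOpenEmbedding.injective ?_⟩
  rw [← Scheme.Hom.comp_apply, morphismRestrict_ι, Scheme.Hom.comp_apply]
  exact hx

end K619.FinLocus
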