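import Groth.Agent.AlgSp.K619.IntCover
import Groth.Agent.AlgSp.K619.FinEt
import Groth.Agent.AlgSp.K619.FinLocus

/-!
# Integral surjective covers by schemes, finite étale over the locus of maximal degree

* `covE` : `a : h_U ⟶ X` an affine étale surjective chart with at most `m` geometric points in the fibres, `1 ≤ m`:
  there is an integral surjective `g : h_Y ⟶ X` factoring Zariski locally through `a`, finite étale over the open set
  of points with exactly `m` geometric points in the fibre.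
-/

set_option autoImplicit false
universe u
open CategoryTheory CategoryTheory.Limits AlgebraicGeometry Opposite AlgSp

namespace K619.IntCoverE

open K617.EtFin K617.Strat K619.IntCover K619.FinEt

variable {S : Scheme.{u}}

/-- There is an integral surjective map from a scheme which factors Zariski locally through `a` and is finite étale
over the points with `m` lifts. -/
def CovE {X : Sp S} {U : Over S} (a : (yon S).obj U ⟶ X) (m : ℕ) : Prop :=
  ∃ (Y : Over S) (g : (yon S).obj Y ⟶ X), RepWith @IsIntegralHom g ∧ RepWith @Surjective g ∧ LF a g ∧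
    FEt g (GEX a m)

theorem covE_one {X : Sp S} {U : Over S} {a : (yon S).obj U ⟶ X} (hU : IsAffine U.left) (ha : RepWith @Etale a)
    (has : RepWith @Surjective a) (hG : GEX a 2 = ∅) : CovE a 1 := by
  have h1 : FEt a (GEX a 1) := fEt_of_GEX ha (K609.Sep.repWith_isSeparated ha.1) hG
  have h2 : GEX a 1 = Set.univ := by
    rw [GEX_one a ha.1]
    exact (K610.Base.surjective_ofPt has).range_eq
  refine ⟨U, a, ⟨ha.1, fun T V g fst snd sq => ?_⟩, has, fun y => ⟨U, 𝟙 U, 𝟙 U, ?_, ⟨y, rfl⟩, rfl⟩, h1⟩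
  · have : IsFinite snd.left := (h1 T V g fst snd (by rw [h2]; exact Set.subset_univ _) sq).1
    change IsIntegralHom snd.left
    infer_instance
  · exact inferInstanceAs (IsOpenImmersion (𝟙 U.left))

/-- Over the points of maximal degree the normalization is the chart. -/
theorem preimage_subset_range {X Y : Sp S} {U P : Over S} {a : (yon S).obj U ⟶ X} {ν : Y ⟶ X}
    {j : (yon S).obj U ⟶ Y} {p : P ⟶ U}
    {q : (yon S).obj P ⟶ Y} (sq : IsPullback ((yon S).map p) q a ν) (hjν : j ≫ ν = a)
    (hq : RepWith @Etale q) (hqs : RepWith @Surjective q) (hp : IsSeparated p.left) (ha : RepWith @Etale a)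
    (hj : RepWith @IsOpenImmersion j)
    (hd : closure (Set.range (Points.map j)) = Set.univ) {m : ℕ} (hG : GEX a (m + 1) = ∅) :
    Points.map ν ⁻¹' GEX a m ⊆ Set.range (Points.map j) := by
  have sqR := hj.rep.isPullback q
  obtain ⟨f, hf⟩ := (yon S).map_surjective (hj.rep.fst q)
  let j' := hj.rep.snd q
  have hj' : IsOpenImmersion j'.left := hj.property_snd q
  have sqR' : IsPullback ((yon S).map f) ((yon S).map (j' ≫ p)) a a := by
    have := sqR.paste_vert sq.flip
    rw [hjν, ← hf, ← Functor.map_comp] at this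
    exact this
  have het : Etale (j'.left ≫ p.left) := ha.2 _ _ _ sqR'
  have h1 := preimage_GEX sqR' m
  have h2 := preimage_GEX sqR' (m + 1)
  rw [hG, Set.preimage_empty] at h2
  have hrange : Set.range j'.left = Points.ofPt q ⁻¹' Set.range (Points.map j) := by
    ext z
    constructor
    · rintro ⟨x, rfl⟩
      rw [Set.mem_preimage, ← K610.Base.ofPt_map_comp, ← sqR.w]
      exact ⟨_, (K610.Base.ofPt_comp _ _ _).symm⟩
    · rintro ⟨x, hx⟩
      obtain ⟨v, -, hv⟩ := K610.Base.exists_of_isPullback_yon sqR x z hx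
      exact ⟨v, hv⟩
  have hdense : closure (Set.range j'.left) = Set.univ := by
    rw [hrange]
    have hqo := K610.Base.isOpenMap_ofPt_etale hq
    have h3 : Dense (Set.range (Points.map j)) := dense_iff_closure_eq.2 hd
    exact (h3.preimage hqo).closure_eq
  have h4 := K619.FinLocus.preimage_subset_range j'.left p.left hdense (m := m) (by
    rw [← Over.comp_left]
    exact h2.symm)
  intro y hy
  obtain ⟨z, rfl⟩ := K610.Base.surjective_ofPt hqs y
  have h5 : z ∈ p.left ⁻¹' GE (j'.left ≫ p.left) m := by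
    rw [Set.mem_preimage, ← Over.comp_left, ← h1, Set.mem_preimage, ← K610.Base.ofPt_map_comp, sq.w,
      K610.Base.ofPt_comp]
    exact hy
  obtain ⟨x, rfl⟩ := h4 h5
  rw [← K610.Base.ofPt_map_comp, ← sqR.w]
  exact ⟨_, (K610.Base.ofPt_comp _ _ _).symm⟩

theorem covE_step [QuasiSeparatedSpace ↥S] (m : ℕ) (hm : 1 ≤ m)
    (IH : ∀ {V : Sp S} {W : Over S} {w : (yon S).obj W ⟶ V}, IsAlgSpace V → IsQuasiSeparatedSp V →
      IsAffine W.left → RepWith @Etale w → RepWith @Surjective w → GEX w (m + 1) = ∅ → CovE w m)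
    {X : Sp S} {U : Over S} {a : (yon S).obj U ⟶ X} (hX : IsAlgSpace X) (hqs : IsQuasiSeparatedSp X)
    (hU : IsAffine U.left) (ha : RepWith @Etale a) (has : RepWith @Surjective a) (hG : GEX a (m + 1 + 1) = ∅) :
    CovE a (m + 1) := by
  obtain ⟨Y, ν, j, hY, hν, hjν, hj, hd⟩ := exists_norm hX hqs hU ha
  obtain ⟨P, W, p, q, γ, w, sq, hq, hqs', hγ, hw, hW, hdis, hcovP⟩ :=
    K619.SplitOff.exists_split hU ha has hν hjν hj
  subst hγ
  have hG' := GEX_comp_eq_empty γ w sq hq hU ha hj hd hw hdis hG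
  have hw' : RepWith @IsOpenImmersion ((yon S).map w) := (repWith_yon_map_iff _ _).2 hw
  have hwq : RepWith @Etale ((yon S).map w ≫ q) :=
    MorphismProperty.comp_mem _ _ _ (K610.OpenImm.repWith_etale_of_open hw') hq
  obtain ⟨V, i, b, hi, hri, hbi, hb, hbs⟩ := K611.exists_image (⟨Y, hY⟩ : Space S) ((yon S).map w ≫ q) hwq
  have hYqs : IsQuasiSeparatedSp Y :=
    K605.ImmMain.isQuasiSeparatedSp_of_mor (K616.Norm.isQuasiSeparatedMor_of_isIntegralMor hν) hqs
  have hVqs : IsQuasiSeparatedSp V.obj := isQuasiSeparatedSp_of_open hi hYqs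
  have hGb : GEX b (m + 1) = ∅ := by
    refine Set.eq_empty_of_forall_notMem fun v hv => ?_
    have h1 := K619.GEStep.map_mem_GEX_comp (i := i.hom) hv
    rw [hbi, hG'] at h1
    exact h1
  obtain ⟨Z, h, hh, hhs, hLF, hfe⟩ := IH V.property hVqs hW hb hbs hGb
  have hVqc : IsQuasiCompactSp V.obj := ⟨W, b, hb, hbs, inferInstance⟩
  have hiq : IsQuasiCompactMor i.hom :=
    K596.QC2.isQuasiCompactMor_of_qc_of_qs V.property hY i.hom hVqc hYqs
  obtain ⟨Z', μ, k, hZ', hμ, sqZ⟩ := K619.ExtInt.exists_ext hY V.property hi hiq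
    (K617.FinLoc.isIntegralMor_iff.2 hh)
  -- `Y` is covered by `V` and `U`
  have hcovY : ∀ y : Points Y, y ∈ Set.range (Points.map i.hom) ∨
      y ∈ Set.range (Points.map ((yon S).map γ ≫ q)) := by
    intro y
    obtain ⟨x, rfl⟩ := K610.Base.surjective_ofPt hqs' y
    rcases hcovP x with ⟨u, rfl⟩ | ⟨x', rfl⟩
    · right
      rw [← K610.SchLocus.range_ofPt]
      exact ⟨u, K610.Base.ofPt_map_comp γ q u⟩
    · left
      rw [hri]
      exact ⟨x', K610.Base.ofPt_map_comp w q x'⟩
  obtain ⟨H, Q, e, k₀, f₀, r, hk₀, hf₀, hk₀o, hf₀o, hcovH⟩ :=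
    isRepresentable_of_cover hU hj hi hcovY hZ' hμ sqZ
  -- the closed complement of `V`
  obtain ⟨T, c, hc, hrc⟩ := K619.ClosedIn.exists_scheme hY hj (Set.range (Points.map i.hom))ᶜ
    (by
      rw [isClosed_compl_iff, hri]
      exact (K610.Base.isOpenMap_ofPt_etale hwq).isOpen_range)
    (fun y hy => by
      rw [K610.SchLocus.range_ofPt]
      exact (hcovY y).resolve_left hy)
  have hνr : RepWith @IsIntegralHom ν := K617.FinLoc.isIntegralMor_iff.1 hν
  have hμr : RepWith @IsIntegralHom μ := K617.FinLoc.isIntegralMor_iff.1 hμ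
  have hA : RepWith @IsIntegralHom (e.hom ≫ μ ≫ ν) :=
    MorphismProperty.comp_mem _ _ _ (MorphismProperty.of_isIso (P := RepWith @IsIntegralHom) _)
      (MorphismProperty.comp_mem _ _ _ hμr hνr)
  have hB : RepWith @IsIntegralHom (((yon S).map c ≫ (yon S).map γ ≫ q) ≫ ν) :=
    MorphismProperty.comp_mem _ _ _ (K610.Base.repWith_mono (fun _ _ f (_ : IsClosedImmersion f) =>
      (inferInstance : IsIntegralHom f)) hc) hνr
  obtain ⟨g, hg1, hg2, hg⟩ := K619.IntSum.exists_cop hX hA hB
  -- the locus of maximal degree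
  have hp : IsSeparated p.left := by
    have h1 : RepWith @IsIntegralHom ((yon S).map p) := MorphismProperty.of_isPullback (P := RepWith @IsIntegralHom) sq.flip hνr
    have : IsIntegralHom p.left := (repWith_yon_map_iff _ _).1 h1
    infer_instance
  have hYO : Points.map ν ⁻¹' GEX a (m + 1) ⊆ Set.range (Points.map ((yon S).map γ ≫ q)) :=
    preimage_subset_range sq hjν hq hqs' hp ha hj hd hG
  have hasep : RepWith @IsSeparated a := K609.Sep.repWith_isSeparated ha.1
  have hFν : FEt ν (GEX a (m + 1)) := FEt.of_open hj (by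
    rw [hjν]
    exact fEt_of_GEX ha hasep hG) hYO
  have hmj : Mono ((yon S).map γ ≫ q) := K610.Factor.mono_of_isOpenImmersion hj
  have hmi : Mono i.hom := K610.Factor.mono_of_isOpenImmersion hi
  have hγo : IsOpenImmersion γ.left := by
    have h1 : Etale γ.left := K613.Diag.etale_of_comp γ hq (K610.OpenImm.repWith_etale_of_open hj) rfl
    have h2 : Mono ((yon S).map γ) := mono_of_mono ((yon S).map γ) q
    have h3 : Mono γ := (yon S).mono_of_mono_map h2
    have h4 : Mono γ.left := inferInstance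
    exact Groth.Agent.Sga1.EtaleSection.isOpenImmersion_of_etale_of_mono γ.left
  have hYV : ∀ y : Points Y, Points.map ν y ∈ GEX a (m + 1) → y ∈ GEX ((yon S).map w ≫ q) m := fun y hy =>
    mem_GEX_pred γ w hw hγo hcovP hmj ((mem_GEX_iff_of_isPullback sq hq.1 y).2 hy)
  have hYi : Points.map ν ⁻¹' GEX a (m + 1) ⊆ Set.range (Points.map i.hom) := fun y hy => by
    rw [hri, ← GEX_one _ hwq.1]
    exact GEX_antitone _ hm (hYV y hy)
  have hFh : FEt (h ≫ i.hom) (Points.map ν ⁻¹' GEX a (m + 1)) := by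
    refine FEt.comp hi.1 hfe (fEt_of_isOpenImmersion hi hYi) fun v hv => ?_
    rw [mem_GEX_iff_of_mono (i := i.hom) hb.1, hbi]
    exact hYV _ hv
  have hkr : RepWith @IsOpenImmersion k := MorphismProperty.of_isPullback (P := RepWith @IsOpenImmersion) sqZ.flip hi
  have hFμ : FEt μ (Points.map ν ⁻¹' GEX a (m + 1)) := by
    refine FEt.of_open hkr (by rw [sqZ.w]; exact hFh) fun x hx => ?_
    obtain ⟨v, hv⟩ := hYi hx
    obtain ⟨z, hz, -⟩ := K610.Base.exists_of_isPullback sqZ x v hv.symm
    exact ⟨z, hz⟩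
  have hFA : FEt (e.hom ≫ μ ≫ ν) (GEX a (m + 1)) :=
    FEt.comp (MorphismProperty.comp_mem _ _ _ hμr hνr : RepWith @IsIntegralHom (μ ≫ ν)).1
      (fEt_of_isIso e.hom Set.univ) (FEt.comp hνr.1 hFμ hFν subset_rfl) (Set.subset_univ _)
  refine ⟨_, g, hg, ?_, ?_, ?_⟩
  · rw [K610.Base.repWith_surjective_iff hg.1]
    intro x
    obtain ⟨u, rfl⟩ := K610.Base.surjective_ofPt has x
    have h1 : Points.ofPt a u = Points.map ν (Points.ofPt ((yon S).map γ ≫ q) u) := by
      rw [← K610.Base.ofPt_comp, hjν]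
    rw [h1]
    generalize Points.ofPt ((yon S).map γ ≫ q) u = y
    by_cases hy : y ∈ Set.range (Points.map i.hom)
    · obtain ⟨v, rfl⟩ := hy
      obtain ⟨z, rfl⟩ := K610.Base.surjective_ofPt hhs v
      refine ⟨Points.ofPt ((yon S).map (K636.Decomp.copl H T)) (k₀.left z), ?_⟩
      rw [Points.map_ofPt, hg1, ← K610.Base.ofPt_map_comp k₀, ← Category.assoc, hk₀, ← Category.assoc,
        sqZ.w, Category.assoc]
      rfl
    · have hy' : y ∈ (Set.range (Points.map i.hom))ᶜ := hy
      rw [← hrc] at hy'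
      obtain ⟨t, rfl⟩ := hy'
      refine ⟨Points.ofPt ((yon S).map (K636.Decomp.copr H T)) t, ?_⟩
      rw [Points.map_ofPt, hg2, K610.Base.ofPt_comp]
  · intro y
    have hcov : y ∈ Set.range (K636.Decomp.copl H T).left ∨ y ∈ Set.range (K636.Decomp.copr H T).left :=
      (isCompl_range_inl_inr H.left T.left).codisjoint.top_le (Set.mem_univ y)
    have ol : IsOpenImmersion (K636.Decomp.copl H T).left :=
      inferInstanceAs (IsOpenImmersion (coprod.inl : H.left ⟶ H.left ⨿ T.left))
    have or : IsOpenImmersion (K636.Decomp.copr H T).left :=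
      inferInstanceAs (IsOpenImmersion (coprod.inr : T.left ⟶ H.left ⨿ T.left))
    rcases hcov with ⟨x, rfl⟩ | ⟨t, rfl⟩
    · rcases hcovH x with ⟨z, rfl⟩ | ⟨z, rfl⟩
      · obtain ⟨V₁, v₁, c₁, hv₁, ⟨z₁, rfl⟩, e₁⟩ := hLF z
        refine ⟨V₁, v₁ ≫ k₀ ≫ K636.Decomp.copl H T, c₁ ≫ w ≫ p, ?_, ⟨z₁, ?_⟩, ?_⟩
        · rw [Over.comp_left, Over.comp_left]
          infer_instance
        · rw [Over.comp_left, Over.comp_left, Scheme.Hom.comp_apply, Scheme.Hom.comp_apply]
        · rw [Functor.map_comp, Functor.map_comp, Category.assoc, Category.assoc, sq.w,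
            ← Category.assoc ((yon S).map w), ← hbi, ← Category.assoc ((yon S).map c₁),
            ← Category.assoc ((yon S).map c₁), e₁, Functor.map_comp, Functor.map_comp, Category.assoc,
            Category.assoc, Category.assoc, Category.assoc, hg1, ← Category.assoc ((yon S).map k₀), hk₀,
            ← Category.assoc k, sqZ.w, Category.assoc]
      · refine ⟨Q, f₀ ≫ K636.Decomp.copl H T, r, ?_, ⟨z, ?_⟩, ?_⟩
        · rw [Over.comp_left]
          infer_instance
        · rw [Over.comp_left, Scheme.Hom.comp_apply]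
        · rw [Functor.map_comp, Category.assoc, hg1, ← Category.assoc e.hom, ← Category.assoc, hf₀,
            Category.assoc, hjν]
    · refine ⟨T, K636.Decomp.copr H T, c, or, ⟨t, rfl⟩, ?_⟩
      rw [hg2, Category.assoc, hjν]
  · have ol : RepWith @IsOpenImmersion ((yon S).map (K636.Decomp.copl H T)) :=
      (repWith_yon_map_iff _ _).2 (inferInstanceAs (IsOpenImmersion (coprod.inl : H.left ⟶ H.left ⨿ T.left)))
    refine FEt.of_open ol (by rw [hg1]; exact hFA) fun x hx => ?_
    obtain ⟨x, rfl⟩ := (Points.schemeEquiv _).surjective x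
    change Points.map g (Points.ofScheme _ x) ∈ GEX a (m + 1) at hx
    rw [← Points.ofPt_eq_map_ofScheme] at hx
    have hcov : x ∈ Set.range (K636.Decomp.copl H T).left ∨ x ∈ Set.range (K636.Decomp.copr H T).left :=
      (isCompl_range_inl_inr H.left T.left).codisjoint.top_le (Set.mem_univ x)
    rcases hcov with ⟨z, rfl⟩ | ⟨t, rfl⟩
    · exact ⟨Points.ofScheme _ z, K609.Points.map_yon_map_ofScheme _ _⟩
    · exfalso
      rw [← K610.Base.ofPt_map_comp, hg2, K610.Base.ofPt_comp] at hx
      have h1 := hYi hx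
      have h2 : Points.ofPt ((yon S).map c ≫ (yon S).map γ ≫ q) t ∈ (Set.range (Points.map i.hom))ᶜ := by
        rw [← hrc]
        exact ⟨t, rfl⟩
      exact h2 h1

theorem covE [QuasiSeparatedSpace ↥S] (m : ℕ) : ∀ {X : Sp S} {U : Over S} {a : (yon S).obj U ⟶ X},
    IsAlgSpace X → IsQuasiSeparatedSp X → IsAffine U.left → RepWith @Etale a → RepWith @Surjective a →
    GEX a (m + 1 + 1) = ∅ → CovE a (m + 1) := by
  induction m with
  | zero => exact fun _ _ hU ha has hG => covE_one hU ha has hG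
  | succ m ih => exact fun hX hqs hU ha has hG => covE_step (m + 1) (Nat.le_add_left 1 m) ih hX hqs hU ha has hG

end K619.IntCoverE
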