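import Groth.Agent.AlgSp.K604.Approx4
import Groth.Agent.AlgSp.K619.IntCoverE
import Groth.Agent.AlgSp.K619.FPCompl
import Groth.Agent.AlgSp.K619.GEXCompact
import Groth.Agent.S10007

/-!
# Finite covers by schemes, finite étale over the locus of maximal degree
-/

set_option autoImplicit false
universe u
open CategoryTheory CategoryTheory.Limits AlgebraicGeometry Opposite AlgSp

namespace K619.FinCoverStage

open K617.EtFin K617.Strat K619.FinEt

variable {S : Scheme.{u}} {X Y : Sp S}

/-- The pullback to an open subspace contained in `O`. -/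
theorem repWith_of_fEt {V P : Sp S} {g : Y ⟶ X} (hg : Representable g) {O : Set (Points X)} (h : FEt g O)
    {j : V ⟶ X} (hjO : Set.range (Points.map j) ⊆ O) {fst : P ⟶ Y} {snd : P ⟶ V} (sq : IsPullback fst snd g j) :
    RepWith @IsFinite snd ∧ RepWith @Etale snd := by
  have hr : Representable snd := MorphismProperty.of_isPullback (P := Representable) sq hg
  have key : ∀ (T Q : Over S) (t : (yon S).obj T ⟶ V) (a : (yon S).obj Q ⟶ P) (b : Q ⟶ T),
      IsPullback a ((yon S).map b) snd t → IsFinite b.left ∧ Etale b.left := by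
    intro T Q t a b sq'
    refine h T Q (t ≫ j) (a ≫ fst) b ?_ (sq'.paste_horiz sq)
    rintro _ ⟨x, rfl⟩
    exact hjO ⟨Points.ofPt t x, (K610.Base.ofPt_comp _ _ _).symm⟩
  exact ⟨⟨hr, fun T Q t a b sq' => (key T Q t a b sq').1⟩, ⟨hr, fun T Q t a b sq' => (key T Q t a b sq').2⟩⟩

/-- Conversely. -/
theorem fEt_of_repWith {V P : Sp S} {g : Y ⟶ X} {O : Set (Points X)} {j : V ⟶ X} (hj : RepWith @IsOpenImmersion j)
    (hjO : O ⊆ Set.range (Points.map j)) {fst : P ⟶ Y} {snd : P ⟶ V} (sq : IsPullback fst snd g j)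
    (h1 : RepWith @IsFinite snd) (h2 : RepWith @Etale snd) : FEt g O := by
  intro T Q t a b ht sq'
  obtain ⟨u, hu⟩ := K610.Factor.exists_lift_open hj t (ht.trans hjO)
  have hm : Mono j := K610.Factor.mono_of_isOpenImmersion hj
  have hl : a ≫ g = ((yon S).map b ≫ u) ≫ j := by rw [sq'.w, Category.assoc, hu]
  have sq2 : IsPullback (sq.lift a ((yon S).map b ≫ u) hl) ((yon S).map b) snd u := by
    refine IsPullback.of_right (t := sq) ?_ (sq.lift_snd _ _ _)
    rw [sq.lift_fst, hu]
    exact sq'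
  exact ⟨h1.2 _ _ _ sq2, h2.2 _ _ _ sq2⟩

theorem isQuasiCompactSp_of_isCompact {V : Sp S} (hX : IsAlgSpace X) (hV : IsAlgSpace V) {j : V ⟶ X}
    (hj : RepWith @IsOpenImmersion j) (hc : IsCompact (Set.range (Points.map j))) : IsQuasiCompactSp V := by
  rw [K609.QC.isQuasiCompactSp_iff hV]
  have h1 := (K610.OpenImm.isOpenEmbedding_points hX hj).isEmbedding.isInducing
  rw [← Set.image_univ, ← h1.isCompact_iff] at hc
  exact isCompact_univ_iff.1 hc

/-- Over a qcqs space with an affine étale chart of degree at most `m + 1` there is a finite surjective morphism of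
finite presentation from a scheme which is finite étale over the locus of degree `m + 1`. -/
theorem exists_stage [QuasiSeparatedSpace ↥S] (H33 : K604.Approx.IntApprox S) (H35 : K604.Approx.ClosedApprox S)
    (X : Space S) (hqs : IsQuasiSeparatedSp X.obj) {U : Over S}
    (hU : IsAffine U.left) {a : (yon S).obj U ⟶ X.obj} (ha : RepWith @Etale a) (has : RepWith @Surjective a) (m : ℕ)
    (hG : GEX a (m + 1 + 1) = ∅) :
    ∃ (Y : Over S) (g : (yon S).obj Y ⟶ X.obj), IsFiniteMor g ∧ IsSurjectiveMor g ∧ IsFinitePresentationMor g ∧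
      FEt g (GEX a (m + 1)) := by
  obtain ⟨Y₀, g₀, hg₀, hg₀s, -, hF⟩ := K619.IntCoverE.covE m X.property hqs hU ha has hG
  have hqc : IsQuasiCompactSp X.obj := ⟨U, a, ha, has, inferInstance⟩
  have hasep : RepWith @IsSeparated a := K609.Sep.repWith_isSeparated ha.1
  have hO : IsOpen (GEX a (m + 1)) := isOpen_GEX a ha hasep _
  obtain ⟨V, j, hj, hjr⟩ := K610.Sub.exists_open_subspace X _ hO
  have hVqc : IsQuasiCompactSp V.obj := isQuasiCompactSp_of_isCompact X.property V.property hj (by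
    rw [hjr]
    exact K619.GEXCompact.isCompact_GEX X.property hqs hU ha has _)
  have sqV := IsPullback.of_hasPullback g₀ j.hom
  obtain ⟨hp1, hp2⟩ := repWith_of_fEt hg₀.1 hF hjr.subset sqV
  have hfin : IsFiniteMor (pullback.snd g₀ j.hom) := K634.FiniteMor.isFiniteMor_iff.2 hp1
  have hPV : IsAlgSpace (pullback g₀ j.hom) := K600.LimSpace.isAlgSpace_of_representable hp1.1 V.property
  have hfp : IsFinitePresentationMor (pullback.snd g₀ j.hom) :=
    K604.Approx.isFinitePresentationMor_of_isFiniteMor hPV V.property hfin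
      (K597.locP_of_repWith K597.etLoc_lfp.precomp (K610.Base.repWith_mono (fun _ _ f (_ : Etale f) =>
        (inferInstance : LocallyOfFinitePresentation f)) hp2))
  obtain ⟨I, _, _, _, D, t, c, hc, e, hD, hDa, ht, he, hiso⟩ := K604.Approx.main H33 H35
    (X := ⟨(yon S).obj Y₀, IsAlgSpace.yon_obj Y₀⟩) (Y := X) ⟨g₀⟩ (K617.FinLoc.isIntegralMor_iff.2 hg₀) hqc hqs V j hj
    hVqc _ _ _ sqV hfin hfp
  have hDqc : ∀ i, IsQuasiCompactSp (D.obj i) := fun i => K636.QcqsOver.isQuasiCompactSp_of_mor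
    (ht i).2.2.1 X.property hqc
  have hDqs : ∀ i, IsQuasiSeparatedSp (D.obj i) := fun i => K636.QcqsOver.isQuasiSeparatedSp_of_mor
    (ht i).2.2.2 hqs
  obtain ⟨i, hi⟩ := Groth.Agent.S10007.result S D hD hDa hDqc hDqs c hc
    (K610.ZarGlue.isRepresentable_iff.2 ⟨Y₀, ⟨e.symm⟩⟩)
  obtain ⟨Y, ⟨ε⟩⟩ := K610.ZarGlue.isRepresentable_iff.1 hi
  have htr : RepWith @IsFinite (t.app i) := K634.FiniteMor.isFiniteMor_iff.1 (ht i).1
  -- over `V` the stage is the given one
  have sqi := IsPullback.of_hasPullback (t.app i) j.hom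
  have hk : pullback.fst g₀ j.hom ≫ e.inv ≫ c.π.app i ≫ t.app i = pullback.snd g₀ j.hom ≫ j.hom := by
    have := he i
    rw [show e.inv ≫ c.π.app i ≫ t.app i = g₀ from this, sqV.w]
  let k : pullback g₀ j.hom ⟶ pullback (t.app i) j.hom :=
    sqi.lift (pullback.fst g₀ j.hom ≫ e.inv ≫ c.π.app i) (pullback.snd g₀ j.hom) (by
      rw [Category.assoc, Category.assoc]
      exact hk)
  have hk1 : k ≫ pullback.fst (t.app i) j.hom = pullback.fst g₀ j.hom ≫ e.inv ≫ c.π.app i := sqi.lift_fst _ _ _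
  have hk2 : k ≫ pullback.snd (t.app i) j.hom = pullback.snd g₀ j.hom := sqi.lift_snd _ _ _
  have hki : IsIso k := hiso i _ _ _ sqi k hk1 hk2
  have hq2 : pullback.snd (t.app i) j.hom = inv k ≫ pullback.snd g₀ j.hom := by rw [← hk2, IsIso.inv_hom_id_assoc]
  have hq3 : RepWith @IsFinite (pullback.snd (t.app i) j.hom) := by
    rw [hq2]
    exact MorphismProperty.comp_mem _ _ _ (MorphismProperty.of_isIso (P := RepWith @IsFinite) _) hp1
  have hq4 : RepWith @Etale (pullback.snd (t.app i) j.hom) := by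
    rw [hq2]
    exact MorphismProperty.comp_mem _ _ _ (MorphismProperty.of_isIso (P := RepWith @Etale) _) hp2
  have hFt : FEt (t.app i) (GEX a (m + 1)) := fEt_of_repWith hj hjr.symm.subset sqi hq3 hq4
  have hfin' : IsFiniteMor (ε.hom ≫ t.app i) := K634.FiniteMor.isFiniteMor_iff.2
    (MorphismProperty.comp_mem _ _ _ (MorphismProperty.of_isIso (P := RepWith @IsFinite) _) htr)
  refine ⟨Y, ε.hom ≫ t.app i, hfin', ?_, ?_, ?_⟩
  · intro x
    obtain ⟨y, rfl⟩ := K610.Base.surjective_ofPt hg₀s x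
    refine ⟨Points.map (e.inv ≫ c.π.app i ≫ ε.inv) (Points.ofScheme Y₀ y), ?_⟩
    rw [← Points.map_comp, Category.assoc, Category.assoc, ε.inv_hom_id_assoc]
    have := he i
    rw [show e.inv ≫ c.π.app i ≫ t.app i = g₀ from this, Points.ofPt_eq_map_ofScheme]
  · exact K604.Approx.isFinitePresentationMor_of_isFiniteMor (IsAlgSpace.yon_obj Y) X.property hfin'
      (K597.locP_precomp (MorphismProperty.of_isIso (P := RepWith @Etale) ε.hom) (ht i).2.1)
  · exact FEt.comp htr.1 (fEt_of_isIso ε.hom Set.univ) hFt (Set.subset_univ _)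

end K619.FinCoverStage
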