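import Groth.Agent.AlgSp.K618.FieldFib
import Groth.Agent.AlgSp.K621.Decent

/-!
# Finite fibres of affine étale charts

* `finFibres_of_family` : finiteness of the fibres over `x` of all affine étale charts can be tested on one jointly
  surjective family of étale charts (S10363).
-/

set_option autoImplicit false
universe u
open CategoryTheory CategoryTheory.Limits AlgebraicGeometry Opposite Topology

namespace K619.FinFib

open AlgSp K621.Base

variable {S : Scheme.{u}}

theorem finite_of_locally {Z : Type u} [TopologicalSpace Z] [CompactSpace Z] {F : Set Z}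
    (h : ∀ z : Z, ∃ O ∈ 𝓝 z, (F ∩ O).Finite) : F.Finite := by
  have h1 := isCompact_univ.induction_on (p := fun s : Set Z => (F ∩ s).Finite)
    (by simp) (fun s t hst ht => ht.subset (Set.inter_subset_inter_right _ hst))
    (fun s t hs ht => by rw [Set.inter_union_distrib_left]; exact hs.union ht)
    (fun z _ => by
      obtain ⟨O, hO, hO'⟩ := h z
      exact ⟨O, mem_nhdsWithin_of_mem_nhds hO, hO'⟩)
  simpa using h1

theorem finite_preimage_affine {A B : Scheme.{u}} [IsAffine A] [IsAffine B] (f : A ⟶ B) [Etale f]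
    {F : Set ↥B} (hF : F.Finite) : (f ⁻¹' F).Finite := by
  have := K618.Sch.locallyQuasiFinite_of_etale f
  exact f.finite_preimage hF

/-- Finiteness of fibres over `x` can be tested on a jointly surjective family of étale charts. -/
theorem finite_fibre_of_family {X : Sp S}
    (x : AlgSp.Points X) {ι : Type u} (U : ι → Over S) (φ : ∀ i, (AlgSp.yon S).obj (U i) ⟶ X)
    (hφ : ∀ i, AlgSp.RepWith @Etale (φ i))
    (hsurj : ∀ y : AlgSp.Points X, ∃ (i : ι) (v : ↥(U i).left), AlgSp.Points.ofPt (φ i) v = y)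
    (hfin : ∀ i, (AlgSp.Points.ofPt (φ i) ⁻¹' {x}).Finite)
    {V : Over S} [CompactSpace ↥V.left] (ψ : (AlgSp.yon S).obj V ⟶ X) (hψ : AlgSp.RepWith @Etale ψ) :
    (AlgSp.Points.ofPt ψ ⁻¹' {x}).Finite := by
  refine finite_of_locally fun v => ?_
  obtain ⟨i, u, hu⟩ := hsurj (Points.ofPt ψ v)
  obtain ⟨R, p, q, sq, hq⟩ := exists_pullback_of_repWith (hφ i) ψ
  have hp : Etale p.left := hψ.2 _ _ _ sq.flip
  obtain ⟨r, hr1, hr2⟩ := exists_point_of_isPullback sq u v hu
  obtain ⟨A, huA, -, hA⟩ := exists_affine_openChart u ⊤ trivial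
  obtain ⟨W, hrW, hWA, hW⟩ := exists_affine_openChart r (p.left ⁻¹ᵁ A) (show p.left r ∈ A by rw [hr1]; exact huA)
  refine ⟨q.left '' (W : Set ↥R.left), (q.left.isOpenMap _ W.2).mem_nhds ⟨r, hrW, hr2⟩, ?_⟩
  -- the étale map of affines
  let g : (W : Scheme.{u}) ⟶ (A : Scheme.{u}) := p.left.resLE A W hWA
  have hg : Etale g := inferInstance
  have hAa : IsAffine (A : Scheme.{u}) := hA
  have hWa : IsAffine (W : Scheme.{u}) := hW
  have h1 : ((fun a : ↥A => (a : ↥(U i).left)) ⁻¹' (Points.ofPt (φ i) ⁻¹' {x})).Finite :=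
    (hfin i).preimage (Subtype.val_injective.injOn)
  have h2 := finite_preimage_affine g h1
  refine ((h2.image (fun w : ↥W => q.left w.1))).subset ?_
  rintro _ ⟨hv, w, hw, rfl⟩
  refine ⟨⟨w, hw⟩, ?_, rfl⟩
  change Points.ofPt (φ i) (g ⟨w, hw⟩).1 = x
  have h3 : (g ⟨w, hw⟩).1 = p.left w := by
    have h4 := congrArg (fun f => f.base ⟨w, hw⟩) (p.left.resLE_comp_ι hWA)
    exact h4
  rw [h3, ofPt_eq_of_isPullback sq.toCommSq]
  exact hv

end K619.FinFib
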