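import Groth.Agent.AlgSp.K617.Strat
import Groth.Agent.AlgSp.K630.ESEtale
import Groth.Agent.AlgSp.K609.Sep

/-!
# Uniform bounds for the number of geometric points in the fibres of a quasi-compact étale morphism

* `exists_bdd`, `exists_GE_eq_empty` : an étale morphism of schemes with quasi-compact source has boundedly many
  geometric points in its fibres.
* `exists_GEX_eq_empty` : the same for an étale surjective chart `h_U ⟶ X` of a quasi-separated algebraic space with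
  `U` quasi-compact.
-/

set_option autoImplicit false
universe u
open CategoryTheory CategoryTheory.Limits AlgebraicGeometry Opposite AlgSp

namespace K619.GEBound

open K617.EtFin K617.Strat K630.ES

/-- Locally on the source an étale morphism has bounded fibres. -/
theorem exists_local {V Z : Scheme.{u}} (g : V ⟶ Z) [Etale g] (x : V) :
    ∃ (W : Scheme.{u}) (j : W ⟶ V) (N : ℕ), IsOpenImmersion j ∧ Bdd (j ≫ g) N ∧ x ∈ Set.range j := by
  obtain ⟨_, ⟨Z0, hZ0, rfl⟩, hz, -⟩ := Z.isBasis_affineOpens.exists_subset_of_mem_open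
    (Set.mem_univ (g x)) isOpen_univ
  obtain ⟨_, ⟨V0, hV0, rfl⟩, hv, hV⟩ := V.isBasis_affineOpens.exists_subset_of_mem_open
    (show x ∈ g ⁻¹ᵁ Z0 from hz) (g ⁻¹ᵁ Z0).isOpen
  have hV' : V0 ≤ g ⁻¹ᵁ Z0 := hV
  have het := g.etale_appLE hZ0 hV0 hV'
  algebraize [(g.appLE Z0 V0 hV').hom]
  let y := hV0.primeIdealOf ⟨x, hv⟩
  obtain ⟨r, hr, hst⟩ := Algebra.IsEtaleAt.exists_isStandardEtale (R := Γ(Z, Z0)) y.asIdeal
  obtain ⟨N, hN⟩ := bdd_of_isStandardEtale Γ(Z, Z0) (Localization.Away r)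
  have hfac : (Spec.map (CommRingCat.ofHom (algebraMap Γ(V, V0) (Localization.Away r))) ≫ hV0.fromSpec) ≫ g =
      Spec.map (CommRingCat.ofHom (algebraMap Γ(Z, Z0) (Localization.Away r))) ≫ hZ0.fromSpec := by
    have h1 : CommRingCat.ofHom (algebraMap Γ(Z, Z0) (Localization.Away r)) =
        g.appLE Z0 V0 hV' ≫
          CommRingCat.ofHom (algebraMap Γ(V, V0) (Localization.Away r)) := by
      ext1
      exact IsScalarTower.algebraMap_eq _ _ _
    rw [h1, Spec.map_comp, Category.assoc, Category.assoc,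
      IsAffineOpen.SpecMap_appLE_fromSpec g hZ0 hV0 hV']
  refine ⟨Spec (.of (Localization.Away r)),
    Spec.map (CommRingCat.ofHom (algebraMap Γ(V, V0) (Localization.Away r))) ≫ hV0.fromSpec, N,
    inferInstance, ?_, ?_⟩
  · intro K _ ι _ s t hs hι
    rw [hfac] at hs
    obtain ⟨i⟩ : Nonempty ι := Fintype.card_pos_iff.1 (by omega)
    refine hN K ι s (s i ≫ Spec.map (CommRingCat.ofHom (algebraMap Γ(Z, Z0) (Localization.Away r)))) (fun j => ?_) hι
    rw [← cancel_mono hZ0.fromSpec, Category.assoc, Category.assoc, hs, hs]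
  · have h1 : y ∈ PrimeSpectrum.basicOpen r := hr
    rw [← SetLike.mem_coe, ← PrimeSpectrum.localization_away_comap_range (Localization.Away r) r]
      at h1
    obtain ⟨w, hw⟩ := h1
    refine ⟨w, ?_⟩
    rw [Scheme.Hom.comp_apply]
    have : Spec.map (CommRingCat.ofHom (algebraMap Γ(V, V0) (Localization.Away r))) w = y := hw
    rw [this]
    exact hV0.fromSpec_primeIdealOf ⟨x, hv⟩

/-- Bounds add up along a finite open cover of the source. -/
theorem bdd_of_cover {V Z : Scheme.{u}} (g : V ⟶ Z) {κ : Type u} [Fintype κ] (W : κ → Scheme.{u})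
    (j : ∀ k, W k ⟶ V) (hj : ∀ k, IsOpenImmersion (j k)) (N : κ → ℕ) (hN : ∀ k, Bdd (j k ≫ g) (N k))
    (hc : ∀ x : V, ∃ k, x ∈ Set.range (j k)) : Bdd g (∑ k, N k) := by
  classical
  intro K _ ι _ s t hs hι
  choose k hk using fun i : ι => hc (s i (pt K))
  have hlift : ∀ i, Set.range (s i) ⊆ Set.range (j (k i)) := by
    rintro i _ ⟨y, rfl⟩
    rw [Spec_field_eq y (pt K)]
    exact hk i
  let s' : ∀ i, Spec (.of K) ⟶ W (k i) := fun i => IsOpenImmersion.lift (j (k i)) (s i) (hlift i)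
  have hs' : ∀ i, s' i ≫ j (k i) = s i := fun i => IsOpenImmersion.lift_fac _ _ _
  obtain ⟨k₀, hk₀⟩ : ∃ k₀, N k₀ < Fintype.card {i // k i = k₀} := by
    by_contra hc
    push Not at hc
    have h1 : Fintype.card ι = ∑ k₀, Fintype.card {i // k i = k₀} := by
      rw [← Fintype.card_sigma]
      exact Fintype.card_congr (Equiv.sigmaFiberEquiv k).symm
    have h2 : ∑ k₀, Fintype.card {i // k i = k₀} ≤ ∑ k₀, N k₀ := Finset.sum_le_sum fun k₀ _ => hc k₀
    omega
  obtain ⟨i, i', hne, he⟩ := hN k₀ K {i // k i = k₀}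
    (fun i => s' i.1 ≫ eqToHom (by rw [i.2])) t (fun i => by
      obtain ⟨i, rfl⟩ := i
      rw [eqToHom_refl, Category.comp_id, ← Category.assoc, hs', hs]) hk₀
  refine ⟨i.1, i'.1, fun h => hne (Subtype.ext h), ?_⟩
  have h1 : ∀ i : {i // k i = k₀}, (s' i.1 ≫ eqToHom (by rw [i.2])) ≫ j k₀ = s i.1 := by
    rintro ⟨i, rfl⟩
    rw [eqToHom_refl, Category.comp_id, hs']
  rw [← h1 i, ← h1 i', he]

theorem exists_bdd {V Z : Scheme.{u}} (g : V ⟶ Z) [Etale g] [CompactSpace V] : ∃ N, Bdd g N := by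
  choose W j N hj hN hx using fun x : V => exists_local g x
  obtain ⟨t, ht⟩ := CompactSpace.elim_nhds_subcover (fun x : V => Set.range (j x))
    (fun x => (j x).isOpenEmbedding.isOpen_range.mem_nhds (hx x))
  refine ⟨_, bdd_of_cover g (fun x : t => W x) (fun x => j x) (fun x => hj x) (fun x => N x) (fun x => hN x) ?_⟩
  intro y
  have hy : y ∈ ⋃ x ∈ t, Set.range (j x) := by rw [ht]; trivial
  simp only [Set.mem_iUnion] at hy
  obtain ⟨x, hxt, hyx⟩ := hy
  exact ⟨⟨x, hxt⟩, hyx⟩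

theorem GE_eq_empty_of_bdd {V Z : Scheme.{u}} {g : V ⟶ Z} {N : ℕ} (h : Bdd g N) : GE g (N + 1) = ∅ := by
  refine Set.eq_empty_of_forall_notMem ?_
  rintro t ⟨Ω, _, τ, σ, -, hσ, hf⟩
  obtain ⟨i, j, hij, he⟩ := h Ω (ULift.{u} (Fin (N + 1))) (fun i => σ i.down) τ (fun i => hf _) (by simp)
  exact hij (ULift.down_injective (hσ he))

theorem exists_GE_eq_empty {V Z : Scheme.{u}} (g : V ⟶ Z) [Etale g] [CompactSpace V] : ∃ N, GE g N = ∅ := by
  obtain ⟨N, hN⟩ := exists_bdd g
  exact ⟨N + 1, GE_eq_empty_of_bdd hN⟩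

variable {S : Scheme.{u}}

theorem exists_GEX_eq_empty [QuasiSeparatedSpace ↥S] {X : Sp S} (hX : IsAlgSpace X) (hqs : IsQuasiSeparatedSp X)
    {U : Over S} [CompactSpace ↥U.left] {a : (yon S).obj U ⟶ X} (ha : RepWith @Etale a)
    (hs : RepWith @Surjective a) : ∃ N, GEX a N = ∅ := by
  obtain ⟨R, p, q, sq⟩ := K609.Sep.exists_isPullback_yon hX.diag a a
  have : CompactSpace ↥R.left := K609.Sep.compactSpace_pullback hqs sq
  have : Etale q.left := ha.2 _ _ _ sq
  obtain ⟨N, hN⟩ := exists_GE_eq_empty q.left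
  refine ⟨N, Set.eq_empty_of_forall_notMem fun x hx => ?_⟩
  obtain ⟨t, rfl⟩ := K610.Base.surjective_ofPt hs x
  have h1 := preimage_GEX sq N
  rw [hN] at h1
  exact Set.eq_empty_iff_forall_notMem.1 h1 t hx

end K619.GEBound
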