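import Groth.Agent.AlgSp.K617.Strat
import Groth.Agent.AlgSp.K610.Factor
import Groth.Agent.AlgSp.K610.OpenImm

/-!
# The number of geometric points in fibres: elementary operations on charts

* `map_mem_GEX` : pullback of a chart,
* `map_mem_GEX_of_mono` : composition with a monomorphism,
* `mem_GEX_succ` : splitting off a section over an open subspace.
-/

set_option autoImplicit false
universe u
open CategoryTheory CategoryTheory.Limits AlgebraicGeometry Opposite AlgSp

namespace K619.GEStep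

open K617.EtFin K617.Strat

variable {S : Scheme.{u}} {X Y : Sp S}

theorem map_mem_GEX {U P : Over S} {a : (yon S).obj U ⟶ X} {ν : Y ⟶ X} {p : P ⟶ U} {q : (yon S).obj P ⟶ Y}
    (sq : IsPullback ((yon S).map p) q a ν) {n : ℕ} {y : Points Y} (h : y ∈ GEX q n) :
    Points.map ν y ∈ GEX a n := by
  obtain ⟨Ω, _, str, ξ, σ, hξ, hσ, hf⟩ := h
  refine ⟨Ω, inferInstance, str, ξ ≫ ν, fun i => σ i ≫ p, fun t => ?_, fun i j hij => hσ ?_, fun i => ?_⟩
  · rw [K610.Base.ofPt_comp, hξ]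
  · apply (yon S).map_injective
    apply sq.hom_ext
    · rw [← Functor.map_comp, ← Functor.map_comp]
      exact congrArg _ hij
    · rw [hf, hf]
  · rw [Functor.map_comp, Category.assoc, sq.w, ← Category.assoc, hf]

theorem map_mem_GEX_comp {U : Over S} {a : (yon S).obj U ⟶ Y} {i : Y ⟶ X} {n : ℕ} {y : Points Y}
    (h : y ∈ GEX a n) : Points.map i y ∈ GEX (a ≫ i) n := by
  obtain ⟨Ω, _, str, ξ, σ, hξ, hσ, hf⟩ := h
  refine ⟨Ω, inferInstance, str, ξ ≫ i, σ, fun t => ?_, hσ, fun k => ?_⟩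
  · rw [K610.Base.ofPt_comp, hξ]
  · rw [← Category.assoc, hf]

/-- A point of the open subspace `j = γ ≫ q : h_U ⟶ Y` with `n` lifts to the part `W` of `P` disjoint from the
section `γ` has `n + 1` lifts to `P`. -/
theorem mem_GEX_succ {U P W : Over S} {q : (yon S).obj P ⟶ Y} (γ : U ⟶ P) (w : W ⟶ P) [Mono w]
    (hd : Disjoint (Set.range γ.left) (Set.range w.left))
    (hj : RepWith @IsOpenImmersion ((yon S).map γ ≫ q)) {n : ℕ} {y : Points Y}
    (h : y ∈ GEX ((yon S).map w ≫ q) n) (hy : y ∈ Set.range (Points.ofPt ((yon S).map γ ≫ q))) :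
    y ∈ GEX q (n + 1) := by
  obtain ⟨Ω, _, str, ξ, σ, hξ, hσ, hf⟩ := h
  obtain ⟨υ', hυ'⟩ := K610.Factor.exists_lift_open hj ξ (by
    rintro _ ⟨t, rfl⟩
    rw [hξ]
    obtain ⟨t', rfl⟩ := hy
    exact ⟨Points.ofScheme U t', (Points.ofPt_eq_map_ofScheme _ t').symm⟩)
  obtain ⟨υ, rfl⟩ := (yon S).map_surjective υ'
  refine ⟨Ω, inferInstance, str, ξ, Fin.cons (υ ≫ γ) (fun i => σ i ≫ w), hξ, ?_, fun i => ?_⟩
  · rw [Fin.cons_injective_iff]
    constructor
    · rintro ⟨i, hi⟩
      replace hi : σ i ≫ w = υ ≫ γ := hi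
      have h1 : (υ ≫ γ).left (pt Ω) = (σ i ≫ w).left (pt Ω) := by rw [hi]
      have h2 : (υ ≫ γ).left (pt Ω) ∈ Set.range γ.left :=
        ⟨υ.left (pt Ω), (Scheme.Hom.comp_apply _ _ _).symm⟩
      have h3 : (υ ≫ γ).left (pt Ω) ∈ Set.range w.left := by
        rw [h1]
        exact ⟨(σ i).left (pt Ω), (Scheme.Hom.comp_apply _ _ _).symm⟩
      exact (Set.disjoint_left.1 hd h2 h3).elim
    · intro i j hij
      apply hσ
      rw [← cancel_mono w]
      exact hij
  · refine Fin.cases ?_ (fun i => ?_) i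
    · rw [Fin.cons_zero, Functor.map_comp, Category.assoc, hυ']
    · rw [Fin.cons_succ, Functor.map_comp, Category.assoc, hf]

end K619.GEStep
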