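import Groth.Agent.AlgSp.K636.Decomp
import Groth.Agent.AlgSp.K617.FinLoc
import Groth.Agent.AlgSp.K596.Univ
import Mathlib.AlgebraicGeometry.Morphisms.Integral

/-!
# Integral morphisms from a coproduct of two schemes
-/

set_option autoImplicit false
universe u
open CategoryTheory CategoryTheory.Limits AlgebraicGeometry Opposite AlgSp

namespace K619.IntSum

open K636.Decomp

theorem isIntegralHom_of_isCompl {A B V T : Scheme.{u}} (i : A ⟶ V) (j : B ⟶ V) [IsOpenImmersion i]
    [IsOpenImmersion j] (h : IsCompl i.opensRange j.opensRange) (f : V ⟶ T) [h1 : IsIntegralHom (i ≫ f)]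
    [h2 : IsIntegralHom (j ≫ f)] : IsIntegralHom f := by
  obtain ⟨hc⟩ := nonempty_isColimit_binaryCofanMk_of_isCompl i j h
  let e : (A ⨿ B) ≅ V := (coprodIsCoprod A B).coconePointUniqueUpToIso hc
  have he1 : coprod.inl ≫ e.hom = i :=
    IsColimit.comp_coconePointUniqueUpToIso_hom (coprodIsCoprod A B) hc ⟨WalkingPair.left⟩
  have he2 : coprod.inr ≫ e.hom = j :=
    IsColimit.comp_coconePointUniqueUpToIso_hom (coprodIsCoprod A B) hc ⟨WalkingPair.right⟩
  have e3 : coprod.desc (i ≫ f) (j ≫ f) = e.hom ≫ f := by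
    apply coprod.hom_ext
    · rw [coprod.inl_desc, ← Category.assoc, he1]
    · rw [coprod.inr_desc, ← Category.assoc, he2]
  have h3 : IsIntegralHom (coprod.desc (i ≫ f) (j ≫ f)) := inferInstance
  rw [e3] at h3
  exact (MorphismProperty.cancel_left_of_respectsIso @IsIntegralHom e.hom f).1 h3

theorem isIntegralHom_of_pullback {A B C V T : Scheme.{u}} (i : A ⟶ C) (j : B ⟶ C) [IsOpenImmersion i]
    [IsOpenImmersion j] (h : IsCompl i.opensRange j.opensRange) (φ : V ⟶ C) (f : V ⟶ T)
    [h1 : IsIntegralHom (pullback.snd i φ ≫ f)] [h2 : IsIntegralHom (pullback.snd j φ ≫ f)] : IsIntegralHom f := by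
  refine isIntegralHom_of_isCompl (pullback.snd i φ) (pullback.snd j φ) ?_ f
  rw [Scheme.Hom.opensRange_pullbackSnd, Scheme.Hom.opensRange_pullbackSnd]
  constructor
  · rw [disjoint_iff, ← Scheme.Hom.preimage_inf, h.inf_eq_bot]
    rfl
  · rw [codisjoint_iff, ← Scheme.Hom.preimage_sup, h.sup_eq_top]
    rfl

variable {S : Scheme.{u}}

theorem repWith_of_cop {X : Sp S} (hX : IsAlgSpace X) {A B : Over S} (g : (yon S).obj (cop A B) ⟶ X)
    (hA : RepWith @IsIntegralHom ((yon S).map (copl A B) ≫ g))
    (hB : RepWith @IsIntegralHom ((yon S).map (copr A B) ≫ g)) : RepWith @IsIntegralHom g := by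
  refine ⟨Functor.relativelyRepresentable.of_diag hX.diag g, fun T V t fst snd sq => ?_⟩
  obtain ⟨φ, rfl⟩ := (yon S).map_surjective fst
  have key : ∀ (A' : Over S) (a : A' ⟶ cop A B) (ha : RepWith @IsIntegralHom ((yon S).map a ≫ g)),
      IsIntegralHom (pullback.snd a.left φ.left ≫ snd.left) := by
    intro A' a ha
    let P : Over S := Over.mk (pullback.snd a.left φ.left ≫ V.hom)
    let p : P ⟶ A' := Over.homMk (pullback.fst a.left φ.left) (by
      change pullback.fst a.left φ.left ≫ A'.hom = pullback.snd a.left φ.left ≫ V.hom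
      rw [← Over.w a, ← Category.assoc, pullback.condition, Category.assoc, Over.w φ])
    let q : P ⟶ V := Over.homMk (pullback.snd a.left φ.left) rfl
    have sq1 : IsPullback p q a φ := K596.Univ.isPullback_over (Over.OverMorphism.ext pullback.condition)
      (IsPullback.of_hasPullback a.left φ.left)
    have sq2 := (sq1.map (yon S)).flip.paste_horiz sq.flip
    rw [← Functor.map_comp] at sq2
    exact ha.2 _ _ _ sq2.flip
  have hl := key A (copl A B) hA
  have hr := key B (copr A B) hB
  have h1 : IsOpenImmersion (copl A B).left := inferInstanceAs (IsOpenImmersion (coprod.inl : A.left ⟶ A.left ⨿ B.left))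
  have h2 : IsOpenImmersion (copr A B).left := inferInstanceAs (IsOpenImmersion (coprod.inr : B.left ⟶ A.left ⨿ B.left))
  exact isIntegralHom_of_pullback (copl A B).left (copr A B).left (isCompl_opensRange_inl_inr A.left B.left)
    φ.left snd.left

/-- Glueing two integral morphisms from schemes along their coproduct. -/
theorem exists_cop {X : Sp S} (hX : IsAlgSpace X) {A B : Over S} {gA : (yon S).obj A ⟶ X}
    {gB : (yon S).obj B ⟶ X} (hA : RepWith @IsIntegralHom gA) (hB : RepWith @IsIntegralHom gB) :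
    ∃ g : (yon S).obj (cop A B) ⟶ X, (yon S).map (copl A B) ≫ g = gA ∧ (yon S).map (copr A B) ≫ g = gB ∧
      RepWith @IsIntegralHom g := by
  obtain ⟨g, h1, h2⟩ := (isDecomp_cop A B).exists_desc gA gB
  exact ⟨g, h1, h2, repWith_of_cop hX g (by rwa [h1]) (by rwa [h2])⟩

end K619.IntSum
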