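import Groth.Agent.S9964
import Groth.Agent.S9965
import Groth.Agent.AlgSp.K616.Norm

/-!
# A relative normalization is dominant on points
-/

set_option autoImplicit false
universe u
open CategoryTheory CategoryTheory.Limits AlgebraicGeometry Opposite AlgSp

namespace K619.RelDens

variable {S : Scheme.{u}}

/-- The map to the relative normalization is dominant when it is quasi-compact. -/
theorem closure_range_eq_univ {Y X X' : Space S} (f : Y ⟶ X) (ν : X' ⟶ X) (f' : Y ⟶ X')
    (hn : IsRelNormalization f.hom ν.hom f'.hom) (hq : IsQuasiCompactMor f'.hom) :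
    closure (Set.range (Points.map f'.hom)) = Set.univ := by
  obtain ⟨hfν, hν, huniv⟩ := hn
  obtain ⟨Z, i, hi⟩ := Groth.Agent.S9964.result f'
  obtain ⟨g, hg⟩ := hi.2.1
  have hint : IsIntegralMor (i.hom ≫ ν.hom) := K616.Norm.isIntegralMor_comp_closed hi.1 hν
  obtain ⟨h, ⟨h1, h2⟩, -⟩ := huniv Z.property (i.hom ≫ ν.hom) g hint (by
    rw [← Category.assoc, hg, hfν])
  have h3 : h ≫ i.hom = 𝟙 _ := by
    obtain ⟨k, -, hk⟩ := huniv X'.property ν.hom f'.hom hν hfν
    refine (hk (h ≫ i.hom) ⟨?_, ?_⟩).trans (hk (𝟙 _) ⟨Category.comp_id _, Category.id_comp _⟩).symm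
    · rw [← Category.assoc, h1, hg]
    · rw [Category.assoc, h2]
  have h4 := (Groth.Agent.S9965.result f' i hq hi).2
  refine Set.univ_subset_iff.1 (fun x _ => h4 ⟨Points.map h x, ?_⟩)
  rw [← Points.map_comp, h3, Points.map_id]

end K619.RelDens
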