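import Groth.Agent.AlgSp.K613.Diag
import Groth.Agent.AlgSp.K610.OpenImm
import Groth.Agent.AlgSp.K617.FinLoc

/-!
# Splitting off a section of the pullback of an integral morphism to an étale chart
-/

set_option autoImplicit false
universe u
open CategoryTheory CategoryTheory.Limits AlgebraicGeometry Opposite AlgSp

namespace K619.SplitOff

variable {S : Scheme.{u}}

/-- `a : h_U ⟶ X` étale and surjective with `U` affine, `ν : Y ⟶ X` integral and `j : h_U ⟶ Y` an open immersion over
`X`: the pullback `P` of `Y` to `U` is affine and `U ⟶ P` is a clopen immersion, with affine complement `W`. -/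
theorem exists_split {X Y : Sp S} {U : Over S} (hU : IsAffine U.left) {a : (yon S).obj U ⟶ X}
    (ha : RepWith @Etale a) (has : RepWith @Surjective a) {ν : Y ⟶ X} (hν : IsIntegralMor ν)
    {j : (yon S).obj U ⟶ Y} (hjν : j ≫ ν = a) (hj : RepWith @IsOpenImmersion j) :
    ∃ (P W : Over S) (p : P ⟶ U) (q : (yon S).obj P ⟶ Y) (γ : U ⟶ P) (w : W ⟶ P),
      IsPullback ((yon S).map p) q a ν ∧ RepWith @Etale q ∧ RepWith @Surjective q ∧
      (yon S).map γ ≫ q = j ∧ IsOpenImmersion w.left ∧ IsAffine W.left ∧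
      Disjoint (Set.range γ.left) (Set.range w.left) ∧ (∀ x : P.left, x ∈ Set.range γ.left ∨ x ∈ Set.range w.left) := by
  obtain ⟨P, p, q, sq, hP, hp⟩ := hν hU a
  have hq : RepWith @Etale q := MorphismProperty.of_isPullback (P := RepWith @Etale) sq.flip ha
  have hqs : RepWith @Surjective q := MorphismProperty.of_isPullback (P := RepWith @Surjective) sq.flip has
  obtain ⟨γ, hγ⟩ := (yon S).map_surjective (sq.lift j (𝟙 _) (by rw [hjν, Category.id_comp]))
  have hγ1 : (yon S).map γ ≫ q = j := by rw [hγ, sq.lift_fst]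
  have hγ2 : γ ≫ p = 𝟙 U := (yon S).map_injective (by
    rw [Functor.map_comp, hγ, sq.lift_snd, CategoryTheory.Functor.map_id])
  have he : Etale γ.left := K613.Diag.etale_of_comp γ hq (K610.OpenImm.repWith_etale_of_open hj) hγ1
  have hc : IsClosedImmersion γ.left := by
    have h1 : γ.left ≫ p.left = 𝟙 _ := congrArg CommaMorphism.left hγ2
    have : IsClosedImmersion (γ.left ≫ p.left) := by rw [h1]; infer_instance
    exact IsClosedImmersion.of_comp γ.left p.left
  let O : P.left.Opens := ⟨(Set.range γ.left)ᶜ, γ.left.isClosedEmbedding.isClosed_range.isOpen_compl⟩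
  have hOc : IsClosed (O : Set P.left) := by
    rw [← isOpen_compl_iff]
    change IsOpen (Set.range γ.left)ᶜᶜ
    rw [compl_compl]
    exact γ.left.isOpenMap.isOpen_range
  have hOi : IsClosedImmersion O.ι := .of_isPreimmersion _ (by rw [Scheme.Opens.range_ι]; exact hOc)
  have hOa : IsAffine (O : Scheme.{u}) := isAffine_of_isAffineHom O.ι
  have hr : Set.range (Over.homMk O.ι rfl : Over.mk (O.ι ≫ P.hom) ⟶ P).left = (Set.range γ.left)ᶜ :=
    Scheme.Opens.range_ι O
  refine ⟨P, Over.mk (O.ι ≫ P.hom), p, q, γ, Over.homMk O.ι rfl, sq.flip, hq, hqs, hγ1,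
    inferInstanceAs (IsOpenImmersion O.ι), hOa, ?_, fun x => ?_⟩
  · rw [hr]
    exact disjoint_compl_right
  · rw [hr]
    exact em _

end K619.SplitOff
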