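import Groth.Agent.AlgSp.K619.GEBound
import Groth.Agent.AlgSp.K619.GEStep
import Groth.Agent.AlgSp.K619.RelDens
import Groth.Agent.AlgSp.K619.ExtInt
import Groth.Agent.AlgSp.K619.IntSum
import Groth.Agent.AlgSp.K619.ClosedIn
import Groth.Agent.AlgSp.K619.SplitOff
import Groth.Agent.AlgSp.K611.ZarCover
import Groth.Agent.AlgSp.K605.ImmMain
import Groth.Agent.AlgSp.K597.LocP
import Groth.Agent.S10300

/-!
# Integral surjective covers of quasi-compact quasi-separated algebraic spaces by schemes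

* `cov_of_GEX` : the induction on the number of geometric points in the fibres of an affine étale chart.
* `exists_cov` : every affine étale surjective chart `a : h_U ⟶ X` of a quasi-separated algebraic space has an
  integral surjective `g : h_Y ⟶ X` from a scheme factoring through `a` Zariski locally on `Y`.
-/

set_option autoImplicit false
universe u
open CategoryTheory CategoryTheory.Limits AlgebraicGeometry Opposite AlgSp

namespace K619.IntCover

open K617.EtFin K617.Strat

variable {S : Scheme.{u}}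

/-- Zariski locally on `Y` the map `g` factors through `a`. -/
def LF {X : Sp S} {U Y : Over S} (a : (yon S).obj U ⟶ X) (g : (yon S).obj Y ⟶ X) : Prop :=
  ∀ y : ↥Y.left, ∃ (V : Over S) (v : V ⟶ Y) (c : V ⟶ U), IsOpenImmersion v.left ∧ y ∈ Set.range v.left ∧
    (yon S).map c ≫ a = (yon S).map v ≫ g

/-- There is an integral surjective map from a scheme which factors Zariski locally through `a`. -/
def Cov {X : Sp S} {U : Over S} (a : (yon S).obj U ⟶ X) : Prop :=
  ∃ (Y : Over S) (g : (yon S).obj Y ⟶ X), RepWith @IsIntegralHom g ∧ RepWith @Surjective g ∧ LF a g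

theorem cov_of_GEX_one {X : Sp S} {U : Over S} {a : (yon S).obj U ⟶ X} (ha : RepWith @Etale a)
    (has : RepWith @Surjective a) (hG : GEX a 1 = ∅) : Cov a := by
  have h1 : ∀ x : Points X, False := fun x => by
    rw [GEX_one a ha.1] at hG
    obtain ⟨u, rfl⟩ := K610.Base.surjective_ofPt has x
    exact Set.eq_empty_iff_forall_notMem.1 hG _ ⟨u, rfl⟩
  refine ⟨U, a, ⟨ha.1, fun T V g fst snd sq => ?_⟩, has, fun y => (h1 (Points.ofPt a y)).elim⟩
  have h2 : IsEmpty ↥T.left := ⟨fun t => h1 (Points.ofPt g t)⟩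
  have h3 : IsIso snd.left := isIso_of_isEmpty _
  change IsIntegralHom snd.left
  infer_instance

theorem isQuasiSeparatedSp_of_open {V Y : Sp S} {i : V ⟶ Y} (hi : RepWith @IsOpenImmersion i)
    (hY : IsQuasiSeparatedSp Y) : IsQuasiSeparatedSp V :=
  K605.ImmMain.isQuasiSeparatedSp_of_mor (f := i) ((K595.DiagBasic.isQuasiSeparatedMor_iff_repWith hi.1).2
    (K610.Base.repWith_mono (fun _ _ f (_ : IsOpenImmersion f) => (inferInstance : QuasiSeparated f)) hi)) hY

/-- The normalization of `X` in an affine étale chart. -/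
theorem exists_norm [QuasiSeparatedSpace ↥S] {X : Sp S} {U : Over S} {a : (yon S).obj U ⟶ X} (hX : IsAlgSpace X)
    (hqs : IsQuasiSeparatedSp X) (hU : IsAffine U.left) (ha : RepWith @Etale a) :
    ∃ (Y : Sp S) (ν : Y ⟶ X) (j : (yon S).obj U ⟶ Y), IsAlgSpace Y ∧ IsIntegralMor ν ∧ j ≫ ν = a ∧
      RepWith @IsOpenImmersion j ∧ closure (Set.range (Points.map j)) = Set.univ := by
  have hsep : RepWith @IsSeparated a := K609.Sep.repWith_isSeparated ha.1
  have hqc : IsQuasiCompactMor a := K596.QC2.isQuasiCompactMor_of_qc_of_qs (IsAlgSpace.yon_obj U) hX a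
    (K596.QC.isQuasiCompactSp_yon U) hqs
  have hqsa : IsQuasiSeparatedMor a := (K595.DiagBasic.isQuasiSeparatedMor_iff_repWith ha.1).2
    (K610.Base.repWith_mono (fun _ _ f (_ : IsSeparated f) => (inferInstance : QuasiSeparated f)) hsep)
  obtain ⟨Y, ν, j, hY, hun⟩ := K615.RelNorm.exists_uNorm hX hqc hqsa
  have hn := hun.isRel hX
  have hlqf : LocP (@LocallyQuasiFinite ⊓ @LocallyOfFiniteType) a :=
    K597.locP_of_repWith (P := @LocallyQuasiFinite ⊓ @LocallyOfFiniteType) (fun A B C e f he hf => by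
      have h1 : Etale e := he
      have h2 : LocallyQuasiFinite e := locallyQuasiFinite_of_etale e
      have h3 : LocallyQuasiFinite f := hf.1
      have h4 : LocallyOfFiniteType f := hf.2
      exact ⟨(inferInstance : LocallyQuasiFinite (e ≫ f)), (inferInstance : LocallyOfFiniteType (e ≫ f))⟩)
      (K610.Base.repWith_mono (fun _ _ f (_ : Etale f) => ⟨locallyQuasiFinite_of_etale f,
        (inferInstance : LocallyOfFiniteType f)⟩) ha)
  let sU : Space S := ⟨(yon S).obj U, IsAlgSpace.yon_obj U⟩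
  let sX : Space S := ⟨X, hX⟩
  let sY : Space S := ⟨Y, hY⟩
  obtain ⟨h1, h2, -⟩ := Groth.Agent.S10300.result (X := sU) (Y := sX) (Y' := sY) ⟨a⟩ hlqf hqc
    ((K595.DiagBasic.isSeparatedMor_iff_repWith ha.1).2 hsep) ⟨ν⟩ ⟨j⟩ hn
  exact ⟨Y, ν, j, hY, hun.integral, hun.w, h1,
    K619.RelDens.closure_range_eq_univ (Y := sU) (X := sX) (X' := sY) ⟨a⟩ ⟨ν⟩ ⟨j⟩ hn h2⟩

/-- The complement of the section of the pulled back normalization has fewer geometric points in its fibres. -/
theorem GEX_comp_eq_empty {X Y : Sp S} {U P W : Over S} {a : (yon S).obj U ⟶ X} {ν : Y ⟶ X} {p : P ⟶ U}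
    {q : (yon S).obj P ⟶ Y} (γ : U ⟶ P) (w : W ⟶ P) (sq : IsPullback ((yon S).map p) q a ν)
    (hq : RepWith @Etale q) (hU : IsAffine U.left) (ha : RepWith @Etale a)
    (hj : RepWith @IsOpenImmersion ((yon S).map γ ≫ q))
    (hd : closure (Set.range (Points.map ((yon S).map γ ≫ q))) = Set.univ) (hw : IsOpenImmersion w.left)
    (hdis : Disjoint (Set.range γ.left) (Set.range w.left)) {n : ℕ} (hG : GEX a (n + 1) = ∅) :
    GEX ((yon S).map w ≫ q) n = ∅ := by
  have hmw : Mono w := (Over.forget S).mono_of_mono_map (inferInstanceAs (Mono w.left))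
  have hw' : RepWith @IsOpenImmersion ((yon S).map w) := (repWith_yon_map_iff _ _).2 hw
  have he : RepWith @Etale ((yon S).map w ≫ q) :=
    MorphismProperty.comp_mem _ _ _ (K610.OpenImm.repWith_etale_of_open hw') hq
  have hs : RepWith @IsSeparated ((yon S).map w ≫ q) := by
    refine MorphismProperty.comp_mem (RepWith @IsSeparated) _ _
      (K610.Base.repWith_mono (fun _ _ f (_ : IsOpenImmersion f) => (inferInstance : IsSeparated f)) hw') ?_
    exact MorphismProperty.of_isPullback (P := RepWith @IsSeparated) sq (K609.Sep.repWith_isSeparated ha.1)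
  by_contra hne
  obtain ⟨y, hy⟩ := Set.nonempty_iff_ne_empty.2 hne
  have hy' : y ∈ closure (Set.range (Points.map ((yon S).map γ ≫ q))) := by rw [hd]; trivial
  obtain ⟨y', hy1, hy2⟩ := mem_closure_iff.1 hy' _ (isOpen_GEX _ he hs n) hy
  have h1 := K619.GEStep.mem_GEX_succ γ w hdis hj hy1 (by rw [K610.SchLocus.range_ofPt]; exact hy2)
  have h2 := K619.GEStep.map_mem_GEX sq h1
  rw [hG] at h2
  exact h2

/-- The extended integral space over `Y` is a scheme when it is one over an open `V` and `Y` is covered by `V` and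
an affine open subscheme. -/
theorem isRepresentable_of_cover {Y V Z' : Sp S} {U : Over S} (hU : IsAffine U.left) {j : (yon S).obj U ⟶ Y}
    (hj : RepWith @IsOpenImmersion j) {i : V ⟶ Y} (hi : RepWith @IsOpenImmersion i)
    (hcov : ∀ y : Points Y, y ∈ Set.range (Points.map i) ∨ y ∈ Set.range (Points.map j))
    {μ : Z' ⟶ Y} (hZ' : IsAlgSpace Z') (hμ : IsIntegralMor μ) {Z : Over S} {k : (yon S).obj Z ⟶ Z'}
    {h : (yon S).obj Z ⟶ V} (sq : IsPullback k h μ i) :
    ∃ (H Q : Over S) (e : (yon S).obj H ≅ Z') (k₀ : Z ⟶ H) (f₀ : Q ⟶ H) (r : Q ⟶ U),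
      (yon S).map k₀ ≫ e.hom = k ∧ (yon S).map f₀ ≫ e.hom ≫ μ = (yon S).map r ≫ j ∧
      IsOpenImmersion k₀.left ∧ IsOpenImmersion f₀.left ∧
      ∀ x : ↥H.left, x ∈ Set.range k₀.left ∨ x ∈ Set.range f₀.left := by
  obtain ⟨Q, r, f, sqQ, -, -⟩ := hμ hU j
  have hk : RepWith @IsOpenImmersion k := MorphismProperty.of_isPullback (P := RepWith @IsOpenImmersion) sq.flip hi
  have hf : RepWith @IsOpenImmersion f := MorphismProperty.of_isPullback (P := RepWith @IsOpenImmersion) sqQ.flip hj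
  have hcov' : ∀ z : Points Z', z ∈ Set.range (Points.ofPt k) ∨ z ∈ Set.range (Points.ofPt f) := by
    intro z
    rcases hcov (Points.map μ z) with ⟨v, hv⟩ | ⟨u, hu⟩
    · obtain ⟨x, hx, -⟩ := K610.Base.exists_of_isPullback sq z v hv.symm
      left
      rw [K610.SchLocus.range_ofPt]
      exact ⟨x, hx⟩
    · obtain ⟨x, hx, -⟩ := K610.Base.exists_of_isPullback sqQ z u hu.symm
      right
      rw [K610.SchLocus.range_ofPt]
      exact ⟨x, hx⟩
  have hrep : Z'.obj.IsRepresentable := by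
    refine (K610.SchLocus.isRepresentable_iff_forall (X := (⟨Z', hZ'⟩ : Space S))).2 fun z => ?_
    rcases hcov' z with hz | hz
    · exact ⟨_, ⟨Z, k, hk, rfl⟩, hz⟩
    · exact ⟨_, ⟨Q, f, hf, rfl⟩, hz⟩
  obtain ⟨H, ⟨e⟩⟩ := K610.ZarGlue.isRepresentable_iff.1 hrep
  obtain ⟨k₀, hk₀⟩ := (yon S).map_surjective (k ≫ e.inv)
  obtain ⟨f₀, hf₀⟩ := (yon S).map_surjective (f ≫ e.inv)
  have hee : RepWith @IsOpenImmersion e.inv := K610.SchLocus.repWith_iso e.symm
  refine ⟨H, Q, e, k₀, f₀, r, ?_, ?_, ?_, ?_, fun x => ?_⟩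
  · rw [hk₀, Category.assoc, e.inv_hom_id, Category.comp_id]
  · rw [hf₀, Category.assoc, e.inv_hom_id_assoc, sqQ.w]
  · refine (repWith_yon_map_iff @IsOpenImmersion k₀).1 ?_
    rw [hk₀]
    exact MorphismProperty.comp_mem _ _ _ hk hee
  · refine (repWith_yon_map_iff @IsOpenImmersion f₀).1 ?_
    rw [hf₀]
    exact MorphismProperty.comp_mem _ _ _ hf hee
  · have key : ∀ {A : Over S} (g : (yon S).obj A ⟶ Z') (g₀ : A ⟶ H) (hg : (yon S).map g₀ = g ≫ e.inv),
        Points.ofPt e.hom x ∈ Set.range (Points.ofPt g) → x ∈ Set.range g₀.left := by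
      rintro A g g₀ hg ⟨t, ht⟩
      refine ⟨t, K609.Points.ofScheme_injective _ ?_⟩
      have h1 := congrArg (Points.map e.inv) ht
      rw [Points.map_ofPt, Points.map_ofPt, e.hom_inv_id, ← hg] at h1
      have h2 : ∀ {A : Over S} (g₀ : A ⟶ H) (t : ↥A.left), Points.ofPt ((yon S).map g₀) t =
          Points.ofScheme H (g₀.left t) := fun g₀ t => by
        have := K610.Base.ofPt_map_comp g₀ (𝟙 _) t
        rw [Category.comp_id] at this
        rw [this]
      rw [h2] at h1
      rw [h1]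
    rcases hcov' (Points.ofPt e.hom x) with hx | hx
    · exact Or.inl (key k k₀ hk₀ hx)
    · exact Or.inr (key f f₀ hf₀ hx)

theorem cov_step [QuasiSeparatedSpace ↥S] (n : ℕ)
    (IH : ∀ {V : Sp S} {W : Over S} {w : (yon S).obj W ⟶ V}, IsAlgSpace V → IsQuasiSeparatedSp V →
      IsAffine W.left → RepWith @Etale w → RepWith @Surjective w → GEX w n = ∅ → Cov w)
    {X : Sp S} {U : Over S} {a : (yon S).obj U ⟶ X} (hX : IsAlgSpace X) (hqs : IsQuasiSeparatedSp X)
    (hU : IsAffine U.left) (ha : RepWith @Etale a) (has : RepWith @Surjective a) (hG : GEX a (n + 1) = ∅) :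
    Cov a := by
  obtain ⟨Y, ν, j, hY, hν, hjν, hj, hd⟩ := exists_norm hX hqs hU ha
  obtain ⟨P, W, p, q, γ, w, sq, hq, hqs', hγ, hw, hW, hdis, hcovP⟩ :=
    K619.SplitOff.exists_split hU ha has hν hjν hj
  subst hγ
  have hG' := GEX_comp_eq_empty γ w sq hq hU ha hj hd hw hdis hG
  have hw' : RepWith @IsOpenImmersion ((yon S).map w) := (repWith_yon_map_iff _ _).2 hw
  have hwq : RepWith @Etale ((yon S).map w ≫ q) :=
    MorphismProperty.comp_mem _ _ _ (K610.OpenImm.repWith_etale_of_open hw') hq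
  obtain ⟨V, i, b, hi, hri, hbi, hb, hbs⟩ := K611.exists_image (⟨Y, hY⟩ : Space S) ((yon S).map w ≫ q) hwq
  have hYqs : IsQuasiSeparatedSp Y :=
    K605.ImmMain.isQuasiSeparatedSp_of_mor (K616.Norm.isQuasiSeparatedMor_of_isIntegralMor hν) hqs
  have hVqs : IsQuasiSeparatedSp V.obj := isQuasiSeparatedSp_of_open hi hYqs
  have hGb : GEX b n = ∅ := by
    refine Set.eq_empty_of_forall_notMem fun v hv => ?_
    have h1 := K619.GEStep.map_mem_GEX_comp (i := i.hom) hv
    rw [hbi, hG'] at h1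
    exact h1
  obtain ⟨Z, h, hh, hhs, hLF⟩ := IH V.property hVqs hW hb hbs hGb
  have hVqc : IsQuasiCompactSp V.obj := ⟨W, b, hb, hbs, inferInstance⟩
  have hiq : IsQuasiCompactMor i.hom :=
    K596.QC2.isQuasiCompactMor_of_qc_of_qs V.property hY i.hom hVqc hYqs
  obtain ⟨Z', μ, k, hZ', hμ, sqZ⟩ := K619.ExtInt.exists_ext hY V.property hi hiq
    (K617.FinLoc.isIntegralMor_iff.2 hh)
  -- `Y` is covered by `V` and `U`
  have hcovY : ∀ y : Points Y, y ∈ Set.range (Points.map i.hom) ∨
      y ∈ Set.range (Points.map ((yon S).map γ ≫ q)) := by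
    intro y
    obtain ⟨x, rfl⟩ := K610.Base.surjective_ofPt hqs' y
    rcases hcovP x with ⟨u, rfl⟩ | ⟨x', rfl⟩
    · right
      rw [← K610.SchLocus.range_ofPt]
      exact ⟨u, K610.Base.ofPt_map_comp γ q u⟩
    · left
      rw [hri]
      exact ⟨x', K610.Base.ofPt_map_comp w q x'⟩
  obtain ⟨H, Q, e, k₀, f₀, r, hk₀, hf₀, hk₀o, hf₀o, hcovH⟩ :=
    isRepresentable_of_cover hU hj hi hcovY hZ' hμ sqZ
  -- the closed complement of `V`
  obtain ⟨T, c, hc, hrc⟩ := K619.ClosedIn.exists_scheme hY hj (Set.range (Points.map i.hom))ᶜ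
    (by
      rw [isClosed_compl_iff, hri]
      exact (K610.Base.isOpenMap_ofPt_etale hwq).isOpen_range)
    (fun y hy => by
      rw [K610.SchLocus.range_ofPt]
      exact (hcovY y).resolve_left hy)
  have hνr : RepWith @IsIntegralHom ν := K617.FinLoc.isIntegralMor_iff.1 hν
  have hA : RepWith @IsIntegralHom (e.hom ≫ μ ≫ ν) :=
    MorphismProperty.comp_mem _ _ _ (MorphismProperty.of_isIso (P := RepWith @IsIntegralHom) _)
      (MorphismProperty.comp_mem _ _ _ (K617.FinLoc.isIntegralMor_iff.1 hμ) hνr)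
  have hB : RepWith @IsIntegralHom (((yon S).map c ≫ (yon S).map γ ≫ q) ≫ ν) :=
    MorphismProperty.comp_mem _ _ _ (K610.Base.repWith_mono (fun _ _ f (_ : IsClosedImmersion f) =>
      (inferInstance : IsIntegralHom f)) hc) hνr
  obtain ⟨g, hg1, hg2, hg⟩ := K619.IntSum.exists_cop hX hA hB
  refine ⟨_, g, hg, ?_, ?_⟩
  · rw [K610.Base.repWith_surjective_iff hg.1]
    intro x
    obtain ⟨u, rfl⟩ := K610.Base.surjective_ofPt has x
    have h1 : Points.ofPt a u = Points.map ν (Points.ofPt ((yon S).map γ ≫ q) u) := by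
      rw [← K610.Base.ofPt_comp, hjν]
    rw [h1]
    generalize Points.ofPt ((yon S).map γ ≫ q) u = y
    by_cases hy : y ∈ Set.range (Points.map i.hom)
    · obtain ⟨v, rfl⟩ := hy
      obtain ⟨z, rfl⟩ := K610.Base.surjective_ofPt hhs v
      refine ⟨Points.ofPt ((yon S).map (K636.Decomp.copl H T)) (k₀.left z), ?_⟩
      rw [Points.map_ofPt, hg1, ← K610.Base.ofPt_map_comp k₀, ← Category.assoc, hk₀, ← Category.assoc,
        sqZ.w, Category.assoc]
      rfl
    · have hy' : y ∈ (Set.range (Points.map i.hom))ᶜ := hy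
      rw [← hrc] at hy'
      obtain ⟨t, rfl⟩ := hy'
      refine ⟨Points.ofPt ((yon S).map (K636.Decomp.copr H T)) t, ?_⟩
      rw [Points.map_ofPt, hg2, K610.Base.ofPt_comp]
  · intro y
    have hcov : y ∈ Set.range (K636.Decomp.copl H T).left ∨ y ∈ Set.range (K636.Decomp.copr H T).left :=
      (isCompl_range_inl_inr H.left T.left).codisjoint.top_le (Set.mem_univ y)
    have ol : IsOpenImmersion (K636.Decomp.copl H T).left :=
      inferInstanceAs (IsOpenImmersion (coprod.inl : H.left ⟶ H.left ⨿ T.left))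
    have or : IsOpenImmersion (K636.Decomp.copr H T).left :=
      inferInstanceAs (IsOpenImmersion (coprod.inr : T.left ⟶ H.left ⨿ T.left))
    rcases hcov with ⟨x, rfl⟩ | ⟨t, rfl⟩
    · rcases hcovH x with ⟨z, rfl⟩ | ⟨z, rfl⟩
      · obtain ⟨V₁, v₁, c₁, hv₁, ⟨z₁, rfl⟩, e₁⟩ := hLF z
        refine ⟨V₁, v₁ ≫ k₀ ≫ K636.Decomp.copl H T, c₁ ≫ w ≫ p, ?_, ⟨z₁, ?_⟩, ?_⟩
        · rw [Over.comp_left, Over.comp_left]
          infer_instance
        · rw [Over.comp_left, Over.comp_left, Scheme.Hom.comp_apply, Scheme.Hom.comp_apply]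
        · rw [Functor.map_comp, Functor.map_comp, Category.assoc, Category.assoc, sq.w,
            ← Category.assoc ((yon S).map w), ← hbi, ← Category.assoc ((yon S).map c₁),
            ← Category.assoc ((yon S).map c₁), e₁, Functor.map_comp, Functor.map_comp, Category.assoc,
            Category.assoc, Category.assoc, Category.assoc, hg1, ← Category.assoc ((yon S).map k₀), hk₀,
            ← Category.assoc k, sqZ.w, Category.assoc]
      · refine ⟨Q, f₀ ≫ K636.Decomp.copl H T, r, ?_, ⟨z, ?_⟩, ?_⟩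
        · rw [Over.comp_left]
          infer_instance
        · rw [Over.comp_left, Scheme.Hom.comp_apply]
        · rw [Functor.map_comp, Category.assoc, hg1, ← Category.assoc e.hom, ← Category.assoc, hf₀,
            Category.assoc, hjν]
    · refine ⟨T, K636.Decomp.copr H T, c, or, ⟨t, rfl⟩, ?_⟩
      rw [hg2, Category.assoc, hjν]

theorem cov_of_GEX [QuasiSeparatedSpace ↥S] (n : ℕ) : ∀ {X : Sp S} {U : Over S} {a : (yon S).obj U ⟶ X},
    IsAlgSpace X → IsQuasiSeparatedSp X → IsAffine U.left → RepWith @Etale a → RepWith @Surjective a →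
    GEX a (n + 1) = ∅ → Cov a := by
  induction n with
  | zero => exact fun _ _ _ ha has hG => cov_of_GEX_one ha has hG
  | succ n ih => exact fun hX hqs hU ha has hG => cov_step (n + 1) ih hX hqs hU ha has hG

/-- Every affine étale surjective chart of a quasi-separated algebraic space has an integral surjective cover by a
scheme which factors through it Zariski locally. -/
theorem cov [QuasiSeparatedSpace ↥S] {X : Sp S} {U : Over S} {a : (yon S).obj U ⟶ X} (hX : IsAlgSpace X)
    (hqs : IsQuasiSeparatedSp X) (hU : IsAffine U.left) (ha : RepWith @Etale a) (has : RepWith @Surjective a) :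
    Cov a := by
  obtain ⟨N, hN⟩ := K619.GEBound.exists_GEX_eq_empty hX hqs ha has
  exact cov_of_GEX N hX hqs hU ha has (Set.subset_empty_iff.1 (hN ▸ GEX_antitone a (Nat.le_succ N)))

/-- An étale surjective chart of a quasi-compact algebraic space can be refined by an affine one. -/
theorem exists_affine_refinement {X : Sp S} {U : Over S} {a : (yon S).obj U ⟶ X} (hX : IsAlgSpace X)
    (hqc : IsQuasiCompactSp X) (ha : RepWith @Etale a) (has : RepWith @Surjective a) :
    ∃ (U' : Over S) (φ : U' ⟶ U), IsAffine U'.left ∧ RepWith @Etale ((yon S).map φ ≫ a) ∧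
      RepWith @Surjective ((yon S).map φ ≫ a) := by
  have hc := K609.QC.compactSpace_points hqc
  have hU : ∀ u : ↥U.left, ∃ V : U.left.affineOpens, u ∈ V.1 := fun u => by
    obtain ⟨V, hV, hu, -⟩ := exists_isAffineOpen_mem_and_subset (X := U.left) (x := u) (U := ⊤) trivial
    exact ⟨⟨V, hV⟩, hu⟩
  obtain ⟨t, ht⟩ := isCompact_univ.elim_finite_subcover (X := Points X)
    (fun V : U.left.affineOpens => Points.ofPt a '' (V.1 : Set ↥U.left))
    (fun V => K609.Points.isOpenMap_ofPt ha _ V.1.isOpen)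
    (fun x _ => by
      obtain ⟨u, rfl⟩ := K609.Points.surjective_ofPt_of_repWith_surjective has x
      obtain ⟨V, hV⟩ := hU u
      exact Set.mem_iUnion.2 ⟨V, u, hV, rfl⟩)
  let W : U.left.Opens := ⨆ V ∈ t, V.1
  let V : Over S := Over.mk (W.ι ≫ U.hom)
  let φ : V ⟶ U := Over.homMk W.ι rfl
  have hφ : Etale φ.left := show Etale W.ι from inferInstance
  have hsurj : ∀ x : Points X, ∃ v : ↥V.left, Points.ofPt a (φ.left v) = x := fun x => by
    obtain ⟨A, hA, u, hu, rfl⟩ := Set.mem_iUnion₂.1 (ht (Set.mem_univ x))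
    have huW : u ∈ W := by
      simp only [W, TopologicalSpace.Opens.mem_iSup]
      exact ⟨A, hA, hu⟩
    exact ⟨⟨u, huW⟩, rfl⟩
  obtain ⟨h1, h2⟩ := K609.QC.repWith_restrict ha hX.representable_from_yon φ hφ hsurj
  have hW : IsCompact (W : Set ↥U.left) := by
    simp only [W, TopologicalSpace.Opens.coe_iSup]
    exact t.finite_toSet.isCompact_biUnion fun A _ => A.2.isCompact
  have : CompactSpace ↥V.left := isCompact_iff_compactSpace.1 hW
  have : IsZariskiLocalAtSource @Etale.{u} :=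
    HasRingHomProperty.instIsZariskiLocalAtSource (Q := RingHom.Etale)
  obtain ⟨Y, q, hq1, hq2, hq3⟩ := Scheme.exists_hom_isAffine_of_isZariskiLocalAtSource @Etale V.left
  let ψ : Over.mk (q ≫ V.hom) ⟶ V := Over.homMk q rfl
  refine ⟨Over.mk (q ≫ V.hom), ψ ≫ φ, hq3, ?_, ?_⟩
  · rw [Functor.map_comp, Category.assoc]
    exact K609.QC.repWith_yon_map_comp _ ψ hq2 h1
  · rw [Functor.map_comp, Category.assoc]
    exact K609.QC.repWith_yon_map_comp _ ψ hq1 h2

/-- The factorization through opens of the source. -/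
theorem exists_opens_of_LF {X : Sp S} {U Y : Over S} {a : (yon S).obj U ⟶ X} {g : (yon S).obj Y ⟶ X}
    (h : LF a g) (y : ↥Y.left) : ∃ (W : Y.left.Opens) (c : Over.mk (W.ι ≫ Y.hom) ⟶ U), y ∈ W ∧
        (yon S).map c ≫ a = (yon S).map (Over.homMk W.ι rfl : Over.mk (W.ι ≫ Y.hom) ⟶ Y) ≫ g := by
  obtain ⟨V, v, c, hv, ⟨z, rfl⟩, e⟩ := h y
  let W := v.left.opensRange
  have hle : Set.range W.ι ⊆ Set.range v.left := by
    rw [Scheme.Opens.range_ι]
    exact subset_rfl
  let s : (W : Scheme.{u}) ⟶ V.left := IsOpenImmersion.lift v.left W.ι hle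
  have hs : s ≫ v.left = W.ι := IsOpenImmersion.lift_fac _ _ _
  let s' : Over.mk (W.ι ≫ Y.hom) ⟶ V := Over.homMk s (by
    change s ≫ V.hom = W.ι ≫ Y.hom
    rw [← hs, Category.assoc, Over.w v])
  refine ⟨W, s' ≫ c, ⟨z, rfl⟩, ?_⟩
  rw [Functor.map_comp, Category.assoc, e, ← Category.assoc, ← Functor.map_comp]
  congr 2
  exact Over.OverMorphism.ext hs

theorem exists_cov [QuasiSeparatedSpace ↥S] {X : Sp S} (hX : IsAlgSpace X) (hqc : IsQuasiCompactSp X)
    (hqs : IsQuasiSeparatedSp X) {U : Over S} (b : (yon S).obj U ⟶ X) (hb : RepWith @Etale b)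
    (hbs : RepWith @Surjective b) : Cov b := by
  obtain ⟨U', φ, hU', h1, h2⟩ := exists_affine_refinement hX hqc hb hbs
  obtain ⟨Y, g, hg, hgs, hLF⟩ := cov hX hqs hU' h1 h2
  refine ⟨Y, g, hg, hgs, fun y => ?_⟩
  obtain ⟨V, v, c, hv, hy, e⟩ := hLF y
  exact ⟨V, v, c ≫ φ, hv, hy, by rw [Functor.map_comp, Category.assoc, e]⟩

end K619.IntCover
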