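import Groth.Agent.AlgSp.K619.Basic
import Mathlib.AlgebraicGeometry.Morphisms.Flat
import Mathlib.AlgebraicGeometry.Morphisms.FinitePresentation

/-!
`LocP P` for composites `T ⟶ U ⟶ X` where `U ⟶ X` is an etale chart.
-/

set_option autoImplicit false
universe u
open CategoryTheory CategoryTheory.Limits AlgebraicGeometry Topology TopologicalSpace Opposite

namespace K619.LocPComp

open K619.Basic

variable {S : Scheme.{u}}

/-- cancellation along etale morphisms -/
theorem hasOfPostcomp_etale (P : MorphismProperty Scheme.{u}) [P.IsStableUnderBaseChange]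
    [P.IsStableUnderComposition] (hP : @Etale ≤ P) : P.HasOfPostcompProperty @Etale := by
  have : P.ContainsIdentities := ⟨fun X => hP _ _ _ (inferInstanceAs (Etale (𝟙 X)))⟩
  have : P.IsMultiplicative := {}
  rw [MorphismProperty.hasOfPostcompProperty_iff_le_diagonal]
  intro X Y f hf
  have : Etale f := hf
  exact hP _ _ _ (inferInstanceAs (Etale (pullback.diagonal f)))

/-- `LocP P` for a composite `h_T ⟶ h_U ⟶ X` with `h_U ⟶ X` an etale chart. -/
theorem locP_comp_chart (P : MorphismProperty Scheme.{u}) [P.IsStableUnderBaseChange]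
    [P.IsStableUnderComposition] (hP : @Etale ≤ P) {X : AlgSp.Sp S} {T U : Over S} (q : T ⟶ U)
    (hq : P q.left) {a : (AlgSp.yon S).obj U ⟶ X} (ha : AlgSp.RepWith @Etale a) :
    AlgSp.LocP P ((AlgSp.yon S).map q ≫ a) := by
  intro U' V a' b h ha' hb hw
  obtain ⟨α, rfl⟩ := (AlgSp.yon S).map_surjective a'
  have hα : Etale α.left := (AlgSp.repWith_yon_map_iff _ _).1 ha'
  obtain ⟨W, fst, snd, hW⟩ := exists_isPullback_of_rep ha.1 b
  have h1 : Etale snd.left := prop_snd ha hW
  have h2 : Etale fst.left := prop_fst hb hW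
  have e : (AlgSp.yon S).map (α ≫ q) ≫ a = (AlgSp.yon S).map h ≫ b := by
    rw [Functor.map_comp, Category.assoc]; exact hw
  obtain ⟨l, hl⟩ := (AlgSp.yon S).map_surjective (hW.lift _ _ e)
  have hl1 : l ≫ fst = α ≫ q :=
    (AlgSp.yon S).map_injective (by rw [Functor.map_comp, hl, hW.lift_fst])
  have hl2 : l ≫ snd = h :=
    (AlgSp.yon S).map_injective (by rw [Functor.map_comp, hl, hW.lift_snd])
  have hl1' : l.left ≫ fst.left = α.left ≫ q.left := congrArg (fun z => z.left) hl1
  have hl2' : l.left ≫ snd.left = h.left := congrArg (fun z => z.left) hl2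
  have := hasOfPostcomp_etale P hP
  have hPl : P l.left := by
    refine MorphismProperty.of_postcomp (W := P) (W' := @Etale) l.left fst.left h2 ?_
    rw [hl1']
    exact P.comp_mem _ _ (hP _ _ _ hα) hq
  rw [← hl2']
  exact P.comp_mem _ _ hPl (hP _ _ _ h1)

theorem etale_le_flat : (@Etale : MorphismProperty Scheme.{u}) ≤ @Flat := fun _ _ f hf => by
  have : Etale f := hf
  infer_instance

theorem etale_le_lfp : (@Etale : MorphismProperty Scheme.{u}) ≤ @LocallyOfFinitePresentation :=
  fun _ _ f hf => by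
    have : Etale f := hf
    infer_instance

theorem etale_le_lft : (@Etale : MorphismProperty Scheme.{u}) ≤ @LocallyOfFiniteType :=
  fun _ _ f hf => by
    have : Etale f := hf
    infer_instance

theorem locP_flat_comp_chart {X : AlgSp.Sp S} {T U : Over S} (q : T ⟶ U)
    (hq : Flat q.left) {a : (AlgSp.yon S).obj U ⟶ X} (ha : AlgSp.RepWith @Etale a) :
    AlgSp.LocP @Flat ((AlgSp.yon S).map q ≫ a) :=
  locP_comp_chart _ etale_le_flat q hq ha

theorem locP_lfp_comp_chart {X : AlgSp.Sp S} {T U : Over S} (q : T ⟶ U)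
    (hq : LocallyOfFinitePresentation q.left) {a : (AlgSp.yon S).obj U ⟶ X}
    (ha : AlgSp.RepWith @Etale a) :
    AlgSp.LocP @LocallyOfFinitePresentation ((AlgSp.yon S).map q ≫ a) :=
  locP_comp_chart _ etale_le_lfp q hq ha

theorem locP_lft_comp_chart {X : AlgSp.Sp S} {T U : Over S} (q : T ⟶ U)
    (hq : LocallyOfFiniteType q.left) {a : (AlgSp.yon S).obj U ⟶ X}
    (ha : AlgSp.RepWith @Etale a) :
    AlgSp.LocP @LocallyOfFiniteType ((AlgSp.yon S).map q ≫ a) :=
  locP_comp_chart _ etale_le_lft q hq ha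

theorem locP_of_chart (P : MorphismProperty Scheme.{u}) [P.IsStableUnderBaseChange]
    [P.IsStableUnderComposition] (hP : @Etale ≤ P) {X : AlgSp.Sp S} {U : Over S}
    {a : (AlgSp.yon S).obj U ⟶ X} (ha : AlgSp.RepWith @Etale a) : AlgSp.LocP P a := by
  have h := locP_comp_chart P hP (𝟙 U) (hP _ _ _ (inferInstanceAs (Etale (𝟙 U.left)))) ha
  rw [(AlgSp.yon S).map_id, Category.id_comp] at h
  exact h

end K619.LocPComp
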