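import Groth.Agent.AlgSp.K619.Residual

/-!
Monomorphisms to spaces with a flat, locally finitely presented, surjective field point.
-/

set_option autoImplicit false
universe u
open CategoryTheory CategoryTheory.Limits AlgebraicGeometry Topology TopologicalSpace Opposite

namespace K619.MonoSingle

open AlgSp K613.Basic K613.Cover K613.Chart K619.Basic K619.LocPComp K619.EtField K619.FieldChart
  K619.Singleton K619.MonoDisc K619.Residual

variable {S : Scheme.{u}}

/-- A flat, locally finitely presented, surjective field point is surjective fppf locally. -/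
theorem fSurj_of_locP {Z : Sp S} (hZ : IsAlgSpace Z) {k : Type u} [Field k]
    {str : Spec (CommRingCat.of k) ⟶ S} {p : (yon S).obj (Over.mk str) ⟶ Z}
    (hpp : LocP @LocallyOfFinitePresentation p) (hpf : LocP @Flat p) (hps : IsSurjectiveMor p) :
    FSurj p := by
  obtain ⟨V, b, hb, hbs⟩ := hZ.atlas
  obtain ⟨W, fst, snd, h⟩ := exists_isPullback_of_rep hb.1 p
  have h1 : Etale snd.left := prop_snd hb h
  have h2 : Flat fst.left :=
    hpf _ _ fst ((repWith_yon_map_iff _ _).2 h1) hb h.w.symm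
  have h3 : LocallyOfFinitePresentation fst.left :=
    hpp _ _ fst ((repWith_yon_map_iff _ _).2 h1) hb h.w.symm
  have h4 : Surjective fst.left := ⟨fun v => by
    obtain ⟨t, ht⟩ := exists_ofPt_eq hps (Points.ofPt b v)
    obtain ⟨w, hw, -⟩ := (ofPt_eq_iff h v t).1 ht.symm
    exact ⟨w, hw⟩⟩
  have hc : FpC fst := ⟨h2, h3, h4⟩
  have h5 : FSurj ((yon S).map fst ≫ b) := (ESurj.of_repWith hb hbs).fSurj.comp hc.fSurj
  rw [h.w] at h5
  exact h5.of_comp

/-- Let `W ⟶ Spec k` be a nonempty scheme over a field with `W ×_k W ⟶ W` etale; then `W` is etale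
over `k`. -/
theorem etale_of_proj {k : Type u} [Field k] {W P : Scheme.{u}} [Nonempty W]
    (f : W ⟶ Spec (CommRingCat.of k)) {p₁ p₂ : P ⟶ W} (h : IsPullback p₁ p₂ f f) [Etale p₂] :
    Etale f := by
  obtain ⟨V, hV, hxV, -⟩ :=
    exists_isAffineOpen_mem_and_subset (X := W) (x := Classical.arbitrary W) (U := ⊤) trivial
  have hn : Nonempty V := ⟨⟨_, hxV⟩⟩
  have : IsAffine V := hV
  have e1 := (IsPullback.of_hasPullback p₂ V.ι).paste_horiz h
  have h1 : Etale (pullback.snd p₂ V.ι) := inferInstance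
  have : Surjective (V.ι ≫ f) := ⟨fun y => ⟨Classical.arbitrary V, Subsingleton.elim _ _⟩⟩
  have : QuasiCompact (V.ι ≫ f) := inferInstance
  have : Flat (V.ι ≫ f) := inferInstance
  exact MorphismProperty.of_isPullback_of_descendsAlong (P := @Etale)
    (Q := @Surjective ⊓ @Flat ⊓ @QuasiCompact) e1.flip ⟨⟨‹_›, ‹_›⟩, ‹_›⟩ h1

/-- A monomorphism of sheaves `i : F ⟶ Z` with `F` receiving an etale map from a nonempty scheme is
an isomorphism, when `Z` is an algebraic space with a flat, locally finitely presented, surjective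
field point. -/
theorem isIso_of_mono {F Z : Sp S} (hZ : IsAlgSpace Z) (i : F ⟶ Z) [Mono i] {k : Type u} [Field k]
    {str : Spec (CommRingCat.of k) ⟶ S} {p : (yon S).obj (Over.mk str) ⟶ Z}
    (hpp : LocP @LocallyOfFinitePresentation p) (hpf : LocP @Flat p) (hps : IsSurjectiveMor p)
    {U : Over S} {a : (yon S).obj U ⟶ F} (ha : RepWith @Etale a) (hU : Nonempty ↥U.left) :
    IsIso i := by
  have hfp := fSurj_of_locP hZ hpp hpf hps
  -- `W = U ×_Z Spec k`
  obtain ⟨W, fst, snd, h⟩ := exists_isPullback hZ (a ≫ i) p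
  obtain ⟨u⟩ := hU
  obtain ⟨t, ht⟩ := exists_ofPt_eq hps (Points.ofPt (a ≫ i) u)
  obtain ⟨w, -, -⟩ := (ofPt_eq_iff h u t).1 ht.symm
  have hW : Nonempty ↥W.left := ⟨w⟩
  -- `Q = W ×_F U`
  obtain ⟨Q, q₁, q₂, hQ⟩ := exists_isPullback_of_rep ha.1 ((yon S).map fst ≫ a)
  have hq : Etale q₂.left := prop_snd ha hQ
  -- `Q = W ×_k W`
  obtain ⟨l, hl1, hl2⟩ : ∃ l : Q ⟶ W, l ≫ fst = q₁ ∧ l ≫ snd = q₂ ≫ snd := by
    have e : (yon S).map q₁ ≫ a ≫ i = (yon S).map (q₂ ≫ snd) ≫ p := by
      have h1 := congrArg (· ≫ i) hQ.w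
      simp only [Category.assoc] at h1
      rw [h1, Functor.map_comp, Category.assoc, ← h.w]
    obtain ⟨l, hl⟩ := (yon S).map_surjective (h.lift _ _ e)
    exact ⟨l, (yon S).map_injective (by rw [Functor.map_comp, hl, h.lift_fst]),
      (yon S).map_injective (by rw [Functor.map_comp, hl, h.lift_snd])⟩
  have hsq : IsPullback l q₂ snd snd := by
    refine IsPullback.of_map (yon S) hl2 ?_
    refine isPullback_of_yon (by rw [← Functor.map_comp, ← Functor.map_comp, hl2]) ?_
    intro T x y hxy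
    have e : (x ≫ (yon S).map fst) ≫ a = y ≫ (yon S).map fst ≫ a := by
      rw [← cancel_mono i]
      simp only [Category.assoc]
      rw [h.w, ← Category.assoc, hxy, Category.assoc]
    refine ⟨hQ.lift _ _ e, ⟨?_, hQ.lift_snd _ _ _⟩, ?_⟩
    · apply h.hom_ext
      · rw [Category.assoc, ← Functor.map_comp, hl1, hQ.lift_fst]
      · rw [Category.assoc, ← Functor.map_comp, hl2, Functor.map_comp, ← Category.assoc,
          hQ.lift_snd, hxy]
    · rintro z ⟨hz1, hz2⟩
      apply hQ.hom_ext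
      · rw [hQ.lift_fst, ← hz1, Category.assoc, ← Functor.map_comp, hl1]
      · rw [hQ.lift_snd, hz2]
  have het : Etale snd.left := etale_of_proj (k := k) snd.left (isPullback_left hsq)
  have hsurj : Surjective snd.left := ⟨fun y => ⟨w, Subsingleton.elim
    (α := ↥(Spec (CommRingCat.of k))) _ _⟩⟩
  have hc : EtC snd := ⟨het, hsurj⟩
  have h5 : FSurj ((yon S).map snd ≫ p) := hfp.comp hc.eSurj.fSurj
  rw [← h.w, ← Category.assoc] at h5
  have h6 : FSurj i := h5.of_comp
  exact h6.isIso_of_mono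

/-- The same, for an algebraic space as the source. -/
theorem isEmpty_or_isIso {F Z : Sp S} (hF : IsAlgSpace F) (hZ : IsAlgSpace Z) (i : F ⟶ Z) [Mono i]
    (h : ∃ (k : Type u) (_ : Field k) (str : Spec (CommRingCat.of k) ⟶ S)
      (p : (yon S).obj (Over.mk str) ⟶ Z), LocP @LocallyOfFinitePresentation p ∧ LocP @Flat p ∧
        IsSurjectiveMor p) : IsEmpty (Points F) ∨ IsIso i := by
  obtain ⟨k, _, str, p, hpp, hpf, hps⟩ := h
  by_cases hn : Nonempty (Points F)
  · right
    obtain ⟨U, a, ha, has⟩ := hF.atlas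
    obtain ⟨x⟩ := hn
    obtain ⟨u, -⟩ := ofPt_surjective has x
    exact isIso_of_mono hZ i hpp hpf hps ha ⟨u⟩
  · left
    exact not_nonempty_iff.1 hn

/-- Uniqueness of the residual space. -/
theorem residual_unique (X : Space S) (x : Points X.obj)
    {Z Z' : Space S} (i : Z ⟶ X) (i' : Z' ⟶ X) [Mono i.hom] [Mono i'.hom]
    (hi : Set.range (Points.map i.hom) = {x}) (hi' : Set.range (Points.map i'.hom) = {x})
    (hZ : ∃ (k : Type u) (_ : Field k) (str : Spec (CommRingCat.of k) ⟶ S)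
      (p : (yon S).obj (Over.mk str) ⟶ Z.obj),
        LocP @LocallyOfFinitePresentation p ∧ LocP @Flat p ∧ IsSurjectiveMor p)
    (hZ' : ∃ (k : Type u) (_ : Field k) (str : Spec (CommRingCat.of k) ⟶ S)
      (p : (yon S).obj (Over.mk str) ⟶ Z'.obj),
        LocP @LocallyOfFinitePresentation p ∧ LocP @Flat p ∧ IsSurjectiveMor p) :
    ∃ e : Z' ≅ Z, e.hom ≫ i = i' := by
  have sq := IsPullback.of_hasPullback i.hom i'.hom
  have hP : IsAlgSpace (pullback i.hom i'.hom) :=
    isAlgSpace_of_isPullback X.property.diag Z.property Z'.property sq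
  obtain ⟨z, hz⟩ : x ∈ Set.range (Points.map i.hom) := by rw [hi]; rfl
  obtain ⟨z', hz'⟩ : x ∈ Set.range (Points.map i'.hom) := by rw [hi']; rfl
  obtain ⟨y, -, -⟩ := K609.Points.exists_of_isPullback sq z z' (hz.trans hz'.symm)
  have hn : ¬ IsEmpty (Points (pullback i.hom i'.hom)) := fun h => h.false y
  have h1 : IsIso (pullback.fst i.hom i'.hom) :=
    (isEmpty_or_isIso hP Z.property _ hZ).resolve_left hn
  have h2 : IsIso (pullback.snd i.hom i'.hom) :=
    (isEmpty_or_isIso hP Z'.property _ hZ').resolve_left hn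
  let e₀ : Z'.obj ≅ Z.obj := (asIso (pullback.snd i.hom i'.hom)).symm ≪≫
    asIso (pullback.fst i.hom i'.hom)
  refine ⟨(ObjectProperty.ι _).preimageIso e₀, ?_⟩
  apply (ObjectProperty.ι _).map_injective
  rw [Functor.map_comp, Functor.preimageIso_hom, Functor.map_preimage]
  change e₀.hom ≫ i.hom = i'.hom
  simp only [e₀, Iso.trans_hom, Iso.symm_hom, asIso_inv, asIso_hom, Category.assoc]
  rw [pullback.condition, IsIso.inv_hom_id_assoc]

end K619.MonoSingle
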