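import Groth.Agent.AlgSp.K619.NagDom
import Groth.Agent.AlgSp.K647.Compl
import Groth.Agent.AlgSp.K647.BlowComp
import Groth.Agent.S10807

/-!
# Blow-ups of algebraic spaces in families of ideals: restriction to open subspaces, density, properness
-/

set_option autoImplicit false
universe u
open CategoryTheory CategoryTheory.Limits AlgebraicGeometry Opposite TopologicalSpace

namespace K619.NagBlow

open AlgSp K598.RepKit K598.ClFam K598.Charts K598.SchImg K647.FamOps K647.BlowUpSp K647.Idl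
open K619.NagKit K619.NagDom

variable {S : Scheme.{u}} {X Y Z U W B P X' X'' Y' W' : Sp S}

/-- The family of ideals `A` is trivial on `U`. -/
def Away (A : Fam X) (u : U ⟶ X) : Prop := ∀ (T : Over S) (g : (yon S).obj T ⟶ U), A.I (g ≫ u) = ⊤

theorem Away.comp {A : Fam X} {u : U ⟶ X} (h : Away A u) (v : W ⟶ U) : Away A (v ≫ u) := fun T g => by
  rw [← Category.assoc]
  exact h T _

theorem away_pull {A : Fam X} {u : U ⟶ Y} {f : Y ⟶ X} : Away (pull A f) u ↔ Away A (u ≫ f) := by
  constructor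
  · intro h T g
    have := h T g
    rwa [pull_I, Category.assoc] at this
  · intro h T g
    rw [pull_I, Category.assoc]
    exact h T g

/-- The inverse image of `A` is an effective Cartier divisor, in all étale charts. -/
def Cart (A : Fam X) (g : Y ⟶ X) : Prop :=
  ∀ ⦃T : Over S⦄ (ψ : (yon S).obj T ⟶ Y), RepWith @Etale ψ → BlowUp.IsEffCartierIdeal (A.I (ψ ≫ g))

theorem cart_iff (hY : IsAlgSpace Y) (A : Fam X) (g : Y ⟶ X) : InvImageIsEffCartier A.ι g ↔ Cart A g := by
  constructor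
  · intro h T ψ hψ
    have := invImage_idl A.repWith_ι h hψ
    rwa [K647.BlowComp.idl_ι] at this
  · intro h
    obtain ⟨V, φ, hφ, hφs⟩ := hY.atlas
    refine invImage_of_chart A.repWith_ι hφ hφs ?_
    rw [K647.BlowComp.idl_ι]
    exact h φ hφ

theorem Cart.comp_etale {A : Fam X} {g : Y ⟶ X} (h : Cart A g) {e : Y' ⟶ Y} (he : RepWith @Etale e) :
    Cart A (e ≫ g) := fun T ψ hψ => by
  rw [← Category.assoc]
  exact h _ (MorphismProperty.comp_mem _ _ _ hψ he)

theorem Cart.comp_open {A : Fam X} {g : Y ⟶ X} (h : Cart A g) {e : Y' ⟶ Y} (he : RepWith @IsOpenImmersion e) :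
    Cart A (e ≫ g) := h.comp_etale (K610.OpenImm.repWith_etale_of_open he)

theorem cart_pull {A : Fam X} {f : Y ⟶ X} {g : Z ⟶ Y} : Cart (pull A f) g ↔ Cart A (g ≫ f) := by
  constructor
  · intro h T ψ hψ
    have := h ψ hψ
    rwa [pull_I, Category.assoc] at this
  · intro h T ψ hψ
    rw [pull_I, Category.assoc]
    exact h ψ hψ

theorem isEff_top (T : Scheme.{u}) : BlowUp.IsEffCartierIdeal (⊤ : T.IdealSheafData) := by
  refine K647.CartDesc.isEff_of_support fun x hx => ?_
  rw [Scheme.IdealSheafData.support_top] at hx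
  exact ((Set.mem_empty_iff_false x).1 hx).elim

theorem cart_of_away {A : Fam X} {g : Y ⟶ X} (h : Away A g) : Cart A g := fun T ψ _ => by
  rw [h T ψ]
  exact isEff_top _

/-- `b : X' ⟶ X` is the blow-up of the algebraic space `X` in the family of ideals `A`. -/
structure Bl (A : Fam X) (b : X' ⟶ X) : Prop where
  alg : IsAlgSpace X'
  bl : IsBlowUpSp b A.ι

namespace Bl

variable {A : Fam X} {b : X' ⟶ X}

theorem cart (h : Bl A b) : Cart A b := (cart_iff h.alg A b).1 h.bl.1

theorem lift (h : Bl A b) (hY : IsAlgSpace Y) {g : Y ⟶ X} (hg : Cart A g) : ∃ k : Y ⟶ X', k ≫ b = g :=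
  (h.bl.2 hY g ((cart_iff hY A g).2 hg)).exists

theorem uniq (h : Bl A b) (hY : IsAlgSpace Y) {k k' : Y ⟶ X'} (hg : Cart A (k ≫ b)) (hk : k ≫ b = k' ≫ b) :
    k = k' :=
  (h.bl.2 hY _ ((cart_iff hY A _).2 hg)).unique rfl hk.symm

theorem of_cart (hX' : IsAlgSpace X') (h1 : Cart A b)
    (h2 : ∀ ⦃Y : Sp S⦄, IsAlgSpace Y → ∀ g : Y ⟶ X, Cart A g → ∃! k : Y ⟶ X', k ≫ b = g) : Bl A b :=
  ⟨hX', (cart_iff hX' A b).2 h1, fun _ hY g hg => h2 hY g ((cart_iff hY A g).1 hg)⟩

/-- Restriction of a blow-up to an open subspace. -/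
theorem bc (h : Bl A b) {j : W ⟶ X} (hj : RepWith @IsOpenImmersion j) {a : W' ⟶ X'} {b' : W' ⟶ W}
    (sq : IsPullback a b' b j) : Bl (pull A j) b' := by
  have ha : RepWith @IsOpenImmersion a := repWith_of_isPullback sq.flip hj
  have hW' : IsAlgSpace W' := alg_of_open ha h.alg
  refine of_cart hW' ?_ fun Y hY g hg => ?_
  · rw [cart_pull, ← sq.w]
    exact h.cart.comp_open ha
  · rw [cart_pull] at hg
    obtain ⟨k, hk⟩ := h.lift hY hg
    refine ⟨sq.lift k g hk, sq.lift_snd _ _ _, fun l hl => ?_⟩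
    dsimp only at hl
    have hm : Mono a := mono_of_repWith_isOpenImmersion ha
    rw [← cancel_mono a, sq.lift_fst]
    refine h.uniq hY ?_ ?_
    · rw [Category.assoc, sq.w, ← Category.assoc, hl]
      exact hg
    · rw [Category.assoc, sq.w, ← Category.assoc, hl, hk]

theorem isIso_of_away (h : Bl A b) (hX : IsAlgSpace X) (hA : Away A (𝟙 X)) : IsIso b := by
  obtain ⟨k, hk⟩ := h.lift hX (cart_of_away hA)
  refine ⟨k, h.uniq h.alg ?_ ?_, hk⟩
  · rw [Category.assoc, hk, Category.comp_id]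
    exact h.cart
  · rw [Category.assoc, hk, Category.comp_id, Category.id_comp]

/-- Blow-ups are isomorphisms over the open subspaces on which the family is trivial. -/
theorem isPullback_lift (h : Bl A b) (hX : IsAlgSpace X) {u : U ⟶ X} (hu : RepWith @IsOpenImmersion u)
    (hA : Away A u) {u' : U ⟶ X'} (w : u' ≫ b = u) : IsPullback u' (𝟙 U) b u := by
  have sq := IsPullback.of_hasPullback b u
  have hU := alg_of_open hu hX
  have h1 : IsIso (pullback.snd b u) := (h.bc hu sq).isIso_of_away hU (by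
    rw [away_pull, Category.id_comp]
    exact hA)
  have h2 : inv (pullback.snd b u) ≫ pullback.fst b u = u' := by
    refine h.uniq hU ?_ ?_
    · rw [Category.assoc, sq.w, IsIso.inv_hom_id_assoc]
      exact cart_of_away hA
    · rw [Category.assoc, sq.w, IsIso.inv_hom_id_assoc, w]
  refine IsPullback.of_iso sq (asIso (pullback.snd b u)) (Iso.refl _) (Iso.refl _) (Iso.refl _) ?_ (by simp)
    (by simp) (by simp)
  simp [← h2]

theorem open_lift (h : Bl A b) (hX : IsAlgSpace X) {u : U ⟶ X} (hu : RepWith @IsOpenImmersion u)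
    (hA : Away A u) {u' : U ⟶ X'} (w : u' ≫ b = u) : RepWith @IsOpenImmersion u' :=
  repWith_of_isPullback (h.isPullback_lift hX hu hA w).flip hu

end Bl

/-! ### Finiteness -/

theorem isFiniteTypeIdeal_of_noeth {T : Scheme.{u}} [IsLocallyNoetherian T] (I : T.IdealSheafData) :
    BlowUp.IsFiniteTypeIdeal I := by
  intro V
  have := IsLocallyNoetherian.component_noetherian V
  exact IsNoetherian.noetherian _

theorem ft_of_noe (hX : Noe X) (A : Fam X) : FT A := by
  obtain ⟨V, φ, hφ, hφs⟩ := hX.alg.atlas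
  have := hX.locallyNoeth hφ
  exact FT.of_charts (ChartFam.single hφ hφs) fun _ => isFiniteTypeIdeal_of_noeth (T := V.left) _

theorem Bl.proper {A : Fam X} {b : X' ⟶ X} (h : Bl A b) (hX : Noe X) : IsProperMor b :=
  Groth.Agent.S10807.result ⟨X, hX.alg⟩ ⟨X', h.alg⟩ ⟨A.sheaf, A.isAlgSpace_sheaf hX.alg⟩
    (ObjectProperty.homMk A.ι) (repWith_ι_lfp (ft_of_noe hX A)) (ObjectProperty.homMk b) h.bl

theorem Bl.noe {A : Fam X} {b : X' ⟶ X} (h : Bl A b) (hX : Noe X) : Noe X' :=
  Noe.of_sft h.alg hX (sft_of_proper (h.proper hX))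

end K619.NagBlow
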