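import Groth.Agent.AlgSp.K619.NagBlow

/-!
# Density of the lift of an open subspace to an admissible blow-up; extension of families of ideals
-/

set_option autoImplicit false
universe u
open CategoryTheory CategoryTheory.Limits AlgebraicGeometry Opposite TopologicalSpace

namespace K619.NagBlow

open AlgSp K598.RepKit K598.ClFam K598.Charts K598.SchImg K647.FamOps K647.BlowUpSp K647.Idl
open K619.NagKit K619.NagDom

variable {S : Scheme.{u}} {X Y Z U V W B P X' X'' Y' W' : Sp S}

theorem range_of_isPullback {fst : P ⟶ X} {snd : P ⟶ Z} {f : X ⟶ Y} {g : Z ⟶ Y} (sq : IsPullback fst snd f g) :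
    Set.range (Points.map snd) = Points.map g ⁻¹' Set.range (Points.map f) := by
  have h := K596.Pts.preimage_image sq Set.univ
  rw [Set.image_univ, Set.preimage_univ, Set.image_univ] at h
  exact h.symm

theorem away_iff {A : Fam X} {u : U ⟶ X} :
    Away A u ↔ Set.range (Points.map u) ⊆ (Set.range (Points.map A.ι))ᶜ := by
  constructor
  · rintro h _ ⟨x, rfl⟩ hx
    obtain ⟨T, g, t, rfl⟩ := K610.Base.exists_ofPt_eq x
    have h1 : t ∈ Points.ofPt (g ≫ u) ⁻¹' Set.range (Points.map A.ι) := hx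
    rw [K598.Red.range_map_ι, h T g] at h1
    rw [Scheme.IdealSheafData.support_top] at h1
    exact ((Set.mem_empty_iff_false t).1 h1).elim
  · intro h T g
    have h1 : ((A.I (g ≫ u)).support : Set T.left) = ∅ := by
      rw [← K598.Red.range_map_ι, Set.eq_empty_iff_forall_notMem]
      intro t ht
      exact h ⟨Points.ofPt g t, rfl⟩ ht
    exact (Scheme.IdealSheafData.support_eq_bot_iff _).1 (TopologicalSpace.Closeds.ext h1)

/-- The open complement of the support of a family. -/
theorem exists_compl (hX : IsAlgSpace X) (A : Fam X) :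
    ∃ (V : Sp S) (o : V ⟶ X), IsAlgSpace V ∧ RepWith @IsOpenImmersion o ∧
      Set.range (Points.map o) = (Set.range (Points.map A.ι))ᶜ ∧ Away A o := by
  have h1 : IsOpen (Set.range (Points.map A.ι))ᶜ := (K598.Red.isClosed_range A.repWith_ι).isOpen_compl
  have h2 := K610.Sub.repWith_openPred h1
  have h3 := K610.Sub.range_openPred (Set.range (Points.map A.ι))ᶜ
  exact ⟨_, _, alg_of_open h2 hX, h2, h3, away_iff.2 h3.le⟩

theorem Bl.sdom_lift [QuasiSeparatedSpace ↥S] {A : Fam X} {b : X' ⟶ X} (h : Bl A b) (hX : Noe X) {u : U ⟶ X}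
    (hu : RepWith @IsOpenImmersion u) (hd : SDom u) (hA : Away A u) {u' : U ⟶ X'} (w : u' ≫ b = u) : SDom u' := by
  obtain ⟨V, o, hV, ho, hr, hAo⟩ := exists_compl hX.alg A
  obtain ⟨u₀, rfl⟩ := (K610.Factor.factors_open_iff ho u).2 (by rw [hr]; exact away_iff.1 hA)
  obtain ⟨o', ho'⟩ := h.lift hV (cart_of_away hAo)
  have sq := h.isPullback_lift hX.alg ho hAo ho'
  have hoo := h.open_lift hX.alg ho hAo ho'
  obtain ⟨P, fst, snd, sqE, hE⟩ := h.bl.1
  have h1 : IsSchDense o' := by
    refine K647.Compl.isSchDense_compl hE hoo ?_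
    rw [range_of_isPullback sqE, range_of_isPullback sq.flip, hr, Set.preimage_compl]
  have h2 : u' = u₀ ≫ o' := by
    refine h.uniq (alg_of_open hu hX.alg) ?_ ?_
    · rw [w]
      exact cart_of_away hA
    · rw [w, Category.assoc, ho']
  rw [h2]
  have hm := mono_of_repWith_isOpenImmersion ho
  refine SDom.comp ?_ (sdom_of_isSchDense h.alg h1)
  exact hd.bc hX.alg (qcMor_of_noe (noe_of_open hu hX) hX.alg _ hX.qs) ho (K610.OpenImm.isPullback_id_of_mono u₀ o)

theorem fam_eq_of_isEmpty {T : Scheme.{u}} [IsEmpty T] (a b : T.IdealSheafData) : a = b :=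
  Groth.Agent.Divis.IdealComap.ext_of_forall_mem fun x => (IsEmpty.false x).elim

/-- The unit family of ideals. -/
noncomputable def topFam (X : Sp S) : Fam X where
  I _ := ⊤
  comap φ g := by
    refine ((Scheme.IdealSheafData.support_eq_bot_iff _).1 ?_).symm
    rw [Scheme.IdealSheafData.support_comap, Scheme.IdealSheafData.support_top]
    rfl

theorem le_of_vanish_ι {A B : Fam X} (h : Vanish A.ι B) : B ≤ A := by
  have h1 := (B.factors_iff' A.ι).2 h
  have h2 := (exists_hom_iff_le A.repWith_ι B.repWith_ι).1 h1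
  rwa [ofClosed_ι, ofClosed_ι] at h2

theorem vanish_ι (A : Fam X) : Vanish A.ι A := (A.factors_iff' A.ι).1 ⟨𝟙 _, Category.id_comp _⟩

/-- Extension of a family of ideals from an open subspace, by scheme theoretic closure. -/
theorem exists_extend [QuasiSeparatedSpace ↥S] (hX : Noe X) {j : W ⟶ X} (hj : RepWith @IsOpenImmersion j)
    (A : Fam W) : ∃ A' : Fam X, pull A' j = A ∧ ∀ {V : Sp S} (v : V ⟶ X), RepWith @IsOpenImmersion v →
      (∀ x ∈ Set.range (Points.map A.ι), Points.map j x ∉ Set.range (Points.map v)) → Away A' v := by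
  have hW : Noe W := noe_of_open hj hX
  have hZ : Noe A.sheaf := noe_of_closed A.repWith_ι hW
  have hqc : IsQuasiCompactMor (A.ι ≫ j) := qcMor_of_noe hZ hX.alg _ hX.qs
  obtain ⟨A', h1, h2, -⟩ := exists_image hX.alg hqc
  have him : IsSchImage (A.ι ≫ j) A'.ι := (isSchImage_iff hX.alg _ _).2 ⟨A'.repWith_ι, by rwa [ofClosed_ι], by
    rwa [ofClosed_ι]⟩
  have key : ∀ {V P : Sp S} (v : V ⟶ X) (_ : RepWith @IsOpenImmersion v) (a : P ⟶ A.sheaf) (f' : P ⟶ V)
      (_ : IsPullback a f' (A.ι ≫ j) v), Vanish f' (pull A' v) ∧ ∀ B : Fam V, Vanish f' B → B ≤ pull A' v := by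
    intro V P v hv a f' sq
    have hV := alg_of_open hv hX.alg
    have sqi := IsPullback.of_hasPullback A'.ι v
    have h3 : IsSchImage f' (pullback.snd A'.ι v) := by
      refine isSchImage_of_isPullback hX.alg hV hqc him (fun T g hg => ?_) sq sqi
      exact repWith_flat_of_etale (MorphismProperty.comp_mem _ _ _ hg (K610.OpenImm.repWith_etale_of_open hv))
    obtain ⟨hi, h4, h5⟩ := (isSchImage_iff hV _ _).1 h3
    have h6 : ofClosed (pullback.snd A'.ι v) hi = pull A' v := by
      ext T g : 3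
      rw [ofClosed_of_isPullback A'.repWith_ι sqi hi, ofClosed_ι, pull_I]
    rw [h6] at h4 h5
    exact ⟨h4, h5⟩
  have hm := mono_of_repWith_isOpenImmersion hj
  refine ⟨A', ?_, fun {V} v hv hd T g => ?_⟩
  · obtain ⟨h3, h4⟩ := key j hj (𝟙 _) A.ι (K610.OpenImm.isPullback_id_of_mono A.ι j)
    exact le_antisymm (le_of_vanish_ι h3) (h4 _ (vanish_ι A))
  · have sq := IsPullback.of_hasPullback (A.ι ≫ j) v
    have h3 : Vanish (pullback.snd (A.ι ≫ j) v) (topFam V) := by
      intro T w
      have : IsEmpty T.left := ⟨fun t => by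
        refine hd (Points.map (pullback.fst (A.ι ≫ j) v) (Points.ofPt w t) |> Points.map A.ι) ⟨_, rfl⟩ ?_
        rw [← Points.map_comp, ← Points.map_comp, sq.w, Points.map_comp]
        exact ⟨_, rfl⟩⟩
      exact fam_eq_of_isEmpty _ _
    have h4 := (key v hv _ _ sq).2 _ h3 T g
    exact top_le_iff.1 h4

end K619.NagBlow
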