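import Groth.Agent.AlgSp.K619.NagKit

/-!
# Scheme theoretically dominant morphisms of algebraic spaces

`SDom f`: every closed subspace through which `f` factors is everything.
-/

set_option autoImplicit false
universe u
open CategoryTheory CategoryTheory.Limits AlgebraicGeometry Opposite TopologicalSpace

namespace K619.NagDom

open AlgSp K598.RepKit K598.ClFam K598.Charts K598.SchImg K597.ProperSub K597.ProperCancel K647.FamOps K619.NagKit

variable {S : Scheme.{u}} {X Y Z W B P X' Y' : Sp S}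

/-- `f` is scheme theoretically dominant. -/
def SDom (f : X ⟶ Y) : Prop := ∀ A : Fam Y, Vanish f A → ∀ (T : Over S) (g : (yon S).obj T ⟶ Y), A.I g = ⊥

theorem sdom_iff (hY : IsAlgSpace Y) (f : X ⟶ Y) : SDom f ↔ IsSchImage f (𝟙 Y) :=
  (K598.Dens.isSchImage_id_iff hY f).symm

theorem SDom.comp {f : X ⟶ Y} {g : Y ⟶ Z} (hf : SDom f) (hg : SDom g) : SDom (f ≫ g) := by
  intro A hA
  refine hg A fun T w => ?_
  have h1 : Vanish f (pull A g) := fun T w => by
    rw [pull_I, Category.assoc]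
    exact hA T w
  simpa using hf (pull A g) h1 T w

theorem SDom.of_comp {f : X ⟶ Y} {g : Y ⟶ Z} (h : SDom (f ≫ g)) : SDom g := by
  intro A hA
  refine h A fun T w => ?_
  have := hA T (w ≫ f)
  rwa [Category.assoc] at this

theorem SDom.isIso {f : X ⟶ Y} (h : SDom f) {i : Z ⟶ Y} (hi : RepWith @IsClosedImmersion i) {f' : X ⟶ Z}
    (w : f' ≫ i = f) : IsIso i :=
  isIso_of_eq_bot hi (h _ ((factors_iff_vanish f i hi).1 ⟨f', w⟩))

theorem sdom_of_isIso (f : X ⟶ Y) [IsIso f] : SDom f := by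
  intro A hA T g
  have := hA T (g ≫ inv f)
  rwa [Category.assoc, IsIso.inv_hom_id, Category.comp_id] at this

theorem sdom_image (hY : IsAlgSpace Y) {f : X ⟶ Y} {i : Z ⟶ Y} (h : IsSchImage f i) {f' : X ⟶ Z}
    (w : f' ≫ i = f) : SDom f' := by
  intro A hA T g
  have hZ : IsAlgSpace Z := alg_of_closed h.1 hY
  have hAc := A.isAlgSpace_sheaf hZ
  obtain ⟨k, hk⟩ := (A.factors_iff' f').2 hA
  obtain ⟨m, hm⟩ := h.2.2 (A.ι ≫ i) hAc (closed_comp A.repWith_ι h.1) ⟨k, by rw [← Category.assoc, hk, w]⟩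
  have : Mono i := mono_of_repWith_isClosedImmersion h.1
  have h1 : m ≫ A.ι = 𝟙 Z := by
    rw [← cancel_mono i, Category.assoc, hm, Category.id_comp]
  refine (A.factors_yon_iff' g).1 ⟨g ≫ m, ?_⟩
  rw [Category.assoc, h1, Category.comp_id]

theorem SDom.bc_flat (hY : IsAlgSpace Y) (hY' : IsAlgSpace Y') {f : X ⟶ Y} (hf : IsQuasiCompactMor f) (h : SDom f)
    {b : Y' ⟶ Y} (hb : ∀ (T : Over S) (g : (yon S).obj T ⟶ Y'), RepWith @Etale g → RepWith @Flat (g ≫ b))
    {f' : X' ⟶ Y'} {a : X' ⟶ X} (sq : IsPullback a f' f b) : SDom f' := by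
  rw [sdom_iff hY']
  have h1 : IsPullback b (𝟙 Y') (𝟙 Y) b := IsPullback.of_vert_isIso ⟨by simp⟩
  exact isSchImage_of_isPullback hY hY' hf ((sdom_iff hY f).1 h) hb sq h1

theorem SDom.bc (hY : IsAlgSpace Y) {f : X ⟶ Y} (hf : IsQuasiCompactMor f) (h : SDom f)
    {b : Y' ⟶ Y} (hb : RepWith @IsOpenImmersion b) {f' : X' ⟶ Y'} {a : X' ⟶ X} (sq : IsPullback a f' f b) :
    SDom f' := by
  refine h.bc_flat hY (alg_of_open hb hY) hf (fun T g hg => ?_) sq
  have h1 : RepWith @Etale (g ≫ b) := MorphismProperty.comp_mem _ _ _ hg (K610.OpenImm.repWith_etale_of_open hb)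
  exact repWith_flat_of_etale h1

theorem sdom_of_isSchDense (hX : IsAlgSpace X) {j : P ⟶ X} (hj : IsSchDense j) : SDom j :=
  (sdom_iff hX j).2 (K598.Dens.isSchImage_id_of_isSchDense hX hj)

/-- A scheme theoretically dominant section of a separated morphism is an isomorphism. -/
theorem isIso_section {p : P ⟶ X} (hp : IsSeparatedMor p) {s : X ⟶ P} (hs : s ≫ p = 𝟙 X) (h : SDom s) : IsIso s :=
  h.isIso (closed_of_section hs hp) (Category.id_comp s)

/-- If `γ : Γ ⟶ O` is separated, `u : U ⟶ O` an open immersion which lifts to a scheme theoretically dominant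
morphism `k : U ⟶ Γ`, the preimage of `U` in `Γ` is `U`. -/
theorem isPullback_of_sdom {U Γ O : Sp S} (hΓ : IsAlgSpace Γ) {γ : Γ ⟶ O} (hγ : IsSeparatedMor γ) {u : U ⟶ O}
    (hu : RepWith @IsOpenImmersion u) {k : U ⟶ Γ} (hk : k ≫ γ = u) (hkq : IsQuasiCompactMor k) (hkd : SDom k) :
    IsPullback k (𝟙 U) γ u := by
  have sq := IsPullback.of_hasPullback γ u
  have hfst : RepWith @IsOpenImmersion (pullback.fst γ u) := repWith_of_isPullback sq.flip hu
  have hsnd : IsSeparatedMor (pullback.snd γ u) := sep_bc sq hγ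
  let s : U ⟶ pullback γ u := pullback.lift k (𝟙 U) (by rw [hk, Category.id_comp])
  have hs1 : s ≫ pullback.fst γ u = k := pullback.lift_fst _ _ _
  have hs2 : s ≫ pullback.snd γ u = 𝟙 U := pullback.lift_snd _ _ _
  have hm := mono_of_repWith_isOpenImmersion hfst
  have sq1 : IsPullback (𝟙 U) s k (pullback.fst γ u) := by
    have := K610.OpenImm.isPullback_id_of_mono s (pullback.fst γ u)
    rwa [hs1] at this
  have hd : SDom s := hkd.bc hΓ hkq hfst sq1
  have : IsIso s := isIso_section hsnd hs2 hd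
  refine IsPullback.of_iso sq (asIso s).symm (Iso.refl _) (Iso.refl _) (Iso.refl _) ?_ ?_ (by simp) (by simp)
  · simp [← hs1]
  · simp only [Iso.symm_hom, asIso_inv, Iso.refl_hom, Category.comp_id]
    rw [← cancel_epi s, hs2, IsIso.hom_inv_id]

/-- An open immersion into a closed subspace: pull back along the closed immersion. -/
theorem open_of_comp_mono {a : X ⟶ Y} {j : Y ⟶ Z} [Mono j] (h : RepWith @IsOpenImmersion (a ≫ j)) :
    RepWith @IsOpenImmersion a := rep_of_comp_mono h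

end K619.NagDom
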