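import Groth.Agent.AlgSp.K604.NagRed
import Groth.Agent.AlgSp.K619.NagNoe
import Groth.Agent.AlgSp.K647.T3

/-!
# Nagata compactification of algebraic spaces: final assembly

Everything except the input (I) `K619.NagMain.Partial` for Noetherian algebraic spaces over the terminal scheme and
the two approximation statements S10038, S10040 over the terminal scheme.
-/

set_option autoImplicit false
universe u

open CategoryTheory CategoryTheory.Limits AlgebraicGeometry Opposite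

namespace K619.NagFin

open K604.NagRed K601.RelApprox

theorem nagNoe (HP : ∀ (B : AlgSp.Sp (⊤_ Scheme.{u})), K619.NagKit.Noe B → K619.NagMain.Partial B) :
    NagNoe (⊤_ Scheme.{u}) := by
  have : QuasiSeparatedSpace ↥(⊤_ Scheme.{u}) := inferInstance
  intro X B f hX hB hqc hqs hln hsep hft
  have hBn : K619.NagKit.Noe B := ⟨hB, hqc, hqs, hln⟩
  obtain ⟨Xc, j, g, hXc, hj, hg, h⟩ := K619.NagMain.nagata_noe K647.T3.t3 K647.T3.blEx (HP _ hBn) hBn hX (f := f) ⟨hsep, hft⟩
  exact ⟨Xc, j, g, hXc, hj, K619.NagKit.qcMor_of_noe (K619.NagKit.Noe.of_sft hX hBn ⟨hsep, hft⟩) hXc j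
    (K636.QcqsOver.isQuasiSeparatedSp_of_mor (K619.NagKit.qsMor_of_sep hg.1) hBn.qs), hg, h⟩

/-- **S10697** modulo the input (I) over the terminal scheme, S10038 and S10040. -/
theorem main (HP : ∀ (B : AlgSp.Sp (⊤_ Scheme.{u})), K619.NagKit.Noe B → K619.NagMain.Partial B)
    (H38 : ClosedInSep (⊤_ Scheme.{u})) (H40 : MorLim (⊤_ Scheme.{u}))
    {S : Scheme.{u}} [QuasiSeparatedSpace S] {X B : AlgSp.Space S} (f : X ⟶ B)
    (hBqc : AlgSp.IsQuasiCompactSp B.obj) (hBqs : AlgSp.IsQuasiSeparatedSp B.obj)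
    (hsep : AlgSp.IsSeparatedMor f.hom) (hft : AlgSp.IsFiniteTypeMor f.hom) :
    ∃ (Xc : AlgSp.Space S) (j : X ⟶ Xc) (g : Xc ⟶ B), AlgSp.RepWith @IsOpenImmersion j.hom ∧
      AlgSp.IsQuasiCompactMor j.hom ∧ AlgSp.IsProperMor g.hom ∧ j ≫ g = f :=
  K604.NagRed.main (nagNoe HP) H38 H40 f hBqc hBqs hsep hft

end K619.NagFin
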