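import Groth.Agent.AlgSp.K619.NagT3
import Groth.Agent.AlgSp.K640.ElemSep
import Groth.Agent.AlgSp.K596.ClosedQC
import Groth.Agent.S10696

/-!
# Gluing two open subspaces; the glued space is proper
-/

set_option autoImplicit false
universe u
open CategoryTheory CategoryTheory.Limits AlgebraicGeometry Opposite TopologicalSpace

namespace K619.NagGlue

open AlgSp K598.RepKit K598.ClFam K598.Charts K598.SchImg K647.FamOps
open K619.NagKit K619.NagDom K619.NagBlow K619.NagT3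

variable {S : Scheme.{u}} {X Y Z U V W B P X' C C' X₁ O N : Sp S}

theorem locP_of_family {P : MorphismProperty Scheme.{u}} (hP : K597.EtLoc P) {F G : Sp S} {ι : Type*} {W : ι → Sp S}
    (e : ∀ i, W i ⟶ F) (f : F ⟶ G) (hW : ∀ i, K597.HasAtlas (W i)) (hG : K597.HasAtlas G)
    (he : ∀ i, RepWith @Etale (e i)) (hs : ∀ x : Points F, ∃ i, x ∈ Set.range (Points.map (e i)))
    (h : ∀ i, LocP P (e i ≫ f)) : LocP P f := by
  refine K597.locP_of_local hP f fun U' a' ha' x => ?_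
  obtain ⟨i, w, hw⟩ := hs (Points.ofPt a' x)
  obtain ⟨U₀, a₀, ha₀, has₀⟩ := hW i
  obtain ⟨V, b, hb, hbs⟩ := hG
  obtain ⟨U, a, k, ha, has, hk⟩ := K597.exists_chart_over (e i ≫ f) a₀ ha₀ has₀ b hb hbs
  obtain ⟨W₁, p, q, sq, hq⟩ := K597.exists_sq2 (K597.etale_comp ha (he i)) a'
  obtain ⟨v, hv⟩ := K610.Base.surjective_ofPt has w
  have hp : Etale p.left := K597.repWith_prop' ha' sq
  obtain ⟨w₁, -, hw₁⟩ := K610.Base.exists_of_isPullback_charts sq v x (by
    rw [K610.Base.ofPt_comp, hv, hw])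
  exact ⟨U, V, W₁, a ≫ e i, b, k, p, q, hb, by rw [Category.assoc]; exact hk, h i a b k ha hb hk,
    sq.w, hp, hq, w₁, hw₁⟩

/-- Points in an elementary distinguished square. -/
theorem cover_of_isElemDistSq {j : U ⟶ W} {f : V ⟶ W} (h : IsElemDistSq j f) (w : Points W)
    (hw : w ∉ Set.range (Points.map j)) : w ∈ Set.range (Points.map f) := by
  obtain ⟨-, -, T, Q, i, p₁, p₂, h1, sq, h2⟩ := h
  have h3 : w ∈ Set.range (Points.map i) := by
    rw [h1.2.1]
    exact hw
  obtain ⟨t, rfl⟩ := h3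
  refine ⟨Points.map p₂ (Points.map (inv p₁) t), ?_⟩
  rw [← Points.map_comp, ← sq.w, Points.map_comp, ← Points.map_comp _ _ t, IsIso.inv_hom_id, Points.map_id]

/-- Gluing along an open subspace of both. -/
theorem exists_glue (hX : IsAlgSpace X) (hN : IsAlgSpace N) {o : O ⟶ X} {m : O ⟶ N} (ho : RepWith @IsOpenImmersion o)
    (hm : RepWith @IsOpenImmersion m) :
    ∃ (W : Sp S) (jX : X ⟶ W) (jN : N ⟶ W), IsAlgSpace W ∧ RepWith @IsOpenImmersion jX ∧
      RepWith @IsOpenImmersion jN ∧ IsElemDistSq jN jX ∧ IsPullback m o jN jX := by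
  have hO := alg_of_open ho hX
  obtain ⟨W, j, f, hp, hpb, hed⟩ := Groth.Agent.S10696.result (S := S) (U := ⟨N, hN⟩) (V := ⟨X, hX⟩) (V' := ⟨O, hO⟩)
    (ObjectProperty.homMk o) ho (ObjectProperty.homMk m) (sep_of_open hm) (K598.ElemSq.isEtaleMor_of_open hm)
  obtain ⟨W', j', f', hp', hpb', hed'⟩ := Groth.Agent.S10696.result (S := S) (U := ⟨X, hX⟩) (V := ⟨N, hN⟩)
    (V' := ⟨O, hO⟩)
    (ObjectProperty.homMk m) hm (ObjectProperty.homMk o) (sep_of_open ho) (K598.ElemSq.isEtaleMor_of_open ho)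
  have hq : IsPushout m o j.hom f.hom := K640.ElemDist.isPushout_of_isElemDistSq hX hed hpb.flip
  have hq' : IsPushout o m j'.hom f'.hom := K640.ElemDist.isPushout_of_isElemDistSq hN hed' hpb'.flip
  obtain ⟨e, he⟩ : ∃ e : W.obj ≅ W'.obj, f.hom ≫ e.hom = j'.hom := ⟨hq.isoIsPushout _ _ hq'.flip, by simp⟩
  refine ⟨W.obj, f.hom, j.hom, W.property, ?_, hed.1, hed, hpb.flip⟩
  have h2 : f.hom = j'.hom ≫ e.inv := by rw [← he, Category.assoc, e.hom_inv_id, Category.comp_id]
  rw [h2]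
  exact open_comp hed'.1 (repWith_of_isIso _)

/-- Restriction of a closed graph to an open subspace. -/
theorem _root_.K619.NagT3.CG.bc {b : X₁ ⟶ X} {f : Y ⟶ X} {v : C ⟶ X₁} {c : C ⟶ Y} (h : CG b f v c) {n : N ⟶ X₁} {m : C' ⟶ N}
    {k : C' ⟶ C} (sq : IsPullback m k n v) : CG (n ≫ b) f m (k ≫ c) := by
  have s1 := IsPullback.of_hasPullback b f
  obtain ⟨l, hl1, hl2, hl3⟩ := h.exists_closed s1
  have s2 := IsPullback.of_hasPullback n (pullback.fst b f)
  have s3 := (s2.flip.paste_horiz s1.flip).flip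
  have w : m ≫ n = (k ≫ l) ≫ pullback.fst b f := by rw [sq.w, Category.assoc, hl1]
  have e1 : s2.lift m (k ≫ l) w ≫ pullback.fst n (pullback.fst b f) = m := s2.lift_fst _ _ _
  have e2 : s2.lift m (k ≫ l) w ≫ pullback.snd n (pullback.fst b f) = k ≫ l := s2.lift_snd _ _ _
  have s4 : IsPullback (s2.lift m (k ≫ l) w) k (pullback.snd n (pullback.fst b f)) l :=
    IsPullback.of_right (by rw [e1, hl1]; exact sq) e2 s2
  refine CG.of_isPullback s3 (repWith_of_isPullback s4.flip hl3) e1 ?_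
  rw [← Category.assoc, e2, Category.assoc, hl2]

theorem sep_iff_closed_diag {f : X ⟶ Y} (h : IsSeparatedMor f) : RepWith @IsClosedImmersion (pullback.diagonal f) := h

theorem isClosedMor_of_closed {f : X ⟶ Y} (hY : IsAlgSpace Y) (h : RepWith @IsClosedImmersion f) : IsClosedMor f :=
  K597.ProperSub.isUnivClosedMor_of_closed h hY (𝟙 Y) (𝟙 X) f (IsPullback.of_horiz_isIso ⟨by simp⟩)

/-- The glued space is separated. -/
theorem sep_glue (hB : IsAlgSpace B) (hX : IsAlgSpace X) (hN : IsAlgSpace N) {o : O ⟶ X} {m : O ⟶ N}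
    {jX : X ⟶ W} {jN : N ⟶ W} (hW : IsAlgSpace W) (hjX : RepWith @IsOpenImmersion jX) (hed : IsElemDistSq jN jX)
    (hpb : IsPullback m o jN jX) (g : W ⟶ B) (h1 : IsSeparatedMor (jX ≫ g)) (h2 : IsSeparatedMor (jN ≫ g))
    (hcg : CG (jN ≫ g) (jX ≫ g) m o) : IsSeparatedMor g := by
  have hm := mono_of_repWith_isOpenImmersion hjX
  have hO : IsAlgSpace (pullback (jN ≫ g) (jX ≫ g)) := K613.Chart.isAlgSpace_pullback hN hX hB _ _
  refine K640.ElemSep.isSeparatedMor_of_isElemDistSq hN hX hW g hed h2 hpb (IsPullback.of_hasPullback (jN ≫ g) (jX ≫ g))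
    (c := pullback.lift m o hcg.w) (pullback.lift_fst _ _ _) (pullback.lift_snd _ _ _)
    (isClosedMor_of_closed hO hcg.closed) (rX₁ := 𝟙 X) (rX₂ := 𝟙 X) (IsKernelPair.id_of_mono jX)
    (IsPullback.of_hasPullback (jX ≫ g) (jX ≫ g)) (pullback.diagonal (jX ≫ g)) (pullback.diagonal_fst _)
    (pullback.diagonal_snd _) h1

/-- **The gluing step.** `Ub` is proper over `B`, covered by the open subspaces `N` and `Γ`, with intersection `O`;
`p : Γ ⟶ X` is such that `Γ` is closed in `Ub ×_B X`, `O` is also open in `X` and the rest of `X` is covered by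
something proper.  Then `X` is open in the gluing of `X` and `N` along `O`, which is proper over `B`. -/
theorem glue {Γ Ub Z : Sp S} (hB : IsAlgSpace B) (hX : IsAlgSpace X) (hUb : IsAlgSpace Ub) (hZ : IsAlgSpace Z)
    {f : X ⟶ B} {q : Ub ⟶ B} (hf : SFT f) (hq : IsProperMor q) {o : O ⟶ X} (ho : RepWith @IsOpenImmersion o)
    {n : N ⟶ Ub} (hn : RepWith @IsOpenImmersion n) {v : Γ ⟶ Ub} (hv : RepWith @IsOpenImmersion v) {p : Γ ⟶ X}
    (hcg : CG q f v p) {m : O ⟶ N} {k : O ⟶ Γ} (sq : IsPullback m k n v) (hk : k ≫ p = o)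
    (hcov : ∀ x : Points Ub, x ∉ Set.range (Points.map n) → x ∈ Set.range (Points.map v))
    {z : Z ⟶ X} (hz : IsProperMor (z ≫ f))
    (hcov' : ∀ x : Points X, x ∈ Set.range (Points.map o) ∨ x ∈ Set.range (Points.map z)) :
    ∃ (W : Sp S) (j : X ⟶ W) (g : W ⟶ B), IsAlgSpace W ∧ RepWith @IsOpenImmersion j ∧ IsProperMor g ∧ j ≫ g = f := by
  have hN := alg_of_open hn hUb
  have hΓ := alg_of_open hv hUb
  have hm : RepWith @IsOpenImmersion m := repWith_of_isPullback sq.flip hv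
  obtain ⟨W, jX, jN, hW, hjX, hjN, hed, hpb⟩ := exists_glue hX hN ho hm
  have hpo : IsPushout m o jN jX := K640.ElemDist.isPushout_of_isElemDistSq hX hed hpb
  have w1 : m ≫ n ≫ q = o ≫ f := by
    rw [← Category.assoc, sq.w, Category.assoc, hcg.w, ← Category.assoc, hk]
  obtain ⟨g, hg1, hg2⟩ : ∃ g : W ⟶ B, jN ≫ g = n ≫ q ∧ jX ≫ g = f :=
    ⟨hpo.desc _ _ w1, hpo.inl_desc _ _ _, hpo.inr_desc _ _ _⟩
  have hcg' : CG (jN ≫ g) (jX ≫ g) m o := by
    rw [hg1, hg2, ← hk]
    exact hcg.bc sq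
  have hsep : IsSeparatedMor g := by
    refine sep_glue hB hX hN hW hjX hed hpb g ?_ ?_ hcg'
    · rw [hg2]
      exact hf.sep
    · rw [hg1]
      exact sep_comp (sep_of_open hn) hq.1
  -- the map from `Ub`
  have hed2 : IsElemDistSq n v := K598.ElemSq.isElemDistSq_of_open hUb hn hv hcov
  have hpo2 : IsPushout m k n v := K640.ElemDist.isPushout_of_isElemDistSq hΓ hed2 sq
  have w2 : m ≫ jN = k ≫ p ≫ jX := by rw [hpb.w, ← Category.assoc, hk]
  obtain ⟨t, ht1, ht2⟩ : ∃ t : Ub ⟶ W, n ≫ t = jN ∧ v ≫ t = p ≫ jX :=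
    ⟨hpo2.desc _ _ w2, hpo2.inl_desc _ _ _, hpo2.inr_desc _ _ _⟩
  have htg : t ≫ g = q := by
    apply hpo2.hom_ext
    · rw [← Category.assoc, ht1, hg1]
    · rw [← Category.assoc, ht2, Category.assoc, hg2, hcg.w]
  have hcW : ∀ w : Points W, w ∈ Set.range (Points.map jN) ∨ w ∈ Set.range (Points.map jX) := fun w => by
    by_cases hw : w ∈ Set.range (Points.map jN)
    · exact Or.inl hw
    · exact Or.inr (cover_of_isElemDistSq hed w hw)
  have huc : IsUnivClosedMor g := by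
    refine K597.ProperSub.isUnivClosedMor_of_family (n := 2) (W := ![Ub, Z])
      (g := fun i => match i with | 0 => t | 1 => z ≫ jX) ?_ ?_
    · intro w
      have key : ∀ y : Points N, Points.map jN y ∈ Set.range (Points.map t) := fun y =>
        ⟨Points.map n y, by rw [← Points.map_comp, ht1]⟩
      rcases hcW w with ⟨y, rfl⟩ | ⟨x, rfl⟩
      · exact ⟨0, key y⟩
      · rcases hcov' x with ⟨y, rfl⟩ | ⟨y, rfl⟩
        · refine ⟨0, ?_⟩
          rw [← Points.map_comp, ← hpb.w, Points.map_comp]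
          exact key _
        · exact ⟨1, y, Points.map_comp z jX y⟩
    · intro i
      fin_cases i
      · change IsUnivClosedMor (t ≫ g)
        rw [htg]
        exact hq.2.2
      · change IsUnivClosedMor ((z ≫ jX) ≫ g)
        rw [Category.assoc, hg2]
        exact hz.2.2
  refine ⟨W, jX, g, hW, hjX, ⟨hsep, ⟨?_, K596.ClosedQC.isQuasiCompactMor_of_isUnivClosedMor hW hB huc⟩, huc⟩, hg2⟩
  refine locP_of_family K597.etLoc_lft (W := fun b : Bool => bif b then N else X)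
    (fun b => match b with | true => jN | false => jX) g ?_ hB.hasAtlas ?_ ?_ ?_
  · rintro (_ | _)
    exacts [hX.hasAtlas, hN.hasAtlas]
  · rintro (_ | _)
    exacts [K610.OpenImm.repWith_etale_of_open hjX, K610.OpenImm.repWith_etale_of_open hjN]
  · intro w
    rcases hcW w with h | h
    exacts [⟨true, h⟩, ⟨false, h⟩]
  · rintro (_ | _)
    · change LocP _ (jX ≫ g)
      rw [hg2]
      exact hf.ft.1
    · change LocP _ (jN ≫ g)
      rw [hg1]
      exact K597.locP_precomp (K610.OpenImm.repWith_etale_of_open hn) hq.2.1.1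

end K619.NagGlue
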