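import Groth.Agent.AlgSp.K597.ProperCancel
import Groth.Agent.AlgSp.K597.Proper
import Groth.Agent.AlgSp.K597.UnivInj
import Groth.Agent.AlgSp.K596.QC2
import Groth.Agent.AlgSp.K610.Noeth
import Groth.Agent.AlgSp.K610.OpenImm
import Groth.Agent.AlgSp.K636.QcqsOver
import Groth.Agent.AlgSp.K647.EtLoc
import Groth.Agent.AlgSp.K647.FamOps
import Groth.Agent.AlgSp.K598.Dens
import Groth.Agent.AlgSp.K598.ElemSq

/-!
# Noetherian algebraic spaces, separated morphisms of finite type

Elementary stability properties in the form used for the compactification theorem.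
-/

set_option autoImplicit false
universe u
open CategoryTheory CategoryTheory.Limits AlgebraicGeometry Opposite TopologicalSpace

namespace K619.NagKit

open AlgSp K598.RepKit K598.ClFam K598.Charts K598.SchImg K597.ProperSub K597.ProperCancel

variable {S : Scheme.{u}} {X Y Z W B P : Sp S}

/-- Noetherian algebraic spaces. -/
structure Noe (X : Sp S) : Prop where
  alg : IsAlgSpace X
  qc : IsQuasiCompactSp X
  qs : IsQuasiSeparatedSp X
  ln : IsLocNoethSp X

/-- Separated of finite type. -/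
structure SFT (f : X ⟶ Y) : Prop where
  sep : IsSeparatedMor f
  ft : IsFiniteTypeMor f

theorem qsMor_of_sep {f : X ⟶ Y} (h : IsSeparatedMor f) : IsQuasiSeparatedMor f :=
  RepKit_mono h
where
  RepKit_mono {f : X ⟶ Y} (h : IsSeparatedMor f) : IsQuasiSeparatedMor f :=
    K598.RepKit.repWith_mono (P := @IsClosedImmersion) (Q := @QuasiCompact)
      (fun _ _ g (_ : IsClosedImmersion g) => (inferInstance : QuasiCompact g)) h

theorem sep_comp {f : X ⟶ Y} {g : Y ⟶ Z} (hf : IsSeparatedMor f) (hg : IsSeparatedMor g) :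
    IsSeparatedMor (f ≫ g) :=
  K595.DiagRel.isSeparatedMor_isMultiplicative.comp_mem _ _ hf hg

theorem sep_bc {f : X ⟶ Y} {g : Z ⟶ Y} {fst : P ⟶ X} {snd : P ⟶ Z} (sq : IsPullback fst snd f g)
    (h : IsSeparatedMor f) : IsSeparatedMor snd :=
  MorphismProperty.of_isPullback (P := IsSeparatedMor (S := S)) sq h

theorem ft_comp (hX : IsAlgSpace X) (hY : IsAlgSpace Y) (hZ : IsAlgSpace Z) {f : X ⟶ Y} {g : Y ⟶ Z}
    (hf : IsFiniteTypeMor f) (hg : IsFiniteTypeMor g) : IsFiniteTypeMor (f ≫ g) :=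
  ⟨K597.locP_comp K597.etLoc_lft hX.hasAtlas hY.hasAtlas hZ.hasAtlas hf.1 hg.1,
    K596.QC.isQuasiCompactMor_comp hY hZ hf.2 hg.2⟩

theorem ft_bc (hX : IsAlgSpace X) (hY : IsAlgSpace Y) (hZ : IsAlgSpace Z) {f : X ⟶ Y} {g : Z ⟶ Y} {fst : P ⟶ X}
    {snd : P ⟶ Z} (sq : IsPullback fst snd f g) (h : IsFiniteTypeMor f) : IsFiniteTypeMor snd :=
  ⟨K597.locP_bc K597.etLoc_lft sq hX.hasAtlas hY.hasAtlas hZ.hasAtlas h.1,
    K596.QC.isQuasiCompactMor_of_isPullback sq h.2⟩

theorem SFT.comp (hX : IsAlgSpace X) (hY : IsAlgSpace Y) (hZ : IsAlgSpace Z) {f : X ⟶ Y} {g : Y ⟶ Z}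
    (hf : SFT f) (hg : SFT g) : SFT (f ≫ g) := ⟨sep_comp hf.sep hg.sep, ft_comp hX hY hZ hf.ft hg.ft⟩

theorem SFT.bc (hX : IsAlgSpace X) (hY : IsAlgSpace Y) (hZ : IsAlgSpace Z) {f : X ⟶ Y} {g : Z ⟶ Y} {fst : P ⟶ X}
    {snd : P ⟶ Z} (sq : IsPullback fst snd f g) (h : SFT f) : SFT snd := ⟨sep_bc sq h.sep, ft_bc hX hY hZ sq h.ft⟩

theorem SFT.of_comp (hX : IsAlgSpace X) (hY : IsAlgSpace Y) (hZ : IsAlgSpace Z) {f : X ⟶ Y} {g : Y ⟶ Z}
    (h : SFT (f ≫ g)) (hg : IsSeparatedMor g) : SFT f :=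
  ⟨isSeparatedMor_of_comp h.sep, locP_lft_of_comp hX hY hZ h.ft.1,
    K596.QC2.isQuasiCompactMor_of_comp hX hY h.ft.2 (qsMor_of_sep hg)⟩

theorem sft_of_proper {f : X ⟶ Y} (h : IsProperMor f) : SFT f := ⟨h.1, h.2.1⟩

theorem Noe.of_sft {f : X ⟶ Y} (hX : IsAlgSpace X) (hY : Noe Y) (hf : SFT f) : Noe X where
  alg := hX
  qc := K636.QcqsOver.isQuasiCompactSp_of_mor hf.ft.2 hY.alg hY.qc
  qs := K636.QcqsOver.isQuasiSeparatedSp_of_mor (qsMor_of_sep hf.sep) hY.qs
  ln := by
    obtain ⟨V, b, hb, hbs⟩ := hY.alg.atlas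
    obtain ⟨U₀, a₀, ha₀, ha₀s⟩ := hX.atlas
    obtain ⟨U, a, h, ha, has, w⟩ := K597.exists_chart_over f a₀ ha₀ ha₀s b hb hbs
    have h1 : LocallyOfFiniteType h.left := hf.ft.1 a b h ha hb w
    have h2 : IsLocallyNoetherian V.left := K647.EtLoc.isLocallyNoetherian_chart hY.ln hb
    exact ⟨U, a, ha, has, LocallyOfFiniteType.isLocallyNoetherian h.left⟩

theorem Noe.locallyNoeth (hX : Noe X) {U : Over S} {a : (yon S).obj U ⟶ X} (ha : RepWith @Etale a) :
    IsLocallyNoetherian U.left := K647.EtLoc.isLocallyNoetherian_chart hX.ln ha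

theorem Noe.noetherianSpace (hX : Noe X) : NoetherianSpace (Points X) := by
  have := K610.Noeth.compactSpace_points hX.qc
  exact K610.Noeth.noetherianSpace_of_local (K610.Noeth.exists_nhd hX.ln)

/-! ### Open and closed immersions -/

theorem alg_of_open {i : X ⟶ Y} (hi : RepWith @IsOpenImmersion i) (hY : IsAlgSpace Y) : IsAlgSpace X :=
  isAlgSpace_of_repWith_isOpenImmersion hi hY

theorem alg_of_closed {i : X ⟶ Y} (hi : RepWith @IsClosedImmersion i) (hY : IsAlgSpace Y) : IsAlgSpace X :=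
  isAlgSpace_of_repWith_isClosedImmersion hi hY

theorem sep_of_mono (i : X ⟶ Y) [Mono i] : IsSeparatedMor i := by
  unfold IsSeparatedMor
  exact repWith_of_isIso _

theorem sep_of_open {i : X ⟶ Y} (hi : RepWith @IsOpenImmersion i) : IsSeparatedMor i := by
  have := mono_of_repWith_isOpenImmersion hi
  exact sep_of_mono i

theorem open_comp {i : X ⟶ Y} {j : Y ⟶ Z} (hi : RepWith @IsOpenImmersion i) (hj : RepWith @IsOpenImmersion j) :
    RepWith @IsOpenImmersion (i ≫ j) := MorphismProperty.comp_mem _ _ _ hi hj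

theorem closed_comp {i : X ⟶ Y} {j : Y ⟶ Z} (hi : RepWith @IsClosedImmersion i)
    (hj : RepWith @IsClosedImmersion j) : RepWith @IsClosedImmersion (i ≫ j) := MorphismProperty.comp_mem _ _ _ hi hj

theorem noe_of_open {i : X ⟶ Y} (hi : RepWith @IsOpenImmersion i) (hY : Noe Y) : Noe X := by
  have hX := alg_of_open hi hY.alg
  have hm := mono_of_repWith_isOpenImmersion hi
  have hN := hY.noetherianSpace
  have hemb := K610.OpenImm.isOpenEmbedding_points hY.alg hi
  refine ⟨hX, ?_, ?_, ?_⟩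
  · have h1 : NoetherianSpace (Points X) := hemb.isInducing.noetherianSpace
    exact K596.QC.isQuasiCompactSp_of_surjective hX (𝟙 X) (fun x => ⟨x, Points.map_id x⟩) inferInstance
  · exact K636.QcqsOver.isQuasiSeparatedSp_of_mor (qsMor_of_sep (sep_of_mono i)) hY.qs
  · obtain ⟨U, a, ha, has⟩ := hX.atlas
    refine ⟨U, a, ha, has, hY.locallyNoeth (a := a ≫ i) ?_⟩
    exact MorphismProperty.comp_mem _ _ _ ha (K610.OpenImm.repWith_etale_of_open hi)

theorem qcMor_of_noe {S : Scheme.{u}} {X Y : Sp S} (hX : Noe X) (hY : IsAlgSpace Y)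
    (f : X ⟶ Y) (hYs : IsQuasiSeparatedSp Y) [QuasiSeparatedSpace ↥S] : IsQuasiCompactMor f :=
  K596.QC2.isQuasiCompactMor_of_qc_of_qs hX.alg hY f hX.qc hYs

theorem sft_of_open [QuasiSeparatedSpace ↥S] {i : X ⟶ Y} (hi : RepWith @IsOpenImmersion i) (hY : Noe Y) : SFT i := by
  refine ⟨sep_of_open hi, ?_, qcMor_of_noe (noe_of_open hi hY) hY.alg i hY.qs⟩
  exact K597.locP_of_repWith (P := @LocallyOfFiniteType) (fun _ _ _ e f h1 h2 => inferInstance)
    (K598.RepKit.repWith_mono (Q := @LocallyOfFiniteType)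
      (fun _ _ g (_ : IsOpenImmersion g) => (inferInstance : LocallyOfFiniteType g)) hi)

theorem sft_of_closed {i : X ⟶ Y} (hi : RepWith @IsClosedImmersion i) (hY : IsAlgSpace Y) : SFT i :=
  sft_of_proper (isProperMor_of_closed hY hi)

theorem noe_of_closed {i : X ⟶ Y} (hi : RepWith @IsClosedImmersion i) (hY : Noe Y) : Noe X :=
  Noe.of_sft (alg_of_closed hi hY.alg) hY (sft_of_closed hi hY.alg)

/-- If `a ≫ i` has `P` and `i` is a monomorphism, `a` has `P`. -/
theorem rep_of_comp_mono {P : MorphismProperty Scheme.{u}} {a : X ⟶ Y} {j : Y ⟶ Z} [Mono j]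
    (h : RepWith P (a ≫ j)) : RepWith P a := K610.OpenImm.repWith_of_comp_mono h

/-- A section of a separated morphism is a closed immersion. -/
theorem closed_of_section {f : X ⟶ Y} {s : Y ⟶ X} (hs : s ≫ f = 𝟙 Y) (hf : IsSeparatedMor f) :
    RepWith @IsClosedImmersion s := K595.DiagRel.repWith_section f s hs hf

theorem points_injective_of_open {i : X ⟶ Y} (hi : RepWith @IsOpenImmersion i) : Function.Injective (Points.map i) :=
  K597.UnivInj.injective_of_repWith
    (K598.RepKit.repWith_mono (fun _ _ f (_ : IsOpenImmersion f) => (inferInstance : UniversallyInjective f)) hi)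

theorem points_injective_of_closed {i : X ⟶ Y} (hi : RepWith @IsClosedImmersion i) :
    Function.Injective (Points.map i) :=
  K597.UnivInj.injective_of_repWith
    (K598.RepKit.repWith_mono (fun _ _ f (_ : IsClosedImmersion f) => (inferInstance : UniversallyInjective f)) hi)

/-- A proper monomorphism which is representable is a closed immersion. -/
theorem closed_of_proper_open (hY : IsAlgSpace Y) {i : X ⟶ Y} (hi : RepWith @IsOpenImmersion i) (hp : IsProperMor i) :
    RepWith @IsClosedImmersion i := by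
  have h1 : RepWith @IsProper i := (K597.Proper.isProperMor_iff_repWith hY hi.1).1 hp
  refine ⟨hi.1, fun T V a b c sq => ?_⟩
  have h2 : IsOpenImmersion _ := hi.2 _ _ _ sq
  have h3 : IsProper _ := h1.2 _ _ _ sq
  exact (IsClosedImmersion.iff_isProper_and_mono _).2 ⟨h3, inferInstance⟩
end K619.NagKit
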