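import Groth.Agent.AlgSp.K619.NagGlue

/-!
# Compactifying the union of a compactifiable open subspace and a closed subspace which is already compact

`Comp f`: the morphism `f : X ⟶ B` is an open immersion followed by a proper morphism.  Main result `comp_of_glue`:
let `Y ⟶ B` be separated of finite type, `x : X ⟶ Y` an open subspace, `z : Z ⟶ Y` a closed subspace proper over `B`.
If the open subspace `X - Z` of `X` is compactifiable over `B`, so is `X`.
-/

set_option autoImplicit false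
universe u
open CategoryTheory CategoryTheory.Limits AlgebraicGeometry Opposite TopologicalSpace

namespace K619.NagMain

open AlgSp K598.RepKit K598.ClFam K598.Charts K598.SchImg K647.FamOps
open K619.NagKit K619.NagDom K619.NagBlow K619.NagT3 K619.NagGlue

variable {S : Scheme.{u}} {X Y Z U V W B P X' C C' X₁ O N Ub Γ : Sp S}

/-- `f` is compactifiable. -/
def Comp (f : X ⟶ B) : Prop :=
  ∃ (Xc : Sp S) (j : X ⟶ Xc) (g : Xc ⟶ B), IsAlgSpace Xc ∧ RepWith @IsOpenImmersion j ∧ IsProperMor g ∧ j ≫ g = f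

theorem isPullback_of_range {x : X ⟶ Y} {o : O ⟶ Y} {uX : U ⟶ X} {u : U ⟶ O} (ho : RepWith @IsOpenImmersion o)
    (huX : RepWith @IsOpenImmersion uX) (w : uX ≫ x = u ≫ o)
    (h : Points.map x ⁻¹' Set.range (Points.map o) ⊆ Set.range (Points.map uX)) : IsPullback uX u x o := by
  have sq := IsPullback.of_hasPullback x o
  have hm := mono_of_repWith_isOpenImmersion ho
  have hfst : RepWith @IsOpenImmersion (pullback.fst x o) := repWith_of_isPullback sq.flip ho
  have hr : Set.range (Points.map (pullback.fst x o)) = Set.range (Points.map uX) := by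
    rw [range_of_isPullback sq.flip]
    refine Set.Subset.antisymm h ?_
    rintro _ ⟨y, rfl⟩
    exact ⟨Points.map u y, by rw [← Points.map_comp, ← w, Points.map_comp]⟩
  obtain ⟨e, he⟩ := K598.ElemSq.exists_iso_of_range_eq hfst huX hr
  refine IsPullback.of_iso sq e (Iso.refl _) (Iso.refl _) (Iso.refl _) ?_ ?_ (by simp) (by simp)
  · rw [he]
    simp
  · rw [← cancel_mono o]
    simp only [Iso.refl_hom, Category.comp_id, Category.assoc]
    rw [← w, ← Category.assoc, he, sq.w]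

section

variable [QuasiSeparatedSpace ↥S]

/-- Scheme theoretic closure. -/
theorem exists_closure (hX : Noe X) (hY : Noe Y) (x : X ⟶ Y) :
    ∃ (Y' : Sp S) (i : Y' ⟶ Y) (x' : X ⟶ Y'), IsAlgSpace Y' ∧ RepWith @IsClosedImmersion i ∧ x' ≫ i = x ∧
      SDom x' := by
  obtain ⟨A, h1, h2, -⟩ := exists_image hY.alg (qcMor_of_noe hX hY.alg x hY.qs)
  have him : IsSchImage x A.ι := (isSchImage_iff hY.alg _ _).2 ⟨A.repWith_ι, by rwa [ofClosed_ι], by
    rwa [ofClosed_ι]⟩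
  obtain ⟨s', hs'⟩ := him.2.1
  exact ⟨_, A.ι, s', A.isAlgSpace_sheaf hY.alg, A.repWith_ι, hs', sdom_image hY.alg him hs'⟩

/-- First and third step: after a blow-up of the compactification `Ub` of `U`, the morphism `U ⟶ O` extends to a proper
morphism `Γ ⟶ O`, where `Γ` is open in `Ub`. -/
theorem stepA (H : T3 S) (HB : BlEx S) (hB : Noe B) (hUb : IsAlgSpace Ub) {q : Ub ⟶ B} (hq : IsProperMor q)
    {uB : U ⟶ Ub} (huB : RepWith @IsOpenImmersion uB) (hd : SDom uB) (hO : IsAlgSpace O) {o : O ⟶ B} (ho : SFT o)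
    {u : U ⟶ O} (hu : RepWith @IsOpenImmersion u) (w : u ≫ o = uB ≫ q) :
    ∃ (Ub' Γ : Sp S) (q' : Ub' ⟶ B) (v : Γ ⟶ Ub') (γ : Γ ⟶ O) (k : U ⟶ Γ), IsAlgSpace Ub' ∧ IsProperMor q' ∧
      RepWith @IsOpenImmersion v ∧ CG q' o v γ ∧ k ≫ γ = u ∧ RepWith @IsOpenImmersion k ∧ SDom k ∧ SDom (k ≫ v) ∧
      IsPullback k (𝟙 U) γ u := by
  have hUbn : Noe Ub := Noe.of_sft hUb hB (sft_of_proper hq)
  have hU : Noe U := noe_of_open huB hUbn
  obtain ⟨J, hJ, hJ2⟩ := exists_graph H hB.alg hUbn hO huB hd ho w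
  obtain ⟨Ub', b, hb⟩ := HB J hUbn
  obtain ⟨Γ, v, γ, k, k1, k2, k3, k4⟩ := hJ2 b hb
  have hq' : IsProperMor (b ≫ q) := K597.ProperSub.isProperMor_comp hb.alg hUb hB.alg (hb.proper hUbn) hq
  have hUb'n := hb.noe hUbn
  have hΓ : Noe Γ := noe_of_open k2 hUb'n
  have w' : (k ≫ v) ≫ b = uB := by rw [Category.assoc, k3]
  have h1 : RepWith @IsOpenImmersion (k ≫ v) := hb.open_lift hUb huB hJ w'
  have h2 : SDom (k ≫ v) := hb.sdom_lift hUbn huB hd hJ w'
  have hm := mono_of_repWith_isOpenImmersion k2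
  have h3 : RepWith @IsOpenImmersion k := rep_of_comp_mono h1
  have h4 : SDom k := h2.bc hb.alg (qcMor_of_noe hU hb.alg _ hUb'n.qs) k2 (K610.OpenImm.isPullback_id_of_mono k v)
  have hγ : IsProperMor γ := k1.proper_right hB.alg hb.alg hO hq'
  exact ⟨Ub', Γ, b ≫ q, v, γ, k, hb.alg, hq', k2, k1, k4, h3, h4, h2,
    isPullback_of_sdom hΓ.alg hγ.1 hu k4 (qcMor_of_noe hU hΓ.alg _ hΓ.qs) h4⟩

/-- Second step: after blowing up `Y` and `Ub`, the space `O` becomes an open subspace of `Ub`. -/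
theorem stepB (H : T3 S) (HB : BlEx S) (hB : Noe B) (hY : IsAlgSpace Y) {f : Y ⟶ B} (hf : SFT f) {x : X ⟶ Y}
    (hx : RepWith @IsOpenImmersion x) (hxd : SDom x) {z : Z ⟶ Y} (hz : RepWith @IsClosedImmersion z)
    (hzf : IsProperMor (z ≫ f)) {o : O ⟶ Y} (ho : RepWith @IsOpenImmersion o)
    (hr : Set.range (Points.map o) = (Set.range (Points.map z))ᶜ) {uX : U ⟶ X} {u : U ⟶ O}
    (sqU : IsPullback uX u x o) (hUb : IsAlgSpace Ub) {q : Ub ⟶ B} (hq : IsProperMor q) {v : Γ ⟶ Ub}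
    (hv : RepWith @IsOpenImmersion v) {γ : Γ ⟶ O} (hcg : CG q (o ≫ f) v γ) {k : U ⟶ Γ} (hk : k ≫ γ = u)
    (hko : RepWith @IsOpenImmersion k) (hkd : SDom k) (hkv : SDom (k ≫ v)) :
    ∃ (X₁ O₁ Z₁ Ub₁ : Sp S) (f₁ : X₁ ⟶ B) (x₁ : X ⟶ X₁) (z₁ : Z₁ ⟶ X₁) (o₁ : O₁ ⟶ X₁) (q₁ : Ub₁ ⟶ B)
      (e : O₁ ⟶ Ub₁), IsAlgSpace X₁ ∧ IsAlgSpace Ub₁ ∧ SFT f₁ ∧ RepWith @IsOpenImmersion x₁ ∧ x₁ ≫ f₁ = x ≫ f ∧
        RepWith @IsClosedImmersion z₁ ∧ IsProperMor (z₁ ≫ f₁) ∧ RepWith @IsOpenImmersion o₁ ∧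
        Set.range (Points.map o₁) = (Set.range (Points.map z₁))ᶜ ∧ IsProperMor q₁ ∧ RepWith @IsOpenImmersion e ∧
        SDom e ∧ o₁ ≫ f₁ = e ≫ q₁ := by
  have hYn : Noe Y := Noe.of_sft hY hB hf
  have hOn : Noe O := noe_of_open ho hYn
  have hXn : Noe X := noe_of_open hx hYn
  have hUbn : Noe Ub := Noe.of_sft hUb hB (sft_of_proper hq)
  have hΓ : Noe Γ := noe_of_open hv hUbn
  have hUn : Noe U := noe_of_open hko hΓ
  have hof : SFT (o ≫ f) := SFT.comp hOn.alg hY hB.alg (sft_of_open ho hYn) hf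
  have hγ : IsProperMor γ := hcg.proper_right hB.alg hUb hOn.alg hq
  have hu : RepWith @IsOpenImmersion u := repWith_of_isPullback sqU hx
  have hud : SDom u := hxd.bc hY (qcMor_of_noe hXn hY x hYn.qs) ho sqU
  obtain ⟨J, hJ, hJ2⟩ := exists_section H hOn hΓ.alg hu hud (sft_of_proper hγ) hk
  -- extension of `J` to `Y`, blow-up of `Y`
  obtain ⟨A, hA1, hA2⟩ := exists_extend hYn ho J
  have hAx : Away A x := by
    refine hA2 x hx ?_
    rintro y hy ⟨x', hx'⟩
    obtain ⟨t, -, ht⟩ := K610.Base.exists_of_isPullback sqU x' y hx'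
    exact away_iff.1 hJ ⟨t, ht⟩ hy
  obtain ⟨X₁, β, hβ⟩ := HB A hYn
  have hX₁n := hβ.noe hYn
  obtain ⟨x₁, hx₁⟩ := hβ.lift hXn.alg (cart_of_away hAx)
  have hx₁o := hβ.open_lift hY hx hAx hx₁
  have sqO := IsPullback.of_hasPullback β o
  have ho₁ : RepWith @IsOpenImmersion (pullback.fst β o) := repWith_of_isPullback sqO.flip ho
  have hβO : Bl J (pullback.snd β o) := by
    have := hβ.bc ho sqO
    rwa [hA1] at this
  have hO₁n : Noe (pullback β o) := noe_of_open ho₁ hX₁n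
  -- `O₁` maps to `Γ`
  obtain ⟨C, v', c, k', k1, k2, k3⟩ := hJ2 _ hβO
  have hv'p : IsProperMor v' := k1.flip.proper_right hOn.alg hΓ.alg hO₁n.alg hγ
  have hv'c : RepWith @IsClosedImmersion v' := closed_of_proper_open hO₁n.alg k2 hv'p
  have hu₁ : (k' ≫ v') ≫ pullback.snd β o = u := by
    rw [Category.assoc, k1.w, ← Category.assoc, k3, hk]
  have hu₁d : SDom (k' ≫ v') := hβO.sdom_lift hOn hu hud hJ hu₁
  have hiso : IsIso v' := hu₁d.isIso hv'c rfl
  obtain ⟨w, hw1, hw2⟩ : ∃ w : pullback β o ⟶ Γ, w ≫ γ = pullback.snd β o ∧ (k' ≫ v') ≫ w = k := by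
    refine ⟨inv v' ≫ c, ?_, ?_⟩
    · rw [Category.assoc, ← k1.w, IsIso.inv_hom_id_assoc]
    · rw [Category.assoc, IsIso.hom_inv_id_assoc, k3]
  -- blow-up of `Ub`
  obtain ⟨D, hD1, -⟩ := exists_extend hUbn hv (pull J γ)
  have hDk : Away (pull J γ) k := by
    rw [away_pull, hk]
    exact hJ
  have hDkv : Away D (k ≫ v) := by
    rw [← away_pull, hD1]
    exact hDk
  obtain ⟨Ub₁, β', hβ'⟩ := HB D hUbn
  have hUb₁n := hβ'.noe hUbn
  have sqΓ := IsPullback.of_hasPullback β' v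
  have hv₁ : RepWith @IsOpenImmersion (pullback.fst β' v) := repWith_of_isPullback sqΓ.flip hv
  have hβΓ : Bl (pull J γ) (pullback.snd β' v) := by
    have := hβ'.bc hv sqΓ
    rwa [hD1] at this
  have hΓ₁n : Noe (pullback β' v) := noe_of_open hv₁ hUb₁n
  obtain ⟨k₁, hk₁⟩ := hβΓ.lift hUn.alg (cart_of_away hDk)
  have hk₁d : SDom k₁ := hβΓ.sdom_lift hΓ hko hkd hDk hk₁
  obtain ⟨w₁, hw₁⟩ := hβΓ.lift hO₁n.alg (g := w) (by
    rw [cart_pull, hw1]
    exact hβO.cart)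
  obtain ⟨r, hr₁⟩ := hβO.lift hΓ₁n.alg (g := pullback.snd β' v ≫ γ) (cart_pull.1 hβΓ.cart)
  have hw₁r : w₁ ≫ r = 𝟙 _ := by
    refine hβO.uniq hO₁n.alg ?_ ?_
    · rw [Category.assoc, hr₁, ← Category.assoc, hw₁, hw1]
      exact hβO.cart
    · rw [Category.assoc, hr₁, ← Category.assoc, hw₁, hw1, Category.id_comp]
  have hrs : IsSeparatedMor r := by
    refine K597.ProperCancel.isSeparatedMor_of_comp (g := pullback.snd β o) ?_
    rw [hr₁]
    exact sep_comp (hβΓ.proper hΓ).1 hγ.1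
  have hk₁' : (k' ≫ v') ≫ w₁ = k₁ := by
    refine hβΓ.uniq hUn.alg ?_ ?_
    · rw [Category.assoc, hw₁, hw2]
      exact cart_of_away hDk
    · rw [Category.assoc, hw₁, hw2, hk₁]
  have hw₁d : SDom w₁ := by
    rw [← hk₁'] at hk₁d
    exact hk₁d.of_comp
  have hw₁i : IsIso w₁ := isIso_section hrs hw₁r hw₁d
  -- the closed subspace
  have sqZ := IsPullback.of_hasPullback β z
  have hz₁ : RepWith @IsClosedImmersion (pullback.fst β z) := repWith_of_isPullback sqZ.flip hz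
  have hZ : IsAlgSpace Z := alg_of_closed hz hY
  have hZ₁ : IsAlgSpace (pullback β z) := alg_of_closed hz₁ hX₁n.alg
  refine ⟨X₁, pullback β o, pullback β z, Ub₁, β ≫ f, x₁, pullback.fst β z, pullback.fst β o, β' ≫ q,
    w₁ ≫ pullback.fst β' v, hX₁n.alg, hUb₁n.alg, SFT.comp hX₁n.alg hY hB.alg (sft_of_proper (hβ.proper hYn)) hf,
    hx₁o, by rw [← Category.assoc, hx₁], hz₁, ?_, ho₁, ?_,
    K597.ProperSub.isProperMor_comp hUb₁n.alg hUb hB.alg (hβ'.proper hUbn) hq,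
    open_comp (repWith_of_isIso _) hv₁, ?_, ?_⟩
  · rw [← Category.assoc, sqZ.w, Category.assoc]
    exact K597.ProperSub.isProperMor_comp hZ₁ hZ hB.alg
      (K597.Proper.isProperMor_of_isPullback hX₁n.alg hY hZ sqZ (hβ.proper hYn)) hzf
  · rw [range_of_isPullback sqO.flip, range_of_isPullback sqZ.flip, hr, Set.preimage_compl]
  · have h1 : SDom (k₁ ≫ pullback.fst β' v) := by
      refine hβ'.sdom_lift hUbn (open_comp hko hv) hkv hDkv ?_
      rw [Category.assoc, sqΓ.w, ← Category.assoc, hk₁]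
    rw [← hk₁', Category.assoc] at h1
    exact h1.of_comp
  · calc pullback.fst β o ≫ β ≫ f = pullback.snd β o ≫ o ≫ f := by
          rw [← Category.assoc, sqO.w, Category.assoc]
      _ = w ≫ v ≫ q := by rw [hcg.w, ← hw1, Category.assoc]
      _ = (w₁ ≫ pullback.fst β' v) ≫ β' ≫ q := by
          rw [Category.assoc, ← Category.assoc (pullback.fst β' v) β' q, sqΓ.w, Category.assoc, ← Category.assoc w₁,
            hw₁]

/-- Last step. -/
theorem stepC (hB : Noe B) (hX₁ : IsAlgSpace X₁) {f₁ : X₁ ⟶ B} (hf₁ : SFT f₁) {z₁ : Z ⟶ X₁}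
    (hz₁ : RepWith @IsClosedImmersion z₁) (hz₁f : IsProperMor (z₁ ≫ f₁)) {o₁ : O ⟶ X₁}
    (ho₁ : RepWith @IsOpenImmersion o₁) (hr : Set.range (Points.map o₁) = (Set.range (Points.map z₁))ᶜ)
    (hUb : IsAlgSpace Ub) {q : Ub ⟶ B} (hq : IsProperMor q) {v : Γ ⟶ Ub} (hv : RepWith @IsOpenImmersion v)
    {p : Γ ⟶ X₁} (hcg : CG q f₁ v p) {k : O ⟶ Γ} (hk : k ≫ p = o₁) (hko : RepWith @IsOpenImmersion k)
    (sq : IsPullback k (𝟙 O) p o₁) : Comp f₁ := by
  have hUbn : Noe Ub := Noe.of_sft hUb hB (sft_of_proper hq)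
  have hΓ : Noe Γ := noe_of_open hv hUbn
  have hZ : IsAlgSpace Z := alg_of_closed hz₁ hX₁
  have hp : IsProperMor p := hcg.proper_right hB.alg hUb hX₁ hq
  have sqE := IsPullback.of_hasPullback p z₁
  have hE1 : RepWith @IsClosedImmersion (pullback.fst p z₁) := repWith_of_isPullback sqE.flip hz₁
  have hE : IsAlgSpace (pullback p z₁) := alg_of_closed hE1 hΓ.alg
  have hE2 : IsProperMor (pullback.snd p z₁) := K597.Proper.isProperMor_of_isPullback hΓ.alg hX₁ hZ sqE hp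
  have hE3 : IsProperMor (pullback.fst p z₁ ≫ v) := by
    refine K597.ProperCancel.isProperMor_of_comp hE hUb hB.alg (g := q) ?_ hq.1
    rw [Category.assoc, hcg.w, ← Category.assoc, sqE.w, Category.assoc]
    exact K597.ProperSub.isProperMor_comp hE hZ hB.alg hE2 hz₁f
  have hcl : IsClosed (Set.range (Points.map (pullback.fst p z₁ ≫ v))) := by
    have h1 : IsClosedMap (Points.map (pullback.fst p z₁ ≫ v)) :=
      hE3.2.2 hUb (𝟙 _) (𝟙 _) _ (IsPullback.of_horiz_isIso ⟨by simp⟩)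
    have h2 := h1 _ isClosed_univ
    rwa [Set.image_univ] at h2
  have hn := K610.Sub.repWith_openPred hcl.isOpen_compl
  have hnr := K610.Sub.range_openPred (Set.range (Points.map (pullback.fst p z₁ ≫ v)))ᶜ
  set n := (K610.Sub.openPred (Set.range (Points.map (pullback.fst p z₁ ≫ v)))ᶜ).ι with hndef
  have hkr : ∀ y : Points Γ, y ∈ Set.range (Points.map k) ↔ Points.map v y ∈ Set.range (Points.map n) := by
    intro y
    rw [range_of_isPullback sq.flip, hnr, Set.mem_preimage, hr, Set.mem_compl_iff, Set.mem_compl_iff, not_iff_not]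
    have h1 : Points.map p y ∈ Set.range (Points.map z₁) ↔ y ∈ Set.range (Points.map (pullback.fst p z₁)) := by
      rw [range_of_isPullback sqE.flip]
      rfl
    rw [h1]
    constructor
    · rintro ⟨t, rfl⟩
      exact ⟨t, Points.map_comp _ _ _⟩
    · rintro ⟨t, ht⟩
      refine ⟨t, points_injective_of_open hv ?_⟩
      rw [← ht, Points.map_comp]
  obtain ⟨m, hm⟩ := (K610.Factor.factors_open_iff hn (k ≫ v)).2 (by
    rintro _ ⟨y, rfl⟩
    rw [Points.map_comp]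
    exact (hkr _).1 ⟨y, rfl⟩)
  have sqN : IsPullback k m v n := isPullback_of_range hn hko hm.symm fun y hy => (hkr y).2 hy
  obtain ⟨W, j, g, h1, h2, h3, h4⟩ := glue hB.alg hX₁ hUb hZ hf₁ hq ho₁ hn hv hcg sqN.flip hk (fun y hy => by
    rw [hnr, Set.mem_compl_iff, not_not] at hy
    obtain ⟨t, rfl⟩ := hy
    rw [Points.map_comp]
    exact ⟨_, rfl⟩) (z := z₁) hz₁f (fun y => by
    rw [hr]
    by_cases hy : y ∈ Set.range (Points.map z₁)
    · exact Or.inr hy
    · exact Or.inl hy)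
  exact ⟨W, j, g, h1, h2, h3, h4⟩

theorem Comp.open_comp {f : Y ⟶ B} (h : Comp f) {x : X ⟶ Y} (hx : RepWith @IsOpenImmersion x) : Comp (x ≫ f) := by
  obtain ⟨W, j, g, h1, h2, h3, h4⟩ := h
  exact ⟨W, x ≫ j, g, h1, K619.NagKit.open_comp hx h2, h3, by rw [Category.assoc, h4]⟩

/-- **The gluing theorem.** -/
theorem comp_of_glue (H : T3 S) (HB : BlEx S) (hB : Noe B) (hY : IsAlgSpace Y) {f : Y ⟶ B} (hf : SFT f) {x : X ⟶ Y}
    (hx : RepWith @IsOpenImmersion x) {z : Z ⟶ Y} (hz : RepWith @IsClosedImmersion z) (hzf : IsProperMor (z ≫ f))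
    {u : U ⟶ X} (hu : RepWith @IsOpenImmersion u)
    (hr : Set.range (Points.map u) = Points.map x ⁻¹' (Set.range (Points.map z))ᶜ) (hc : Comp (u ≫ x ≫ f)) :
    Comp (x ≫ f) := by
  have hYn : Noe Y := Noe.of_sft hY hB hf
  have hXn : Noe X := noe_of_open hx hYn
  have hUn : Noe U := noe_of_open hu hXn
  have hZ := alg_of_closed hz hY
  -- closure of `X`
  obtain ⟨Y', i, x', hY', hi, hxi, hxd⟩ := exists_closure hXn hYn x
  have hmi := mono_of_repWith_isClosedImmersion hi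
  have hx' : RepWith @IsOpenImmersion x' := by
    rw [← hxi] at hx
    exact rep_of_comp_mono hx
  have sqZ := IsPullback.of_hasPullback i z
  have hz' : RepWith @IsClosedImmersion (pullback.fst i z) := repWith_of_isPullback sqZ.flip hz
  have hz'' : RepWith @IsClosedImmersion (pullback.snd i z) := repWith_of_isPullback sqZ hi
  have hzf' : IsProperMor (pullback.fst i z ≫ i ≫ f) := by
    rw [← Category.assoc, sqZ.w, Category.assoc]
    exact K597.ProperSub.isProperMor_comp (alg_of_closed hz' hY') hZ hB.alg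
      (K597.ProperSub.isProperMor_of_closed hZ hz'') hzf
  have hif : SFT (i ≫ f) := SFT.comp hY' hY hB.alg (sft_of_closed hi hY) hf
  have hclz : IsClosed (Set.range (Points.map (pullback.fst i z))) := K598.Red.isClosed_range hz'
  have ho := K610.Sub.repWith_openPred hclz.isOpen_compl
  have hor := K610.Sub.range_openPred (Set.range (Points.map (pullback.fst i z)))ᶜ
  set o := (K610.Sub.openPred (Set.range (Points.map (pullback.fst i z)))ᶜ).ι with hodef
  have hzr : Set.range (Points.map (pullback.fst i z)) = Points.map i ⁻¹' Set.range (Points.map z) :=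
    range_of_isPullback sqZ.flip
  have hxr : ∀ y : Points X, Points.map x' y ∈ Set.range (Points.map o) ↔ y ∈ Set.range (Points.map u) := by
    intro y
    rw [hor, hzr, hr, Set.mem_preimage, ← Set.preimage_compl, Set.mem_preimage, ← Points.map_comp, hxi]
  obtain ⟨uO, huO⟩ := (K610.Factor.factors_open_iff ho (u ≫ x')).2 (by
    rintro _ ⟨y, rfl⟩
    rw [Points.map_comp]
    exact (hxr _).2 ⟨y, rfl⟩)
  have sqU : IsPullback u uO x' o := isPullback_of_range ho hu huO.symm fun y hy => (hxr y).1 hy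
  -- closure of `U` in a compactification
  obtain ⟨Ub₀, j₀, q₀, hUb₀, hj₀, hq₀, hjq⟩ := hc
  have hUb₀n : Noe Ub₀ := Noe.of_sft hUb₀ hB (sft_of_proper hq₀)
  obtain ⟨Ub, i', uB, hUb, hi', hui, hud⟩ := exists_closure hUn hUb₀n j₀
  have hmi' := mono_of_repWith_isClosedImmersion hi'
  have huB : RepWith @IsOpenImmersion uB := by
    rw [← hui] at hj₀
    exact rep_of_comp_mono hj₀
  have hq : IsProperMor (i' ≫ q₀) :=
    K597.ProperSub.isProperMor_comp hUb hUb₀ hB.alg (K597.ProperSub.isProperMor_of_closed hUb₀ hi') hq₀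
  have hY'n : Noe Y' := Noe.of_sft hY' hB hif
  have hOn : Noe (K610.Sub.openPred (Set.range (Points.map (pullback.fst i z)))ᶜ).sub := noe_of_open ho hY'n
  have hof : SFT (o ≫ i ≫ f) := SFT.comp hOn.alg hY' hB.alg (sft_of_open ho hY'n) hif
  have huOo : RepWith @IsOpenImmersion uO := repWith_of_isPullback sqU hx'
  obtain ⟨Ub', Γ, q', v, γ, k, a1, a2, a3, a4, a5, a6, a7, a8, a9⟩ :=
    stepA H HB hB hUb hq huB hud hOn.alg hof huOo (by
      rw [← Category.assoc, huO, Category.assoc, ← Category.assoc x', hxi, ← hjq, ← hui, Category.assoc])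
  obtain ⟨X₁, O₁, Z₁, Ub₁, f₁, x₁, z₁, o₁, q₁, e, b1, b2, b3, b4, b5, b6, b7, b8, b9, b10, b11, b12, b13⟩ :=
    stepB H HB hB hY' hif hx' hxd hz' hzf' ho hor sqU a1 a2 a3 a4 a5 a6 a7 a8
  obtain ⟨Ub₂, Γ₂, q₂, v₂, p, k₂, c1, c2, c3, c4, c5, c6, c7, c8, c9⟩ :=
    stepA H HB hB b2 b10 b11 b12 b1 b3 b8 b13
  have hfin : Comp f₁ := stepC hB b1 b3 b6 b7 b8 b9 c1 c2 c3 c4 c5 c6 c9
  have := hfin.open_comp b4
  rw [b5, ← Category.assoc, hxi] at this
  exact this

end

end K619.NagMain
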