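import Groth.Agent.AlgSp.K619.FinFib
import Groth.Agent.AlgSp.K619.Residual
import Groth.Agent.AlgSp.K619.MonoDisc
import Groth.Agent.AlgSp.K609.Loc
import Groth.Agent.AlgSp.K609.Sep

/-!
# Quasi-compact points and finiteness of fibres

* `repWith_of_affine_charts` : `RepWith P f` for `f : F ⟶ X`, `X` an algebraic space, may be tested on affine étale
  charts of `X`.
* `repWith_quasiCompact_of_mono` : a mono field point with finite fibres is quasi-compact.
* `finite_fibre_R` : for a quasi-compact field point, the fibre of `U ×_X U` is finite too.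
-/

set_option autoImplicit false
universe u
open CategoryTheory CategoryTheory.Limits AlgebraicGeometry Opposite Topology

namespace K619.QCPoint

open AlgSp K621.Base K619.FinFib K621.Decent K609.Sep

variable {S : Scheme.{u}}

/-- `RepWith P f` for `f : F ⟶ X`, `X` an algebraic space, may be tested on affine étale charts of `X`. -/
theorem repWith_of_affine_charts (P : MorphismProperty Scheme.{u}) [IsZariskiLocalAtTarget P]
    [P.IsStableUnderBaseChange] [P.DescendsAlong Fppf]
    {X F : Sp S} (hX : IsAlgSpace X) {f : F ⟶ X} (hf : Representable f)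
    (h : ∀ ⦃V E : Over S⦄ (a : (yon S).obj V ⟶ X) (fst : (yon S).obj E ⟶ F) (snd : E ⟶ V), IsAffine V.left →
      RepWith @Etale a → IsPullback fst ((yon S).map snd) f a → P snd.left) : RepWith P f := by
  obtain ⟨U, a, ha, hs⟩ := hX.atlas
  obtain ⟨E, snd, fst, sq⟩ := hf a
  refine K609.Loc.repWith_of_desc P Fppf hf (repWith_fppf_of_etale ha hs) sq ?_
  rw [repWith_yon_map_iff]
  rw [IsZariskiLocalAtTarget.iff_of_openCover (P := P) U.left.affineCover]
  intro i
  let T' : Over S := Over.mk (U.left.affineCover.f i ≫ U.hom)
  let t : T' ⟶ U := Over.homMk (U.left.affineCover.f i) rfl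
  have h1 : IsPullback ((yon S).map (pullback.fst snd t)) ((yon S).map (pullback.snd snd t))
      ((yon S).map snd) ((yon S).map t) := (IsPullback.of_hasPullback snd t).map (yon S)
  have h2 := h1.paste_horiz sq
  have ht : RepWith @Etale ((yon S).map t ≫ a) :=
    repWith_etale_comp (repWith_etale_map (show Etale (U.left.affineCover.f i) from inferInstance)) ha
  have hP : P (pullback.snd snd t).left :=
    h _ _ _ (inferInstanceAs (IsAffine (U.left.affineCover.X i))) ht h2
  have h3 : IsPullback (pullback.fst snd t).left (pullback.snd snd t).left snd.left t.left :=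
    (IsPullback.of_hasPullback snd t).map (Over.forget S)
  change P (pullback.snd snd.left t.left)
  rw [← P.cancel_left_of_respectsIso h3.isoPullback.hom, h3.isoPullback_hom_snd]
  exact hP

/-- The fibre scheme of a field point over an étale chart. -/
theorem exists_fibre {X : Sp S} (p : FieldPt X) {U : Over S}
    (a : (yon S).obj U ⟶ X) (ha : RepWith @Etale a) :
    ∃ (E : Over S) (e : E ⟶ p.pt) (i : E ⟶ U),
      IsPullback ((yon S).map e) ((yon S).map i) p.toHom a ∧ Etale e.left ∧
      (∀ u : ↥U.left, Points.ofPt a u = Points.mk p ↔ u ∈ Set.range i.left) := by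
  obtain ⟨E, i, e, sq, he⟩ := exists_pullback_of_repWith ha p.toHom
  refine ⟨E, e, i, sq.flip, he, fun u => ?_⟩
  let t : ↥p.pt.left := (IsLocalRing.closedPoint p.K : ↥(Spec (CommRingCat.of p.K)))
  have h1 : Points.mk p = Points.ofPt p.toHom t := (Points.ofPt_toHom p _).symm
  rw [h1, eq_comm, K609.Points.ofPt_eq_ofPt_iff sq.flip t u]
  constructor
  · rintro ⟨r, -, hr⟩
    exact ⟨r, hr⟩
  · rintro ⟨r, hr⟩
    exact ⟨r, Subsingleton.elim (α := PrimeSpectrum p.K) _ _, hr⟩

/-- A mono field point with finite fibres in affine étale charts is quasi-compact. -/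
theorem repWith_quasiCompact_of_mono {X : Sp S} (hX : IsAlgSpace X) (p : FieldPt X) (hm : Mono p.toHom)
    (hfin : FinFibres X (Points.mk p)) : RepWith @QuasiCompact p.toHom := by
  have := quasiCompact_descendsAlong.{u}
  refine repWith_of_affine_charts @QuasiCompact hX (hX.representable_from_yon p.toHom) ?_
  intro V E a fst snd hV ha sq
  obtain ⟨e, rfl⟩ := (yon S).map_surjective fst
  have h1 : (Points.ofPt a ⁻¹' {Points.mk p}).Finite := hfin V a hV ha
  have h2 : Mono snd.left := K618.FieldFib.mono_left_of_isPullback sq
  have h3 : Finite ↥E.left := by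
    have h4 : ∀ z : ↥E.left, snd.left z ∈ Points.ofPt a ⁻¹' {Points.mk p} := by
      intro z
      have h5 : Points.ofPt a (snd.left z) = Points.ofPt p.toHom (e.left z) :=
        (ofPt_eq_of_isPullback sq.toCommSq z).symm
      rw [Set.mem_preimage, h5]
      exact Points.ofPt_toHom p _
    have := h1.to_subtype
    exact Finite.of_injective (fun z => (⟨snd.left z, h4 z⟩ : Points.ofPt a ⁻¹' {Points.mk p}))
      (fun z w hzw => snd.left.injective (congrArg Subtype.val hzw))
  exact (quasiCompact_iff_compactSpace snd.left).2 inferInstance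

/-- For a quasi-compact field point, the fibre of `U ×_X U` is finite. -/
theorem finite_fibre_R {X : Sp S} (p : FieldPt X) (hq : RepWith @QuasiCompact p.toHom) {U R : Over S}
    (a : (yon S).obj U ⟶ X) (ha : RepWith @Etale a) [CompactSpace ↥U.left] {s t : R ⟶ U}
    (sqR : IsPullback ((yon S).map t) ((yon S).map s) a a) :
    (Points.ofPt ((yon S).map t ≫ a) ⁻¹' {Points.mk p}).Finite := by
  obtain ⟨E, e, i, sqE, he, hE⟩ := exists_fibre p a ha
  have hi : QuasiCompact i.left := hq.2 a _ i sqE
  have hcE : CompactSpace ↥E.left := QuasiCompact.compactSpace_of_compactSpace i.left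
  -- `E₂ = R ×_{t, U} E`
  have sq2 : IsPullback (pullback.fst t i) (pullback.snd t i) t i := IsPullback.of_hasPullback t i
  have h1 : IsPullback ((yon S).map (pullback.snd t i)) ((yon S).map (pullback.fst t i) ≫ (yon S).map s)
      ((yon S).map i ≫ a) a := (sq2.map (yon S)).flip.paste_vert sqR
  -- hence the base change of `e` along `e`
  have h2 : ((yon S).map e ≫ p.toHom) = (yon S).map i ≫ a := sqE.w
  obtain ⟨c, hc⟩ := (yon S).map_surjective (sqE.lift ((yon S).map (pullback.snd t i) ≫ (yon S).map e)
    ((yon S).map (pullback.fst t i) ≫ (yon S).map s) (by rw [Category.assoc, h2, h1.w]))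
  have h3 : IsPullback ((yon S).map (pullback.snd t i)) ((yon S).map c) ((yon S).map e) ((yon S).map e) := by
    have h4 : (yon S).map c ≫ (yon S).map i = (yon S).map (pullback.fst t i) ≫ (yon S).map s := by
      rw [hc, sqE.lift_snd]
    have h5 : (yon S).map c ≫ (yon S).map e = (yon S).map (pullback.snd t i) ≫ (yon S).map e := by
      rw [hc, sqE.lift_fst]
    refine IsPullback.flip (IsPullback.of_right (h₁₂ := (yon S).map i) (h₂₂ := p.toHom) (v₁₃ := a) ?_ h5
      sqE.flip)
    rw [h4, h2]
    exact h1.flip
  have h6 : IsPullback (pullback.snd t i) c e e := IsPullback.of_map (yon S)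
    ((yon S).map_injective (by rw [Functor.map_comp, Functor.map_comp]; exact h3.w)) h3
  have h7 : IsPullback (pullback.snd t i).left c.left e.left e.left := h6.map (Over.forget S)
  have hqe : QuasiCompact e.left := by
    have : IsAffine p.pt.left := inferInstanceAs (IsAffine (Spec (CommRingCat.of p.K)))
    exact (quasiCompact_iff_compactSpace e.left).2 hcE
  have h8 : QuasiCompact (pullback.snd t i).left := MorphismProperty.of_isPullback h7.flip hqe
  have h9 : Etale (pullback.snd t i).left := MorphismProperty.of_isPullback h7.flip he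
  have h10 : CompactSpace ↥(pullback t i).left :=
    QuasiCompact.compactSpace_of_compactSpace (pullback.snd t i).left
  have h11 : Etale ((pullback.snd t i).left ≫ e.left) := inferInstance
  have h12 : Finite ↥(pullback t i).left :=
    K618.Sch.finite_of_etale_field (k := p.K) ((pullback.snd t i).left ≫ e.left)
  refine (Set.finite_range (pullback.fst t i).left).subset ?_
  intro r hr
  have h13 : Points.ofPt a (t.left r) = Points.mk p := by
    rw [← ofPt_comp]
    exact hr
  obtain ⟨z, hz⟩ := (hE _).1 h13
  obtain ⟨w, hw1, -⟩ := Scheme.exists_preimage_of_isPullback (sq2.map (Over.forget S)) r z hz.symm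
  exact ⟨w, hw1⟩

/-- The condition (1): fibres over `x` in affine étale charts `U` and in `U ×_X U` are finite. -/
def FinFibres2 (X : Sp S) (x : Points X) : Prop :=
  ∀ (U : Over S) (φ : (yon S).obj U ⟶ X), IsAffine U.left → RepWith @Etale φ →
    ∀ (R : Over S) (s t : R ⟶ U), IsPullback ((yon S).map t) ((yon S).map s) φ φ →
      (Points.ofPt φ ⁻¹' {x}).Finite ∧ (Points.ofPt ((yon S).map t ≫ φ) ⁻¹' {x}).Finite

theorem finFibres2_of_qc {X : Sp S} (p : FieldPt X) (hq : RepWith @QuasiCompact p.toHom) :
    FinFibres2 X (Points.mk p) := by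
  intro U φ hU hφ R s t sq
  exact ⟨K618.FieldFib.finite_fibre p hq φ hφ, finite_fibre_R p hq φ hφ sq⟩

theorem FinFibres2.finFibres {X : Sp S} (hX : IsAlgSpace X) {x : Points X} (h : FinFibres2 X x) :
    FinFibres X x := by
  intro V b hV hb
  obtain ⟨R, s, t, sq⟩ := exists_pullback hX b b
  exact (h V b hV hb R t s sq).1

/-- If the fibres over `x` of `U` and `U ×_X U` are finite, then `x` is represented by a field point `q` with
`q ×_X q` finite étale over the field. -/
theorem exists_fieldPt_finite_etale {X : Sp S} (hX : IsAlgSpace X) {x : Points X} (h : FinFibres2 X x) :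
    ∃ (q : FieldPt X) (R : Over S) (s t : R ⟶ q.pt), Points.mk q = x ∧
      IsPullback ((yon S).map t) ((yon S).map s) q.toHom q.toHom ∧ Etale t.left ∧ Etale s.left ∧
      CompactSpace ↥R.left := by
  obtain ⟨U₀, a₀, u₀, ha₀, hu₀⟩ := exists_chart hX x
  obtain ⟨W, huW, -, hW⟩ := exists_affine_openChart u₀ ⊤ trivial
  obtain ⟨U, a, u, ha, hu, hUa⟩ : ∃ (U : Over S) (a : (yon S).obj U ⟶ X) (u : ↥U.left), RepWith @Etale a ∧
      Points.ofPt a u = x ∧ IsAffine U.left :=
    ⟨openChart U₀ W, _, (⟨u₀, huW⟩ : ↥W), repWith_openChart ha₀ W, by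
      rw [← hu₀]; exact ofPt_openChart a₀ W ⟨u₀, huW⟩, hW⟩
  obtain ⟨R, t, s, sq⟩ := exists_pullback hX a a
  have hfin := (h U a hUa ha R s t sq).2
  have hsR : Etale s.left := ha.2 _ _ _ sq
  have htR : Etale t.left := ha.2 _ _ _ sq.flip
  let k : Over S := Over.mk (U.left.fromSpecResidueField u ≫ U.hom)
  let c : k ⟶ U := Over.homMk (U.left.fromSpecResidueField u) rfl
  have hcm : Mono c.left := inferInstanceAs (Mono (U.left.fromSpecResidueField u))
  -- `R₁ = κ ×_X U`
  have sq1 : IsPullback (pullback.fst t c) (pullback.snd t c) t c := IsPullback.of_hasPullback t c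
  -- `R₂ = κ ×_X κ`
  let d : pullback t c ⟶ U := pullback.fst t c ≫ s
  have sq2 : IsPullback (pullback.fst d c) (pullback.snd d c) d c := IsPullback.of_hasPullback d c
  have h1 : IsPullback ((yon S).map (pullback.snd t c)) ((yon S).map d) ((yon S).map c ≫ a) a := by
    have := (sq1.map (yon S)).flip.paste_vert sq
    rwa [← Functor.map_comp] at this
  have h2 : IsPullback ((yon S).map (pullback.fst d c ≫ pullback.snd t c)) ((yon S).map (pullback.snd d c))
      ((yon S).map c ≫ a) ((yon S).map c ≫ a) := by
    have := (sq2.map (yon S)).flip.paste_vert h1.flip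
    rw [← Functor.map_comp] at this
    exact this.flip
  let κ : Type u := ↥(U.left.residueField u)
  -- `R₁` is étale over `κ`
  have e1 : Etale (pullback.snd t c).left :=
    MorphismProperty.of_isPullback (sq1.map (Over.forget S)) htR
  let g1 : (pullback t c).left ⟶ Spec (CommRingCat.of κ) := (pullback.snd t c).left
  have e1' : Etale g1 := e1
  have hdisc : DiscreteTopology ↥(pullback t c).left := K618.Sch.discreteTopology_of_etale_field g1
  have hred : IsReduced (pullback t c).left := K619.EtField.isReduced_of_etale g1
  have m2 : Mono (pullback.fst d c).left :=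
    MorphismProperty.of_isPullback (P := MorphismProperty.monomorphisms Scheme.{u})
      (sq2.map (Over.forget S)).flip hcm
  have m1 : Mono (pullback.fst t c).left :=
    MorphismProperty.of_isPullback (P := MorphismProperty.monomorphisms Scheme.{u})
      (sq1.map (Over.forget S)).flip hcm
  have o2 : IsOpenImmersion (pullback.fst d c).left :=
    K619.MonoDisc.isOpenImmersion_of_mono_of_discrete _
  have e2 : Etale (pullback.fst d c ≫ pullback.snd t c).left := by
    rw [Over.comp_left]
    infer_instance
  have hfinR : Finite ↥(pullback d c).left := by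
    have h4 : ∀ z : ↥(pullback d c).left, (pullback.fst t c).left ((pullback.fst d c).left z) ∈
        Points.ofPt ((yon S).map t ≫ a) ⁻¹' {x} := by
      intro z
      rw [Set.mem_preimage, ofPt_comp]
      have h5 : t.left ((pullback.fst t c).left ((pullback.fst d c).left z)) = u := by
        have h6 : t.left ((pullback.fst t c).left ((pullback.fst d c).left z)) =
            c.left ((pullback.snd t c).left ((pullback.fst d c).left z)) := by
          have h7 := congrArg (fun f => f.left ((pullback.fst d c).left z)) sq1.w
          exact h7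
        rw [h6]
        exact U.left.fromSpecResidueField_apply u _
      rw [h5]
      exact hu
    have := hfin.to_subtype
    exact Finite.of_injective (fun z => (⟨(pullback.fst t c).left ((pullback.fst d c).left z), h4 z⟩ :
        Points.ofPt ((yon S).map t ≫ a) ⁻¹' {x}))
      (fun z w hzw => (pullback.fst d c).left.injective
        ((pullback.fst t c).left.injective (congrArg Subtype.val hzw)))
  have hq : (FieldPt.ofPt a u).toHom = (yon S).map c ≫ a := FieldPt.toHom_ofPt a u
  have e3 : Etale (pullback.snd d c).left := by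
    let σ := h2.flip.isoIsPullback _ _ h2
    obtain ⟨σ', hσ'⟩ := (yon S).map_surjective σ.hom
    have hσ : IsIso σ' := by
      have : IsIso ((yon S).map σ') := by rw [hσ']; infer_instance
      exact isIso_of_fully_faithful (yon S) σ'
    have h8 : σ' ≫ (pullback.fst d c ≫ pullback.snd t c) = pullback.snd d c := by
      apply (yon S).map_injective
      rw [Functor.map_comp, hσ']
      exact h2.flip.isoIsPullback_hom_fst _ _ h2
    rw [← h8]
    have h9 : IsIso σ'.left := (inferInstance : IsIso ((Over.forget S).map σ'))
    exact MorphismProperty.comp_mem @Etale σ'.left _ inferInstance e2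
  refine ⟨FieldPt.ofPt a u, pullback d c, pullback.snd d c, pullback.fst d c ≫ pullback.snd t c, hu, ?_, e2, e3,
    inferInstance⟩
  rw [hq]
  exact h2

end K619.QCPoint
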