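import Groth.Agent.AlgSp.K621.Base
import Groth.Agent.AlgSp.K609.Sep

/-!
# Wide fibre products of an étale chart over an algebraic space

* `IsWP a W π` : `h_W` is the fibre product over `X` of the family `(a : h_U ⟶ X)_{i : I}`.
* `exists_isWP` : for `a` étale from an affine scheme and `I` finite nonempty it exists, is separated and étale over `U`.
* `IsWP.perm` : the action of permutations of `I`.
-/

set_option autoImplicit false
universe u
open CategoryTheory CategoryTheory.Limits AlgebraicGeometry Opposite Topology

namespace K619.WideProd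

open AlgSp K621.Base K609.Sep

variable {S : Scheme.{u}}

/-- `h_W` is the fibre product over `X` of the family `(a : h_U ⟶ X)_{i : I}`. -/
structure IsWP {X : Sp S} {U : Over S} (a : (yon S).obj U ⟶ X) {I : Type u} (W : Over S) (π : I → (W ⟶ U)) :
    Prop where
  w : ∀ i j, (yon S).map (π i) ≫ a = (yon S).map (π j) ≫ a
  lift : ∀ {T : Over S} (f : I → (T ⟶ U)), (∀ i j, (yon S).map (f i) ≫ a = (yon S).map (f j) ≫ a) →
    ∃ l : T ⟶ W, ∀ i, l ≫ π i = f i
  ext : ∀ {T : Over S} (l l' : T ⟶ W), (∀ i, l ≫ π i = l' ≫ π i) → l = l'

theorem exists_isWP_option {X : Sp S} {U : Over S} [IsAffine U.left] {a : (yon S).obj U ⟶ X}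
    (ha : RepWith @Etale a) (I : Type u) [Finite I] :
    ∃ (W : Over S) (π : Option I → (W ⟶ U)), IsWP a W π ∧ (∀ i, Etale (π i).left) ∧ W.left.IsSeparated := by
  have : IsSeparated U.hom := inferInstance
  induction I using Finite.induction_empty_option with
  | of_equiv e h =>
    obtain ⟨W, π, h1, h2, h3⟩ := h
    refine ⟨W, fun j => π (e.optionCongr.symm j), ⟨fun i j => h1.w _ _, fun {T} f hf => ?_, fun l l' hl => ?_⟩,
      fun i => h2 _, h3⟩
    · obtain ⟨l, hl⟩ := h1.lift (fun i => f (e.optionCongr i)) fun i j => hf _ _
      refine ⟨l, fun j => ?_⟩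
      rw [hl, Equiv.apply_symm_apply]
    · refine h1.ext l l' fun i => ?_
      have := hl (e.optionCongr i)
      rwa [Equiv.symm_apply_apply] at this
  | h_empty =>
    refine ⟨U, fun _ => 𝟙 U, ⟨fun i j => rfl, fun {T} f hf => ⟨f none, fun i => ?_⟩, fun l l' hl => ?_⟩,
      fun i => ?_, inferInstance⟩
    · rw [Category.comp_id]
      match i with
      | none => rfl
    · simpa using hl none
    · change Etale (𝟙 U.left)
      infer_instance
  | h_option h =>
    obtain ⟨W, π, h1, h2, h3⟩ := h
    let b : (yon S).obj W ⟶ X := (yon S).map (π none) ≫ a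
    have hb : RepWith @Etale b := repWith_etale_comp (repWith_etale_map (h2 none)) ha
    obtain ⟨W', q, p, sq, hp⟩ := exists_pullback_of_repWith ha b
    have hq : Etale q.left := hb.2 _ _ _ sq.flip
    refine ⟨W', fun o => match o with
      | none => q
      | some o => p ≫ π o, ⟨?_, ?_, ?_⟩, ?_, ?_⟩
    · have key : ∀ o : Option (Option _), (yon S).map ((fun o : Option (Option _) => match o with
          | none => q
          | some o => p ≫ π o) o) ≫ a = (yon S).map q ≫ a := by
        intro o
        match o with
        | none => rfl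
        | some o =>
          change (yon S).map (p ≫ π o) ≫ a = (yon S).map q ≫ a
          rw [Functor.map_comp, Category.assoc, h1.w o none, sq.w]
      intro i j
      exact (key i).trans (key j).symm
    · intro T f hf
      obtain ⟨l, hl⟩ := h1.lift (fun o => f (some o)) fun i j => hf _ _
      obtain ⟨m, hm⟩ := (yon S).map_surjective (sq.lift ((yon S).map (f none)) ((yon S).map l) (by
        change _ = (yon S).map l ≫ (yon S).map (π none) ≫ a
        rw [← Category.assoc, ← Functor.map_comp, hl]
        exact hf _ _))
      have hm1 : m ≫ q = f none := (yon S).map_injective (by rw [Functor.map_comp, hm, sq.lift_fst])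
      have hm2 : m ≫ p = l := (yon S).map_injective (by rw [Functor.map_comp, hm, sq.lift_snd])
      refine ⟨m, fun o => ?_⟩
      match o with
      | none => exact hm1
      | some o =>
        change m ≫ p ≫ π o = f (some o)
        rw [← Category.assoc, hm2, hl]
    · intro T l l' hl
      have h4 : l ≫ q = l' ≫ q := hl none
      have h5 : l ≫ p = l' ≫ p := by
        refine h1.ext _ _ fun i => ?_
        rw [Category.assoc, Category.assoc]
        exact hl (some i)
      apply (yon S).map_injective
      apply sq.hom_ext
      · rw [← Functor.map_comp, ← Functor.map_comp, h4]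
      · rw [← Functor.map_comp, ← Functor.map_comp, h5]
    · intro o
      match o with
      | none => exact hq
      | some o =>
        change Etale (p.left ≫ (π o).left)
        have := h2 o
        infer_instance
    · have h6 : IsSeparated p.left := isSeparated_snd_left sq
      exact ⟨by
        rw [← terminal.comp_from p.left]
        have := h3.1
        infer_instance⟩

theorem exists_isWP {X : Sp S} {U : Over S} [IsAffine U.left] {a : (yon S).obj U ⟶ X}
    (ha : RepWith @Etale a) (I : Type u) [Finite I] [Nonempty I] :
    ∃ (W : Over S) (π : I → (W ⟶ U)), IsWP a W π ∧ (∀ i, Etale (π i).left) ∧ W.left.IsSeparated := by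
  classical
  obtain ⟨i0⟩ := ‹Nonempty I›
  obtain ⟨W, π, h1, h2, h3⟩ := exists_isWP_option ha {i : I // i ≠ i0}
  let e : Option {i : I // i ≠ i0} ≃ I := Equiv.optionSubtypeNe i0
  refine ⟨W, fun j => π (e.symm j), ⟨fun i j => h1.w _ _, fun {T} f hf => ?_, fun l l' hl => ?_⟩,
    fun i => h2 _, h3⟩
  · obtain ⟨l, hl⟩ := h1.lift (fun i => f (e i)) fun i j => hf _ _
    refine ⟨l, fun j => ?_⟩
    rw [hl, Equiv.apply_symm_apply]
  · refine h1.ext l l' fun i => ?_
    have := hl (e i)
    rwa [Equiv.symm_apply_apply] at this

namespace IsWP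

variable {X : Sp S} {U : Over S} {a : (yon S).obj U ⟶ X} {I : Type u} {W : Over S} {π : I → (W ⟶ U)}

/-- The endomorphism of `W` given by a map `I → I`. -/
noncomputable def perm (h : IsWP a W π) (e : I → I) : W ⟶ W :=
  (h.lift (fun i => π (e i)) fun i j => h.w _ _).choose

theorem perm_π (h : IsWP a W π) (e : I → I) (i : I) : h.perm e ≫ π i = π (e i) :=
  (h.lift (fun i => π (e i)) fun i j => h.w _ _).choose_spec i

theorem perm_comp (h : IsWP a W π) (e e' : I → I) : h.perm e ≫ h.perm e' = h.perm (e ∘ e') := by
  apply h.ext
  intro i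
  rw [Category.assoc, h.perm_π, h.perm_π, h.perm_π]
  rfl

theorem perm_id (h : IsWP a W π) : h.perm id = 𝟙 W := by
  apply h.ext
  intro i
  rw [h.perm_π, Category.id_comp]
  rfl

/-- The action of a group acting on the index set. -/
noncomputable def act (h : IsWP a W π) {G : Type u} [Group G] [MulAction G I] : G →* Aut W where
  toFun g :=
    { hom := h.perm (fun i => g⁻¹ • i)
      inv := h.perm (fun i => g • i)
      hom_inv_id := by
        rw [h.perm_comp, ← h.perm_id]
        congr 1
        funext i
        exact inv_smul_smul g i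
      inv_hom_id := by
        rw [h.perm_comp, ← h.perm_id]
        congr 1
        funext i
        exact smul_inv_smul g i }
  map_one' := by
    ext1
    change h.perm (fun i => (1 : G)⁻¹ • i) = 𝟙 W
    rw [← h.perm_id]
    congr 1
    funext i
    rw [inv_one, one_smul]
    rfl
  map_mul' g g' := by
    ext1
    change h.perm (fun i => (g * g')⁻¹ • i) = h.perm (fun i => g'⁻¹ • i) ≫ h.perm (fun i => g⁻¹ • i)
    rw [h.perm_comp]
    congr 1
    funext i
    rw [mul_inv_rev, mul_smul]
    rfl

theorem act_hom (h : IsWP a W π) {G : Type u} [Group G] [MulAction G I] (g : G) :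
    (h.act g).hom = h.perm (fun i => g⁻¹ • i) := rfl

theorem act_π (h : IsWP a W π) {G : Type u} [Group G] [MulAction G I] (g : G) (i : I) :
    (h.act g).hom ≫ π i = π (g⁻¹ • i) := h.perm_π _ _

end IsWP

end K619.WideProd
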